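import Mathlib

/-! # Relative dimension of nested subspaces (helper4) -/

namespace Groth.Agent.Lib.Helper4.FF

variable {k V : Type*} [Field k] [AddCommGroup V] [Module k V]

/-- `C = A ⊕ W` with `W` of dimension `d`. -/
def IsRelDim (A C : Submodule k V) (d : ℕ) : Prop :=
  ∃ W : Submodule k V, Module.Finite k W ∧ Module.finrank k W = d ∧ A ⊓ W = ⊥ ∧ A ⊔ W = C

lemma IsRelDim.le {A C : Submodule k V} {d : ℕ} (h : IsRelDim A C d) : A ≤ C := by
  obtain ⟨W, -, -, -, rfl⟩ := h
  exact le_sup_left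

lemma IsRelDim.refl (A : Submodule k V) : IsRelDim A A 0 :=
  ⟨⊥, inferInstance, by simp, by simp, by simp⟩

lemma IsRelDim.trans {A B C : Submodule k V} {d₁ d₂ : ℕ} (h₁ : IsRelDim A B d₁)
    (h₂ : IsRelDim B C d₂) : IsRelDim A C (d₁ + d₂) := by
  have h₁le : A ≤ B := h₁.le
  obtain ⟨W₁, hf₁, hd₁, hi₁, hs₁⟩ := h₁
  obtain ⟨W₂, hf₂, hd₂, hi₂, hs₂⟩ := h₂
  have hW₁B : W₁ ≤ B := hs₁ ▸ le_sup_right
  have hW : W₁ ⊓ W₂ = ⊥ := by
    rw [eq_bot_iff, ← hi₂]
    exact inf_le_inf_right _ hW₁B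
  refine ⟨W₁ ⊔ W₂, inferInstance, ?_, ?_, ?_⟩
  · have := Submodule.finrank_sup_add_finrank_inf_eq W₁ W₂
    rw [hW, finrank_bot, add_zero] at this
    rw [this, hd₁, hd₂]
  · rw [eq_bot_iff]
    intro x hx
    obtain ⟨hxA, hxW⟩ := Submodule.mem_inf.mp hx
    obtain ⟨w₁, hw₁, w₂, hw₂, rfl⟩ := Submodule.mem_sup.mp hxW
    have hw₂B : w₂ ∈ B := by
      have : w₂ = (w₁ + w₂) - w₁ := by abel
      rw [this]
      exact B.sub_mem (h₁le hxA) (hW₁B hw₁)
    have hw₂0 : w₂ = 0 := by
      have : w₂ ∈ B ⊓ W₂ := ⟨hw₂B, hw₂⟩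
      rw [hi₂] at this
      exact (Submodule.mem_bot k).mp this
    subst hw₂0
    rw [add_zero] at hxA ⊢
    have : w₁ ∈ A ⊓ W₁ := ⟨hxA, hw₁⟩
    rw [hi₁] at this
    exact this
  · rw [← sup_assoc, hs₁, hs₂]

/-- Bridge to quotients. -/
theorem IsRelDim.quotient {A C : Submodule k V} {d : ℕ} (h : IsRelDim A C d) :
    Module.Finite k (C ⧸ Submodule.comap C.subtype A) ∧
      Module.finrank k (C ⧸ Submodule.comap C.subtype A) = d := by
  obtain ⟨W, hf, hd, hi, hs⟩ := h
  have hWC : W ≤ C := hs ▸ le_sup_right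
  let f : W →ₗ[k] (C ⧸ Submodule.comap C.subtype A) :=
    (Submodule.mkQ _) ∘ₗ (Submodule.inclusion hWC)
  have hinj : Function.Injective f := by
    rw [← LinearMap.ker_eq_bot, LinearMap.ker_eq_bot']
    intro w hw
    have h1 : (Submodule.inclusion hWC w) ∈ Submodule.comap C.subtype A :=
      (Submodule.Quotient.mk_eq_zero _).mp hw
    have h2 : (w : V) ∈ A ⊓ W := ⟨h1, w.2⟩
    rw [hi] at h2
    exact Subtype.ext ((Submodule.mem_bot k).mp h2)
  have hsurj : Function.Surjective f := by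
    intro q
    obtain ⟨c, rfl⟩ := Submodule.mkQ_surjective _ q
    have hc : (c : V) ∈ A ⊔ W := hs ▸ c.2
    obtain ⟨a, ha, w, hw, hcw⟩ := Submodule.mem_sup.mp hc
    refine ⟨⟨w, hw⟩, ?_⟩
    change Submodule.Quotient.mk _ = Submodule.Quotient.mk _
    rw [Submodule.Quotient.eq]
    change ((⟨w, hWC hw⟩ : C) - c : C).1 ∈ A
    have : ((⟨w, hWC hw⟩ : C) - c : C).1 = -a := by
      change w - (c : V) = -a
      rw [← hcw]; abel
    rw [this]
    exact A.neg_mem ha
  let e := LinearEquiv.ofBijective f ⟨hinj, hsurj⟩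
  exact ⟨Module.Finite.equiv e, by rw [← e.finrank_eq, hd]⟩

/-- Pulling back a relative-dimension statement along a linear map gives an upper bound. -/
theorem IsRelDim.comap_finite {U : Type*} [AddCommGroup U] [Module k U] (f : U →ₗ[k] V)
    {A C : Submodule k V} {d : ℕ} (h : IsRelDim A C d) [Module.Finite k (A.comap f)] :
    Module.Finite k (C.comap f) ∧
      Module.finrank k (C.comap f) ≤ Module.finrank k (A.comap f) + d := by
  obtain ⟨hfin, hdim⟩ := h.quotient
  have hAC : A.comap f ≤ C.comap f := Submodule.comap_mono h.le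
  -- the map `C.comap f → C / A`
  let φ : C.comap f →ₗ[k] (C ⧸ Submodule.comap C.subtype A) :=
    (Submodule.mkQ _) ∘ₗ (f.restrict (p := C.comap f) (q := C) fun x hx => hx)
  have hker : LinearMap.ker φ = Submodule.comap (C.comap f).subtype (A.comap f) := by
    ext x
    rw [LinearMap.mem_ker]
    change Submodule.Quotient.mk _ = 0 ↔ _
    rw [Submodule.Quotient.mk_eq_zero]
    rfl
  let e := Submodule.comapSubtypeEquivOfLe hAC
  have hkfin : Module.Finite k (LinearMap.ker φ) := by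
    rw [hker]; exact Module.Finite.equiv e.symm
  have hrfin : Module.Finite k (LinearMap.range φ) := inferInstance
  have hqfin : Module.Finite k ((C.comap f) ⧸ LinearMap.ker φ) :=
    Module.Finite.equiv φ.quotKerEquivRange.symm
  have hCfin : Module.Finite k (C.comap f) := Module.Finite.of_submodule_quotient (LinearMap.ker φ)
  refine ⟨hCfin, ?_⟩
  have h1 := LinearMap.finrank_range_add_finrank_ker φ
  have h2 : Module.finrank k (LinearMap.range φ) ≤ d := by
    rw [← hdim]; exact Submodule.finrank_le _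
  have h3 : Module.finrank k (LinearMap.ker φ) = Module.finrank k (A.comap f) := by
    rw [hker]; exact e.finrank_eq
  omega

section Compl

/-- A complement `W` of `A` in `C` is isomorphic to the quotient. -/
noncomputable def complEquiv {A C W : Submodule k V} (hi : A ⊓ W = ⊥) (hs : A ⊔ W = C) :
    W ≃ₗ[k] (C ⧸ Submodule.comap C.subtype A) := by
  have hWC : W ≤ C := hs ▸ le_sup_right
  let f : W →ₗ[k] (C ⧸ Submodule.comap C.subtype A) :=
    (Submodule.mkQ _) ∘ₗ (Submodule.inclusion hWC)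
  have hinj : Function.Injective f := by
    rw [← LinearMap.ker_eq_bot, LinearMap.ker_eq_bot']
    intro w hw
    have h1 : (Submodule.inclusion hWC w) ∈ Submodule.comap C.subtype A :=
      (Submodule.Quotient.mk_eq_zero _).mp hw
    have h2 : (w : V) ∈ A ⊓ W := ⟨h1, w.2⟩
    rw [hi] at h2
    exact Subtype.ext ((Submodule.mem_bot k).mp h2)
  have hsurj : Function.Surjective f := by
    intro q
    obtain ⟨c, rfl⟩ := Submodule.mkQ_surjective _ q
    have hc : (c : V) ∈ A ⊔ W := hs ▸ c.2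
    obtain ⟨a, ha, w, hw, hcw⟩ := Submodule.mem_sup.mp hc
    refine ⟨⟨w, hw⟩, ?_⟩
    change Submodule.Quotient.mk _ = Submodule.Quotient.mk _
    rw [Submodule.Quotient.eq]
    change ((⟨w, hWC hw⟩ : C) - c : C).1 ∈ A
    have : ((⟨w, hWC hw⟩ : C) - c : C).1 = -a := by
      change w - (c : V) = -a
      rw [← hcw]; abel
    rw [this]
    exact A.neg_mem ha
  exact LinearEquiv.ofBijective f ⟨hinj, hsurj⟩

/-- Any complement has the relative dimension. -/
theorem IsRelDim.of_compl {A C W : Submodule k V} {d : ℕ} (h : IsRelDim A C d)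
    (hi : A ⊓ W = ⊥) (hs : A ⊔ W = C) : Module.Finite k W ∧ Module.finrank k W = d := by
  obtain ⟨hfin, hdim⟩ := h.quotient
  let e := complEquiv hi hs
  exact ⟨Module.Finite.equiv e.symm, by rw [e.finrank_eq, hdim]⟩

theorem IsRelDim.eq_of_zero {A C : Submodule k V} (h : IsRelDim A C 0) : A = C := by
  obtain ⟨W, hf, hd, hi, hs⟩ := h
  have : W = ⊥ := by
    rw [← Submodule.finrank_eq_zero]; exact hd
  rw [← hs, this, sup_bot_eq]

/-- existence of a complement inside `C` -/
lemma exists_compl_in {A C : Submodule k V} (h : A ≤ C) :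
    ∃ W : Submodule k V, A ⊓ W = ⊥ ∧ A ⊔ W = C := by
  obtain ⟨Q, hQ⟩ := Submodule.exists_isCompl A
  refine ⟨Q ⊓ C, ?_, ?_⟩
  · rw [← inf_assoc, hQ.inf_eq_bot, bot_inf_eq]
  · rw [← sup_inf_assoc_of_le _ h, hQ.sup_eq_top, top_inf_eq]

/-- **Adding a subspace.** -/
theorem IsRelDim.sup_right {A C : Submodule k V} {d : ℕ} (h : IsRelDim A C d)
    (Kd : Submodule k V) [hfin : Module.Finite k ↥(C ⊓ Kd)] :
    ∃ e : ℕ, e + Module.finrank k ↥(C ⊓ Kd) = d + Module.finrank k ↥(A ⊓ Kd) ∧
      IsRelDim (A ⊔ Kd) (C ⊔ Kd) e := by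
  have hAC : A ≤ C := h.le
  set LA := A ⊓ Kd with hLA
  set LC := C ⊓ Kd with hLC
  have hLALC : LA ≤ LC := inf_le_inf_right _ hAC
  have hLAfin : Module.Finite k LA := Submodule.finiteDimensional_of_le hLALC
  -- complement of `LA` in `LC`
  obtain ⟨L', hL'i, hL's⟩ := exists_compl_in hLALC
  have hL'LC : L' ≤ LC := hL's ▸ le_sup_right
  have hL'fin : Module.Finite k L' := Submodule.finiteDimensional_of_le hL'LC
  have hdimL' : Module.finrank k LA + Module.finrank k L' = Module.finrank k LC := by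
    have := Submodule.finrank_sup_add_finrank_inf_eq LA L'
    rw [hL'i, hL's, finrank_bot, add_zero] at this
    exact this.symm
  have hAL' : A ⊓ L' = ⊥ := by
    rw [eq_bot_iff, ← hL'i]
    intro x hx
    exact ⟨⟨hx.1, (hL'LC hx.2).2⟩, hx.2⟩
  set M := A ⊔ L' with hM
  have hMC : M ≤ C := sup_le hAC (hL'LC.trans inf_le_left)
  obtain ⟨W', hW'i, hW's⟩ := exists_compl_in hMC
  have hW'C : W' ≤ C := hW's ▸ le_sup_right
  -- `L' ⊔ W'` is a complement of `A` in `C`
  have hXi : A ⊓ (L' ⊔ W') = ⊥ := by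
    rw [eq_bot_iff]
    intro x hx
    obtain ⟨hxA, hxX⟩ := Submodule.mem_inf.mp hx
    obtain ⟨l, hl, w, hw, rfl⟩ := Submodule.mem_sup.mp hxX
    have hwM : w ∈ M := by
      have : w = (l + w) - l := by abel
      rw [this]
      exact M.sub_mem (Submodule.mem_sup_left hxA) (Submodule.mem_sup_right hl)
    have hw0 : w = 0 := by
      have : w ∈ M ⊓ W' := ⟨hwM, hw⟩
      rw [hW'i] at this
      exact (Submodule.mem_bot k).mp this
    subst hw0
    rw [add_zero] at hxA ⊢
    have : l ∈ A ⊓ L' := ⟨hxA, hl⟩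
    rw [hAL'] at this
    exact this
  have hXs : A ⊔ (L' ⊔ W') = C := by rw [← sup_assoc, hW's]
  obtain ⟨hXfin, hXdim⟩ := h.of_compl hXi hXs
  have hW'fin : Module.Finite k W' := Submodule.finiteDimensional_of_le (le_sup_right : W' ≤ L' ⊔ W')
  have hL'W' : L' ⊓ W' = ⊥ := by
    rw [eq_bot_iff, ← hW'i]
    exact inf_le_inf_right _ le_sup_right
  have hdimX : Module.finrank k L' + Module.finrank k W' = d := by
    have := Submodule.finrank_sup_add_finrank_inf_eq L' W'
    rw [hL'W', finrank_bot, add_zero, hXdim] at this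
    exact this.symm
  refine ⟨Module.finrank k W', by omega, W', hW'fin, rfl, ?_, ?_⟩
  · rw [eq_bot_iff]
    intro x hx
    obtain ⟨hxAK, hxW⟩ := Submodule.mem_inf.mp hx
    obtain ⟨a, ha, κ, hκ, rfl⟩ := Submodule.mem_sup.mp hxAK
    have hκC : κ ∈ C := by
      have : κ = (a + κ) - a := by abel
      rw [this]
      exact C.sub_mem (hW'C hxW) (hAC ha)
    have hκLC : κ ∈ LC := ⟨hκC, hκ⟩
    have hκM : κ ∈ M := by
      rw [← hL's] at hκLC
      obtain ⟨l₁, hl₁, l₂, hl₂, rfl⟩ := Submodule.mem_sup.mp hκLC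
      exact M.add_mem (Submodule.mem_sup_left hl₁.1) (Submodule.mem_sup_right hl₂)
    have : a + κ ∈ M ⊓ W' := ⟨M.add_mem (Submodule.mem_sup_left ha) hκM, hxW⟩
    rw [hW'i] at this
    exact this
  · apply le_antisymm
    · exact sup_le (sup_le_sup_right hAC _) (hW'C.trans le_sup_left)
    · apply sup_le
      · rw [← hW's]
        apply sup_le
        · apply sup_le
          · exact le_sup_of_le_left le_sup_left
          · exact le_sup_of_le_left (le_sup_of_le_right (hL'LC.trans inf_le_right))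
        · exact le_sup_right
      · exact le_sup_of_le_left le_sup_right

end Compl

end Groth.Agent.Lib.Helper4.FF
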