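import Mathlib
import Groth.Prelude.Def_W4bk4goldsch23FF

/-! # Function fields of one variable: basic API (helper4) -/

namespace Groth.Agent.Lib.Helper4.FF

open FunFld WithZero

variable {k K : Type*} [Field k] [Field K] [Algebra k K]

section Trans

/-- Elements outside `k` are transcendental. -/
lemma transcendental_of_notMem (hK : IsFunctionField k K) {x : K}
    (hx : x ∉ Set.range (algebraMap k K)) : Transcendental k x := fun h => hx (hK.2 x h)

/-- `K` is algebraic over `k(x)` for every transcendental `x`. -/
theorem isAlgebraic_adjoin (hK : IsFunctionField k K) {x : K} (hx : Transcendental k x) :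
    Algebra.IsAlgebraic (IntermediateField.adjoin k ({x} : Set K)) K := by
  obtain ⟨⟨x₀, hx₀, hfin⟩, -⟩ := hK
  have halg : Algebra.IsAlgebraic (Algebra.adjoin k (Set.range fun _ : PUnit => x₀)) K := by
    rw [Set.range_const, ← IntermediateField.isAlgebraic_adjoin_iff_top]
    exact Algebra.IsAlgebraic.of_finite _ _
  have hb₀ : IsTranscendenceBasis k (fun _ : PUnit => x₀) :=
    isTranscendenceBasis_iff_algebraicIndependent_isAlgebraic.mpr
      ⟨(algebraicIndependent_unique_type_iff (ι := PUnit)).mpr hx₀, halg⟩
  have htr : Algebra.trdeg k K = 1 := by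
    rw [← hb₀.cardinalMk_eq_trdeg]; simp
  have hb : IsTranscendenceBasis k (fun _ : PUnit => x) := by
    apply AlgebraicIndependent.isTranscendenceBasis_of_trdeg_le
    · exact (algebraicIndependent_unique_type_iff (ι := PUnit)).mpr hx
    · rw [htr]; exact Cardinal.one_lt_aleph0
    · rw [htr]; simp
  have := hb.isAlgebraic_field
  rwa [Set.range_const] at this

/-- `K` is finite over `k(x)` for every transcendental `x`. -/
theorem finiteDimensional_adjoin (hK : IsFunctionField k K) {x : K} (hx : Transcendental k x) :
    FiniteDimensional (IntermediateField.adjoin k ({x} : Set K)) K := by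
  have halg := isAlgebraic_adjoin hK hx
  obtain ⟨⟨x₀, hx₀, hfin⟩, -⟩ := hK
  set F := IntermediateField.adjoin k ({x} : Set K) with hF
  set F₀ := IntermediateField.adjoin k ({x₀} : Set K) with hF₀
  let b := Module.finBasis F₀ K
  let S : Set K := insert x₀ (Set.range b)
  have hSfin : S.Finite := (Set.finite_range b).insert x₀
  have : Finite S := hSfin.to_subtype
  have hE : FiniteDimensional F (IntermediateField.adjoin F S) :=
    IntermediateField.finiteDimensional_adjoin (fun y _ => (halg.isAlgebraic y).isIntegral)
  have htop : IntermediateField.adjoin F S = ⊤ := by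
    rw [eq_top_iff]
    intro y _
    have hF₀E : ∀ c : F₀, (c : K) ∈ IntermediateField.adjoin F S := by
      intro c
      have : F₀ ≤ IntermediateField.restrictScalars k (IntermediateField.adjoin F S) := by
        rw [hF₀, IntermediateField.adjoin_le_iff]
        intro z hz
        rw [Set.mem_singleton_iff] at hz
        subst hz
        exact IntermediateField.subset_adjoin F S (Set.mem_insert _ _)
      exact this c.2
    rw [← b.sum_repr y]
    refine sum_mem fun i _ => ?_
    rw [Algebra.smul_def]
    exact mul_mem (hF₀E _)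
      (IntermediateField.subset_adjoin F S (Set.mem_insert_of_mem _ ⟨i, rfl⟩))
  rw [htop] at hE
  exact Module.Finite.equiv (IntermediateField.topEquiv (F := F) (E := K)).toLinearEquiv

end Trans

section LinIndep

open Polynomial
open scoped IntermediateField.algebraAdjoinAdjoin

/-- Linear independence over `k(x)` can be tested on polynomial relations. -/
theorem linearIndependent_adjoin_of_polynomial {x : K} {ι : Type*} (b : ι → K)
    (h : ∀ (s : Finset ι) (φ : ι → k[X]), ∑ i ∈ s, aeval x (φ i) * b i = 0 →
      ∀ i ∈ s, aeval x (φ i) = 0) :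
    LinearIndependent (IntermediateField.adjoin k ({x} : Set K)) b := by
  rw [← LinearIndependent.iff_fractionRing (Algebra.adjoin k ({x} : Set K))
    (IntermediateField.adjoin k ({x} : Set K)), linearIndependent_iff']
  intro s g hg i hi
  have hmem : ∀ j, ∃ φ : k[X], aeval x φ = (g j : K) := by
    intro j
    have h1 : ((g j : K)) ∈ (Algebra.adjoin k ({x} : Set K)) := (g j).2
    have h2 : ∀ y : K, y ∈ Algebra.adjoin k ({x} : Set K) → ∃ φ : k[X], aeval x φ = y := by
      intro y hy
      rw [Algebra.adjoin_singleton_eq_range_aeval] at hy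
      exact hy
    exact h2 _ h1
  choose φ hφ using hmem
  have h1 : ∑ j ∈ s, aeval x (φ j) * b j = 0 := by
    rw [← hg]
    refine Finset.sum_congr rfl fun j _ => ?_
    rw [hφ]
    rfl
  have := h s φ h1 i hi
  rw [hφ] at this
  exact Subtype.ext this

/-- polynomials in an integral element are integral -/
lemma val_aeval_le_one {Γ : Type*} [LinearOrderedCommGroupWithZero Γ] (v : Valuation K Γ)
    (hv : ∀ c : k, v (algebraMap k K c) ≤ 1) {x : K} (hx : v x ≤ 1) (ψ : k[X]) :
    v (aeval x ψ) ≤ 1 := by
  rw [aeval_eq_sum_range]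
  apply Valuation.map_sum_le
  intro i _
  rw [Algebra.smul_def, map_mul, map_pow]
  exact mul_le_one' (hv _) (pow_le_one' hx i)

/-- **Key independence lemma.** Let `vᵢ` be valuations of `K`, trivial on `k`, `x ≠ 0` with
`vᵢ x < 1` for all `i`. If `w` is a `k`-linearly independent family spanning a space `W` all of
whose elements are `vᵢ`-integral for all `i`, and every nonzero element `u` of `W` has
`vᵢ x < vᵢ u` for some `i`, then `w` is linearly independent over `k(x)`. -/
theorem linearIndependent_adjoin_of_val {I : Type*} {Γ : I → Type*}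
    [∀ i, LinearOrderedCommGroupWithZero (Γ i)]
    (v : ∀ i, Valuation K (Γ i)) (hv : ∀ i (c : k), v i (algebraMap k K c) ≤ 1)
    {x : K} (hx0 : x ≠ 0) (hx : ∀ i, v i x < 1)
    {ι : Type*} (w : ι → K) (hw : LinearIndependent k w)
    (h1 : ∀ u ∈ Submodule.span k (Set.range w), ∀ i, v i u ≤ 1)
    (h2 : ∀ u ∈ Submodule.span k (Set.range w), u ≠ 0 → ∃ i, v i x < v i u) :
    LinearIndependent (IntermediateField.adjoin k ({x} : Set K)) w := by
  classical
  apply linearIndependent_adjoin_of_polynomial
  intro s
  have key : ∀ d : ℕ, ∀ φ : ι → k[X], (∀ j ∈ s, (φ j).natDegree ≤ d) →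
      ∑ j ∈ s, aeval x (φ j) * w j = 0 → ∀ j ∈ s, φ j = 0 := by
    intro d
    induction d with
    | zero =>
      intro φ hd hsum j hj
      have hC : ∀ j ∈ s, φ j = C ((φ j).coeff 0) := fun j hj =>
        eq_C_of_natDegree_le_zero (hd j hj)
      have h3 : ∑ j ∈ s, (φ j).coeff 0 • w j = 0 := by
        rw [← hsum]
        refine Finset.sum_congr rfl fun j hj => ?_
        conv_rhs => rw [hC j hj, aeval_C]
        rw [Algebra.smul_def]
      have := linearIndependent_iff'.mp hw s (fun j => (φ j).coeff 0) h3 j hj
      rw [hC j hj, this, C_0]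
    | succ d ih =>
      intro φ hd hsum
      by_cases hA : ∃ j ∈ s, (φ j).coeff 0 ≠ 0
      · exfalso
        obtain ⟨j₀, hj₀, hc₀⟩ := hA
        set u := ∑ j ∈ s, (φ j).coeff 0 • w j with hu
        have huW : u ∈ Submodule.span k (Set.range w) :=
          Submodule.sum_mem _ fun j _ =>
            Submodule.smul_mem _ _ (Submodule.subset_span ⟨j, rfl⟩)
        have hu0 : u ≠ 0 := by
          intro h
          exact hc₀ (linearIndependent_iff'.mp hw s (fun j => (φ j).coeff 0) h j₀ hj₀)
        obtain ⟨i, hi⟩ := h2 u huW hu0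
        have hux : u = -(x * ∑ j ∈ s, aeval x (φ j).divX * w j) := by
          rw [eq_neg_iff_add_eq_zero, ← hsum, hu, Finset.mul_sum, ← Finset.sum_add_distrib]
          refine Finset.sum_congr rfl fun j _ => ?_
          conv_rhs => rw [← X_mul_divX_add (φ j)]
          rw [map_add, map_mul, aeval_X, aeval_C, Algebra.smul_def]
          ring
        have hle : v i u ≤ v i x := by
          rw [hux, Valuation.map_neg, map_mul]
          refine mul_le_of_le_one_right' ?_
          apply Valuation.map_sum_le
          intro j _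
          rw [map_mul]
          exact mul_le_one' (val_aeval_le_one (v i) (hv i) (hx i).le _)
            (h1 _ (Submodule.subset_span ⟨j, rfl⟩) i)
        exact absurd hi (not_lt.mpr hle)
      · push Not at hA
        have hdiv : ∀ j ∈ s, φ j = X * (φ j).divX := by
          intro j hj
          conv_lhs => rw [← X_mul_divX_add (φ j), hA j hj, C_0, add_zero]
        have hsum' : ∑ j ∈ s, aeval x (φ j).divX * w j = 0 := by
          have : x * ∑ j ∈ s, aeval x (φ j).divX * w j = 0 := by
            rw [← hsum, Finset.mul_sum]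
            refine Finset.sum_congr rfl fun j hj => ?_
            conv_rhs => rw [hdiv j hj, map_mul, aeval_X]
            ring
          exact (mul_eq_zero.mp this).resolve_left hx0
        have hdeg : ∀ j ∈ s, (φ j).divX.natDegree ≤ d := by
          intro j hj
          rw [natDegree_divX_eq_natDegree_tsub_one]
          have := hd j hj
          omega
        intro j hj
        rw [hdiv j hj, ih (fun j => (φ j).divX) hdeg hsum' j hj, mul_zero]
  intro φ hsum j hj
  have hbound : ∀ j ∈ s, (φ j).natDegree ≤ s.sup (fun j => (φ j).natDegree) := fun j hj =>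
    Finset.le_sup (f := fun j => (φ j).natDegree) hj
  rw [key _ φ hbound hsum j hj, map_zero]

end LinIndep

section Bound

/-- If every finite linearly independent family has at most `n` elements, the space is
finite-dimensional of dimension at most `n`. -/
lemma finite_and_finrank_le {V : Type*} [AddCommGroup V] [Module k V] (n : ℕ)
    (H : ∀ s : Finset V, LinearIndependent k (fun i : s => (i : V)) → s.card ≤ n) :
    Module.Finite k V ∧ Module.finrank k V ≤ n := by
  have h1 : Module.rank k V ≤ n := rank_le H
  have h2 : Module.Finite k V :=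
    Module.rank_lt_aleph0_iff.mp (h1.trans_lt (Cardinal.natCast_lt_aleph0))
  refine ⟨h2, ?_⟩
  have := Module.finrank_eq_rank k V
  rw [← this] at h1
  exact_mod_cast h1

/-- a valuation trivial on `k` takes the value `1` on `k×`. -/
lemma val_algebraMap_eq_one {Γ : Type*} [LinearOrderedCommGroupWithZero Γ] (v : Valuation K Γ)
    (hv : ∀ c : k, v (algebraMap k K c) ≤ 1) {c : k} (hc : c ≠ 0) : v (algebraMap k K c) = 1 := by
  apply le_antisymm (hv c)
  have h1 := hv c⁻¹
  rw [map_inv₀, map_inv₀] at h1
  have hne : v (algebraMap k K c) ≠ 0 := by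
    rw [Valuation.ne_zero_iff]
    exact (map_ne_zero_iff _ (algebraMap k K).injective).mpr hc
  exact (inv_le_one₀ (zero_lt_iff.mpr hne)).mp h1

/-- an element which is not a unit for a valuation trivial on `k` is transcendental -/
lemma transcendental_of_val_lt_one (hK : IsFunctionField k K) {Γ : Type*}
    [LinearOrderedCommGroupWithZero Γ] (v : Valuation K Γ)
    (hv : ∀ c : k, v (algebraMap k K c) ≤ 1) {x : K} (hx0 : x ≠ 0) (hx : v x < 1) :
    Transcendental k x := by
  apply transcendental_of_notMem hK
  rintro ⟨c, rfl⟩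
  have hc : c ≠ 0 := by
    rintro rfl
    exact hx0 (map_zero _)
  rw [val_algebraMap_eq_one v hv hc] at hx
  exact lt_irrefl _ hx

/-- **Dimension bound.** -/
theorem finrank_le_of_val (hK : IsFunctionField k K) {I : Type*} {Γ : I → Type*}
    [∀ i, LinearOrderedCommGroupWithZero (Γ i)]
    (v : ∀ i, Valuation K (Γ i)) (hv : ∀ i (c : k), v i (algebraMap k K c) ≤ 1)
    {x : K} (hxt : Transcendental k x) (hx : ∀ i, v i x < 1)
    (W : Submodule k K)
    (h1 : ∀ u ∈ W, ∀ i, v i u ≤ 1)
    (h2 : ∀ u ∈ W, u ≠ 0 → ∃ i, v i x < v i u) :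
    Module.Finite k W ∧
      Module.finrank k W ≤ Module.finrank (IntermediateField.adjoin k ({x} : Set K)) K := by
  have hfin := finiteDimensional_adjoin hK hxt
  have hx0 : x ≠ 0 := by
    rintro rfl
    exact hxt (isAlgebraic_zero)
  apply finite_and_finrank_le
  intro s hs
  -- the family `s → K`
  have hw : LinearIndependent k (fun i : s => ((i : W) : K)) :=
    hs.map' W.subtype (Submodule.ker_subtype W)
  have hspan : Submodule.span k (Set.range fun i : s => ((i : W) : K)) ≤ W := by
    rw [Submodule.span_le]
    rintro _ ⟨i, rfl⟩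
    exact (i : W).2
  have hli := linearIndependent_adjoin_of_val v hv hx0 hx (fun i : s => ((i : W) : K)) hw
    (fun u hu => h1 u (hspan hu)) (fun u hu => h2 u (hspan hu))
  have := hli.fintype_card_le_finrank
  simpa using this

end Bound

section PlaceBasic

variable (P : Place k K)

lemma Place.val_k_le (c : k) : P.1 (algebraMap k K c) ≤ 1 := P.2.1 c

lemma Place.val_k {c : k} (hc : c ≠ 0) : P.1 (algebraMap k K c) = 1 :=
  val_algebraMap_eq_one P.1 P.2.1 hc

lemma Place.exists_uniformizer : ∃ t : K, P.1 t = exp (-1 : ℤ) := P.2.2 _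

lemma Place.mem_O_iff {x : K} : x ∈ P.O ↔ P.1 x ≤ 1 := Valuation.mem_valuationSubring_iff _ _

lemma Place.val_eq_exp_neg_ord {x : K} (hx : x ≠ 0) : P.1 x = exp (-(P.ord x)) := by
  unfold FunFld.Place.ord
  rw [neg_neg, exp_log]
  exact (Valuation.ne_zero_iff _).mpr hx

lemma Place.ord_mul {x y : K} (hx : x ≠ 0) (hy : y ≠ 0) : P.ord (x * y) = P.ord x + P.ord y := by
  unfold FunFld.Place.ord
  rw [map_mul, log_mul ((Valuation.ne_zero_iff _).mpr hx) ((Valuation.ne_zero_iff _).mpr hy)]
  ring

lemma Place.ord_inv (x : K) : P.ord x⁻¹ = -P.ord x := by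
  unfold FunFld.Place.ord
  rw [map_inv₀, log_inv]

lemma Place.ord_one : P.ord (1 : K) = 0 := by
  unfold FunFld.Place.ord
  simp

lemma Place.ord_pow (x : K) (n : ℕ) : P.ord (x ^ n) = n * P.ord x := by
  unfold FunFld.Place.ord
  rw [map_pow, log_pow]
  simp

lemma Place.ord_nonneg_iff {x : K} (hx : x ≠ 0) : 0 ≤ P.ord x ↔ P.1 x ≤ 1 := by
  rw [Place.val_eq_exp_neg_ord P hx, ← exp_zero, exp_le_exp]
  omega

lemma Place.ord_pos_iff {x : K} (hx : x ≠ 0) : 0 < P.ord x ↔ P.1 x < 1 := by
  rw [Place.val_eq_exp_neg_ord P hx, ← exp_zero, exp_lt_exp]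
  omega

lemma Place.ord_neg_iff {x : K} (hx : x ≠ 0) : P.ord x < 0 ↔ 1 < P.1 x := by
  rw [Place.val_eq_exp_neg_ord P hx, ← exp_zero, exp_lt_exp]
  omega

lemma Place.ord_k (c : k) : P.ord (algebraMap k K c) = 0 := by
  by_cases hc : c = 0
  · subst hc; simp [FunFld.Place.ord]
  · unfold FunFld.Place.ord
    rw [Place.val_k P hc]; simp

/-- The inclusion of the valuation ring, as a `k`-linear map. -/
def Place.inclₗ : P.O →ₗ[k] K where
  toFun z := (z : K)
  map_add' _ _ := rfl
  map_smul' c z := by
    simp only [RingHom.id_apply]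
    rw [Algebra.smul_def, Algebra.smul_def]
    rfl

/-- The residue map, as a `k`-linear map. -/
noncomputable def Place.resₗ : P.O →ₗ[k] IsLocalRing.ResidueField P.O where
  toFun z := IsLocalRing.residue P.O z
  map_add' _ _ := map_add _ _ _
  map_smul' _ _ := rfl

lemma Place.resₗ_surjective : Function.Surjective (Place.resₗ P) :=
  IsLocalRing.residue_surjective

lemma Place.resₗ_eq_zero_iff (z : P.O) : Place.resₗ P z = 0 ↔ P.1 (z : K) < 1 := by
  change IsLocalRing.residue P.O z = 0 ↔ _
  rw [IsLocalRing.residue_eq_zero_iff, IsLocalRing.mem_maximalIdeal, mem_nonunits_iff,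
    (Valuation.valuationSubring.integers P.1).isUnit_iff_valuation_eq_one]
  have hz : P.1 (z : K) ≤ 1 := (Place.mem_O_iff P).mp z.2
  constructor
  · intro h
    exact lt_of_le_of_ne hz h
  · intro h
    exact ne_of_lt h

end PlaceBasic

section Residue

variable (P : Place k K)

/-- **Degree bound**: `deg P ≤ [K : k(t)]` for any nonzero `t` in the maximal ideal. -/
theorem Place.residue_finite_and_le (hK : IsFunctionField k K) {t : K} (ht0 : t ≠ 0)
    (ht : P.1 t < 1) :
    Module.Finite k (IsLocalRing.ResidueField P.O) ∧
      Module.finrank k (IsLocalRing.ResidueField P.O) ≤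
        Module.finrank (IntermediateField.adjoin k ({t} : Set K)) K := by
  classical
  have htt : Transcendental k t := transcendental_of_val_lt_one hK P.1 P.2.1 ht0 ht
  have hfin := finiteDimensional_adjoin hK htt
  apply finite_and_finrank_le
  intro s hs
  choose z hz using Place.resₗ_surjective P
  -- the linear combination map
  let g : (s →₀ k) →ₗ[k] P.O := Finsupp.linearCombination k (fun i : s => z i)
  have hg : (Place.resₗ P) ∘ₗ g = Finsupp.linearCombination k (fun i : s => (i : IsLocalRing.ResidueField P.O)) := by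
    apply Finsupp.lhom_ext'
    intro i
    ext
    simp [g, hz]
  have hginj : Function.Injective ((Place.resₗ P) ∘ₗ g) := by
    rw [hg]; exact hs
  have hw : LinearIndependent k (fun i : s => ((z i : P.O) : K)) := by
    have h1 : LinearIndependent k (fun i : s => z i) := by
      apply LinearIndependent.of_comp (Place.resₗ P)
      have : (Place.resₗ P) ∘ (fun i : s => z i) = fun i : s => (i : IsLocalRing.ResidueField P.O) := by
        funext i; exact hz _
      rw [this]; exact hs
    have h2 : LinearMap.ker (Place.inclₗ P) = ⊥ := by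
      rw [LinearMap.ker_eq_bot]
      intro a b hab
      exact Subtype.ext hab
    exact h1.map' (Place.inclₗ P) h2
  have hspan : ∀ u ∈ Submodule.span k (Set.range fun i : s => ((z i : P.O) : K)),
      ∃ c : s →₀ k, u = ((g c : P.O) : K) := by
    intro u hu
    have : Submodule.span k (Set.range fun i : s => ((z i : P.O) : K)) =
        LinearMap.range ((Place.inclₗ P) ∘ₗ g) := by
      rw [LinearMap.range_comp, Finsupp.range_linearCombination, Submodule.map_span,
        ← Set.range_comp]
      rfl
    rw [this] at hu
    obtain ⟨c, rfl⟩ := hu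
    exact ⟨c, rfl⟩
  have hli := linearIndependent_adjoin_of_val (I := Unit) (fun _ => P.1) (fun _ => P.2.1) ht0
    (fun _ => ht) (fun i : s => ((z i : P.O) : K)) hw
    (by
      intro u hu _
      obtain ⟨c, rfl⟩ := hspan u hu
      exact (Place.mem_O_iff P).mp (g c).2)
    (by
      intro u hu hu0
      obtain ⟨c, rfl⟩ := hspan u hu
      refine ⟨(), ?_⟩
      have hc : c ≠ 0 := by
        rintro rfl
        apply hu0
        simp
      have hres : (Place.resₗ P) (g c) ≠ 0 := by
        intro h
        apply hc
        apply hginj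
        rw [LinearMap.comp_apply, h, map_zero]
      rw [ne_eq, Place.resₗ_eq_zero_iff, not_lt] at hres
      have h1 : P.1 ((g c : P.O) : K) = 1 :=
        le_antisymm ((Place.mem_O_iff P).mp (g c).2) hres
      rw [h1]; exact ht)
  have := hli.fintype_card_le_finrank
  simpa using this

end Residue

end Groth.Agent.Lib.Helper4.FF
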