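import Mathlib
import Groth.Agent.Lib.Helper4.FF.Basic

/-! # Existence of places (helper4) -/

namespace Groth.Agent.Lib.Helper4.FF

open FunFld WithZero

variable {k K : Type*} [Field k] [Field K] [Algebra k K]

section Distinct

variable {Γ : Type*} [LinearOrderedCommGroupWithZero Γ] (v : Valuation K Γ)

/-- A finite sum of elements with pairwise distinct valuations has the valuation of one of
its terms. -/
lemma exists_val_sum_eq {ι : Type*} (T : Finset ι) (hT : T.Nonempty) (f : ι → K)
    (hinj : ∀ i ∈ T, ∀ j ∈ T, v (f i) = v (f j) → i = j) :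
    ∃ i ∈ T, v (∑ j ∈ T, f j) = v (f i) := by
  classical
  obtain ⟨i₀, hi₀, hmax⟩ := Finset.exists_max_image T (fun i => v (f i)) hT
  refine ⟨i₀, hi₀, ?_⟩
  apply Valuation.map_sum_eq_of_lt v hi₀
  intro i hi
  have hi' := (Finset.mem_sdiff.1 hi).1
  refine lt_of_le_of_ne (hmax i hi') (fun h => ?_)
  exact (Finset.mem_sdiff.1 hi).2 (Finset.mem_singleton.2 (hinj _ hi' _ hi₀ h))

/-- Elements with distinct valuations in `(v x, 1]` are linearly independent over `k(x)`. -/
theorem card_le_of_distinct_val (hK : IsFunctionField k K)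
    (hv : ∀ c : k, v (algebraMap k K c) ≤ 1) {x : K} (hx0 : x ≠ 0) (hx : v x < 1)
    (T : Finset K) (hinj : ∀ y ∈ T, ∀ y' ∈ T, v y = v y' → y = y')
    (hT : ∀ y ∈ T, v x < v y ∧ v y ≤ 1) :
    T.card ≤ Module.finrank (IntermediateField.adjoin k ({x} : Set K)) K := by
  classical
  have hxt : Transcendental k x := transcendental_of_val_lt_one hK v hv hx0 hx
  have hfin := finiteDimensional_adjoin hK hxt
  -- key: nonzero combinations have the value of one of the members
  have key : ∀ c : T →₀ k, c ≠ 0 → ∃ y ∈ T,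
      v (Finsupp.linearCombination k (fun i : T => (i : K)) c) = v y := by
    intro c hc
    have hsupp : c.support.Nonempty := Finsupp.support_nonempty_iff.mpr hc
    have hval : ∀ i ∈ c.support, v (c i • (i : K)) = v (i : K) := by
      intro i hi
      rw [Algebra.smul_def, map_mul, val_algebraMap_eq_one v hv (Finsupp.mem_support_iff.mp hi),
        one_mul]
    obtain ⟨i, hi, hsum⟩ := exists_val_sum_eq v c.support hsupp (fun i => c i • (i : K)) (by
      intro i hi j hj hij
      rw [hval i hi, hval j hj] at hij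
      exact Subtype.ext (hinj _ i.2 _ j.2 hij))
    refine ⟨i, i.2, ?_⟩
    rw [Finsupp.linearCombination_apply, Finsupp.sum, hsum, hval i hi]
  have hw : LinearIndependent k (fun i : T => (i : K)) := by
    rw [linearIndependent_iff]
    intro c hc
    by_contra hc0
    obtain ⟨y, hy, hvy⟩ := key c hc0
    rw [hc, map_zero] at hvy
    have := (hT y hy).1
    rw [← hvy] at this
    exact not_lt_zero this
  have hspan : ∀ u ∈ Submodule.span k (Set.range fun i : T => (i : K)),
      ∃ c : T →₀ k, u = Finsupp.linearCombination k (fun i : T => (i : K)) c := by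
    intro u hu
    rw [← Finsupp.range_linearCombination] at hu
    obtain ⟨c, rfl⟩ := hu
    exact ⟨c, rfl⟩
  have hli := linearIndependent_adjoin_of_val (I := Unit) (fun _ => v) (fun _ => hv) hx0
    (fun _ => hx) (fun i : T => (i : K)) hw
    (by
      intro u hu _
      obtain ⟨c, rfl⟩ := hspan u hu
      by_cases hc : c = 0
      · subst hc; simp
      · obtain ⟨y, hy, hvy⟩ := key c hc
        rw [hvy]; exact (hT y hy).2)
    (by
      intro u hu hu0
      obtain ⟨c, rfl⟩ := hspan u hu
      refine ⟨(), ?_⟩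
      have hc : c ≠ 0 := by
        rintro rfl
        apply hu0
        simp
      obtain ⟨y, hy, hvy⟩ := key c hc
      rw [hvy]; exact (hT y hy).1)
  have := hli.fintype_card_le_finrank
  simpa using this

/-- The set of values in `(v x, 1]` is finite. -/
theorem finite_values (hK : IsFunctionField k K)
    (hv : ∀ c : k, v (algebraMap k K c) ≤ 1) {x : K} (hx0 : x ≠ 0) (hx : v x < 1) :
    {γ : Γ | (∃ y : K, v y = γ) ∧ v x < γ ∧ γ ≤ 1}.Finite := by
  classical
  by_contra hinf
  set N := Module.finrank (IntermediateField.adjoin k ({x} : Set K)) K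
  obtain ⟨T', hT'sub, hT'card⟩ := Set.Infinite.exists_subset_card_eq hinf (N + 1)
  have hch : ∀ γ : Γ, ∃ y : K, γ ∈ T' → v y = γ := by
    intro γ
    by_cases hγ : γ ∈ T'
    · obtain ⟨y, hy⟩ := (hT'sub hγ).1
      exact ⟨y, fun _ => hy⟩
    · exact ⟨0, fun h => absurd h hγ⟩
  choose y hy using hch
  have hyinj : Set.InjOn y T' := by
    intro a ha b hb hab
    rw [← hy a ha, ← hy b hb, hab]
  have hcard : (T'.image y).card = N + 1 := by
    rw [Finset.card_image_of_injOn hyinj, hT'card]
  have := card_le_of_distinct_val v hK hv hx0 hx (T'.image y) (by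
      intro a ha b hb hab
      obtain ⟨γ, hγ, rfl⟩ := Finset.mem_image.mp ha
      obtain ⟨γ', hγ', rfl⟩ := Finset.mem_image.mp hb
      rw [hy γ hγ, hy γ' hγ'] at hab
      rw [hab]) (by
      intro a ha
      obtain ⟨γ, hγ, rfl⟩ := Finset.mem_image.mp ha
      rw [hy γ hγ]
      exact (hT'sub hγ).2)
  omega

end Distinct

section DVR

variable (B : ValuationSubring K)

/-- A valuation ring of a function field containing the constants is a principal ideal ring. -/
theorem isPrincipalIdealRing_of_valuationSubring (hK : IsFunctionField k K)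
    (hk : ∀ c : k, algebraMap k K c ∈ B) : IsPrincipalIdealRing B := by
  classical
  have hv : ∀ c : k, B.valuation (algebraMap k K c) ≤ 1 := fun c =>
    (B.valuation_le_one_iff _).mpr (hk c)
  constructor
  intro I
  by_cases hI : I = ⊥
  · rw [hI]; exact bot_isPrincipal
  obtain ⟨x₀, hx₀I, hx₀0⟩ := Submodule.exists_mem_ne_zero_of_ne_bot hI
  have hx₀K : (x₀ : K) ≠ 0 := fun h => hx₀0 (Subtype.ext h)
  by_cases hunit : B.valuation (x₀ : K) = 1
  · have : IsUnit x₀ := (B.valuation_eq_one_iff x₀).mpr hunit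
    rw [Ideal.eq_top_of_isUnit_mem I hx₀I this]
    exact top_isPrincipal
  have hlt : B.valuation (x₀ : K) < 1 := lt_of_le_of_ne (B.valuation_le_one x₀) hunit
  have hfin := finite_values B.valuation hK hv hx₀K hlt
  -- the finite set of values of elements of `I` that are at least `v x₀`
  set A : Set B.ValueGroup := {γ | (∃ y ∈ I, B.valuation (y : K) = γ) ∧ B.valuation (x₀ : K) ≤ γ}
    with hA
  have hAfin : A.Finite := by
    apply (hfin.union (Set.finite_singleton (B.valuation (x₀ : K)))).subset
    rintro γ ⟨⟨y, hyI, rfl⟩, hγ⟩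
    rcases eq_or_lt_of_le hγ with h | h
    · right; exact h.symm
    · left; exact ⟨⟨_, rfl⟩, h, B.valuation_le_one y⟩
  have hAne : A.Nonempty := ⟨_, ⟨x₀, hx₀I, rfl⟩, le_rfl⟩
  obtain ⟨γ₀, hγ₀A, hγ₀max⟩ := hAfin.exists_maximal hAne
  obtain ⟨⟨y₀, hy₀I, hy₀⟩, hγ₀x⟩ := hγ₀A
  refine ⟨⟨y₀, ?_⟩⟩
  apply le_antisymm
  · intro y hy
    have hle : B.valuation (y : K) ≤ B.valuation (y₀ : K) := by
      rw [hy₀]
      by_cases h : B.valuation (x₀ : K) ≤ B.valuation (y : K)
      · by_contra hnot
        have hmem : B.valuation (y : K) ∈ A := ⟨⟨y, hy, rfl⟩, h⟩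
        exact hnot (hγ₀max hmem (le_of_not_ge hnot))
      · exact (le_of_not_ge h).trans hγ₀x
    obtain ⟨a, ha⟩ := (B.valuation_le_iff _ _).mp hle
    rw [Submodule.mem_span_singleton]
    exact ⟨a, Subtype.ext ha⟩
  · rw [Submodule.span_singleton_le_iff_mem]
    exact hy₀I

/-- **Valuation rings of a function field are discrete.** -/
theorem isDiscreteValuationRing_of_valuationSubring (hK : IsFunctionField k K)
    (hk : ∀ c : k, algebraMap k K c ∈ B) (hB : B ≠ ⊤) : IsDiscreteValuationRing B := by
  have := isPrincipalIdealRing_of_valuationSubring B hK hk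
  refine { not_a_field' := ?_ }
  intro h
  apply hB
  rw [eq_top_iff]
  intro y _
  by_contra hy
  have hy0 : y ≠ 0 := by
    rintro rfl
    exact hy (zero_mem _)
  have hinv : y⁻¹ ∈ B := (B.mem_or_inv_mem y).resolve_left hy
  have hmem : (⟨y⁻¹, hinv⟩ : B) ∈ IsLocalRing.maximalIdeal B := by
    rw [IsLocalRing.mem_maximalIdeal, mem_nonunits_iff]
    intro hu
    obtain ⟨b, hb⟩ := hu.exists_right_inv
    have hb' : y⁻¹ * (b : K) = 1 := congrArg Subtype.val hb
    have : (b : K) = y := by
      field_simp at hb'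
      exact hb'
    exact hy (this ▸ b.2)
  rw [h, Ideal.mem_bot] at hmem
  exact inv_ne_zero hy0 (congrArg Subtype.val hmem)

end DVR

section Exists

open IsDedekindDomain IsDedekindDomain.HeightOneSpectrum

/-- constructor for places -/
def mkPlace (v : Valuation K ℤᵐ⁰) (h1 : ∀ c : k, v (algebraMap k K c) ≤ 1)
    (h2 : Function.Surjective v) : Place k K := ⟨v, h1, h2⟩

@[simp] lemma mkPlace_val (v : Valuation K ℤᵐ⁰) (h1 : ∀ c : k, v (algebraMap k K c) ≤ 1)
    (h2 : Function.Surjective v) : (mkPlace v h1 h2).1 = v := rfl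

/-- Every nontrivial valuation ring of `K` containing `k` is the valuation ring of a place. -/
theorem exists_place_of_valuationSubring (hK : IsFunctionField k K) (B : ValuationSubring K)
    (hk : ∀ c : k, algebraMap k K c ∈ B) (hB : B ≠ ⊤) : ∃ P : Place k K, P.O = B := by
  have := isDiscreteValuationRing_of_valuationSubring B hK hk hB
  let v : Valuation K ℤᵐ⁰ := (IsDiscreteValuationRing.maximalIdeal B).valuation K
  have hvk : ∀ c : k, v (algebraMap k K c) ≤ 1 := by
    intro c
    have := valuation_le_one (K := K) (IsDiscreteValuationRing.maximalIdeal B) ⟨_, hk c⟩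
    exact this
  refine ⟨mkPlace v hvk (valuation_surjective K _), ?_⟩
  ext x
  rw [Place.mem_O_iff, mkPlace_val]
  constructor
  · intro h
    obtain ⟨a, rfl⟩ := IsDiscreteValuationRing.exists_lift_of_le_one (A := B) (K := K) h
    exact a.2
  · intro h
    exact valuation_le_one (K := K) (IsDiscreteValuationRing.maximalIdeal B) ⟨x, h⟩

/-- A transcendental element has a zero. -/
theorem exists_zero (hK : IsFunctionField k K) {x : K} (hx : Transcendental k x) :
    ∃ P : Place k K, P.1 x < 1 := by
  classical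
  have hx0 : x ≠ 0 := by
    rintro rfl
    exact hx isAlgebraic_zero
  let A : Subring K := (Algebra.adjoin k ({x} : Set K)).toSubring
  have hxA : x ∈ A := Algebra.self_mem_adjoin_singleton k x
  let I : Ideal A := Ideal.span {⟨x, hxA⟩}
  have hI : I ≠ ⊤ := by
    intro h
    rw [Ideal.eq_top_iff_one, Ideal.mem_span_singleton'] at h
    obtain ⟨a, ha⟩ := h
    have ha' : (a : K) * x = 1 := congrArg Subtype.val ha
    have haA : (a : K) ∈ Algebra.adjoin k ({x} : Set K) := a.2
    rw [Algebra.adjoin_singleton_eq_range_aeval] at haA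
    obtain ⟨p, hp⟩ := haA
    have hp' : Polynomial.aeval x (p * Polynomial.X - 1) = 0 := by
      rw [map_sub, map_mul, Polynomial.aeval_X, map_one]
      change (Polynomial.aeval x p) * x - 1 = 0
      rw [show Polynomial.aeval x p = (a : K) from hp, ha', sub_self]
    have hne : p * Polynomial.X - 1 ≠ 0 := by
      intro h0
      have := congrArg (fun q => Polynomial.coeff q 0) h0
      simp at this
    exact hx ⟨_, hne, hp'⟩
  obtain ⟨B, hAB, hIB⟩ := Ideal.image_subset_nonunits_valuationSubring I hI
  have hxB : x ∈ B.nonunits := hIB ⟨⟨x, hxA⟩, Ideal.subset_span rfl, rfl⟩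
  have hk : ∀ c : k, algebraMap k K c ∈ B := fun c =>
    hAB (Subalgebra.algebraMap_mem (Algebra.adjoin k ({x} : Set K)) c)
  have hB : B ≠ ⊤ := by
    intro h
    rcases (B.mem_nonunits_iff_or).mp hxB with h0 | h1
    · exact hx0 h0
    · exact h1 (h ▸ ValuationSubring.mem_top _)
  obtain ⟨P, hP⟩ := exists_place_of_valuationSubring hK B hk hB
  refine ⟨P, ?_⟩
  have hxB' : B.valuation x < 1 := hxB
  have hle : P.1 x ≤ 1 := by
    rw [← Place.mem_O_iff, hP, ← B.valuation_le_one_iff]
    exact hxB'.le
  refine lt_of_le_of_ne hle (fun h1 => ?_)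
  have hinv : x⁻¹ ∈ B := by
    rw [← hP, Place.mem_O_iff, map_inv₀, h1, inv_one]
  have h2 : B.valuation x⁻¹ ≤ 1 := (B.valuation_le_one_iff _).mpr hinv
  rw [map_inv₀] at h2
  have h3 : B.valuation x ≠ 0 := (Valuation.ne_zero_iff _).mpr hx0
  have h4 : 1 ≤ B.valuation x := (inv_le_one₀ (zero_lt_iff.mpr h3)).mp h2
  exact absurd hxB' (not_lt.mpr h4)

/-- A transcendental element has a pole. -/
theorem exists_pole (hK : IsFunctionField k K) {x : K} (hx : Transcendental k x) :
    ∃ P : Place k K, 1 < P.1 x := by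
  have hx0 : x ≠ 0 := by
    rintro rfl
    exact hx isAlgebraic_zero
  have hinv : Transcendental k x⁻¹ := fun h => hx (by simpa using h.inv)
  obtain ⟨P, hP⟩ := exists_zero hK hinv
  refine ⟨P, ?_⟩
  rw [map_inv₀] at hP
  have h3 : P.1 x ≠ 0 := (Valuation.ne_zero_iff _).mpr hx0
  exact (inv_lt_one₀ (zero_lt_iff.mpr h3)).mp hP

/-- An element all of whose valuations are `≤ 1` is constant. -/
theorem mem_range_of_forall_le_one (hK : IsFunctionField k K) {x : K}
    (h : ∀ P : Place k K, P.1 x ≤ 1) : x ∈ Set.range (algebraMap k K) := by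
  by_contra hx
  obtain ⟨P, hP⟩ := exists_pole hK (transcendental_of_notMem hK hx)
  exact absurd (h P) (not_le.mpr hP)

end Exists

end Groth.Agent.Lib.Helper4.FF
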