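import Mathlib
import Groth.Agent.Lib.Helper4.FF.Exist

/-! # Weak approximation for places (helper4) -/

namespace Groth.Agent.Lib.Helper4.FF

open FunFld WithZero

variable {k K : Type*} [Field k] [Field K] [Algebra k K]

section ZM0

lemma lt_one_iff_le_exp_neg_one {γ : ℤᵐ⁰} : γ < 1 ↔ γ ≤ exp (-1 : ℤ) := by
  have := WithZero.lt_mul_exp_iff_le (x := γ) (y := exp (-1 : ℤ)) exp_ne_zero
  rw [← exp_add] at this
  simpa using this

lemma one_lt_iff_exp_one_le {γ : ℤᵐ⁰} : 1 < γ ↔ exp (1 : ℤ) ≤ γ := by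
  by_cases h : γ = 0
  · subst h; simp
  · rw [← exp_log h, ← exp_zero, exp_lt_exp, exp_le_exp]
    omega

end ZM0

section Ord

variable (P : Place k K)

lemma Place.ord_zpow (x : K) (n : ℤ) : P.ord (x ^ n) = n * P.ord x := by
  unfold FunFld.Place.ord
  rw [map_zpow₀, log_zpow]
  simp

lemma Place.val_ne_zero {x : K} (hx : x ≠ 0) : P.1 x ≠ 0 := (Valuation.ne_zero_iff _).mpr hx

lemma Place.val_eq_iff_ord_eq {x y : K} (hx : x ≠ 0) (hy : y ≠ 0) :
    P.1 x = P.1 y ↔ P.ord x = P.ord y := by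
  rw [Place.val_eq_exp_neg_ord P hx, Place.val_eq_exp_neg_ord P hy, exp_inj]
  omega

end Ord

section TwoPlaces

/-- Two places such that every zero of the first is integral at the second are equal. -/
theorem place_eq_of_forall (P Q : Place k K) (H : ∀ z : K, P.1 z < 1 → Q.1 z ≤ 1) : P = Q := by
  obtain ⟨t, ht⟩ := Place.exists_uniformizer P
  have ht0 : t ≠ 0 := by
    rw [← Valuation.ne_zero_iff P.1, ht]; exact exp_ne_zero
  have hat : P.ord t = 1 := by
    unfold FunFld.Place.ord; rw [ht]; simp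
  -- in terms of orders
  have H' : ∀ z : K, z ≠ 0 → 0 < P.ord z → 0 ≤ Q.ord z := by
    intro z hz h
    rw [Place.ord_nonneg_iff Q hz]
    exact H z ((Place.ord_pos_iff P hz).mp h)
  set β := Q.ord t with hβ
  have hβ0 : 0 ≤ β := H' t ht0 (by rw [hat]; norm_num)
  have key : ∀ z : K, z ≠ 0 → P.ord z * β ≤ Q.ord z := by
    intro z hz
    set α := P.ord z with hα
    set m : ℕ := (β + 1).toNat with hm
    have hm' : (m : ℤ) = β + 1 := Int.toNat_of_nonneg (by omega)
    set y := z ^ m * t ^ (-((m : ℤ) * α - 1)) with hy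
    have hy0 : y ≠ 0 := mul_ne_zero (pow_ne_zero _ hz) (zpow_ne_zero _ ht0)
    have hPy : P.ord y = 1 := by
      rw [hy, Place.ord_mul P (pow_ne_zero _ hz) (zpow_ne_zero _ ht0), Place.ord_pow,
        Place.ord_zpow, hat]
      ring
    have hQy : Q.ord y = m * Q.ord z - ((m : ℤ) * α - 1) * β := by
      rw [hy, Place.ord_mul Q (pow_ne_zero _ hz) (zpow_ne_zero _ ht0), Place.ord_pow,
        Place.ord_zpow]
      ring
    have h0 := H' y hy0 (by rw [hPy]; norm_num)
    rw [hQy, hm'] at h0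
    by_contra hlt
    push Not at hlt
    have : Q.ord z - α * β ≤ -1 := by omega
    nlinarith
  have hab : ∀ z : K, z ≠ 0 → Q.ord z = P.ord z * β := by
    intro z hz
    apply le_antisymm _ (key z hz)
    have := key z⁻¹ (inv_ne_zero hz)
    rw [Place.ord_inv, Place.ord_inv] at this
    linarith
  obtain ⟨s, hs⟩ := Place.exists_uniformizer Q
  have hs0 : s ≠ 0 := by
    rw [← Valuation.ne_zero_iff Q.1, hs]; exact exp_ne_zero
  have hbs : Q.ord s = 1 := by
    unfold FunFld.Place.ord; rw [hs]; simp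
  have hβ1 : β = 1 := by
    have h1 := hab s hs0
    rw [hbs] at h1
    rcases Int.eq_one_or_neg_one_of_mul_eq_one h1.symm with h | h
    · have := h1
      rw [h, one_mul] at this
      exact this.symm
    · have := h1
      rw [h] at this
      omega
  apply Subtype.ext
  apply Valuation.ext
  intro z
  by_cases hz : z = 0
  · subst hz; simp
  · rw [Place.val_eq_exp_neg_ord P hz, Place.val_eq_exp_neg_ord Q hz, hab z hz, hβ1, mul_one]

/-- For distinct places there is an element with a zero at the first and a pole at the second. -/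
theorem exists_lt_one_one_lt {P Q : Place k K} (h : P ≠ Q) : ∃ z : K, P.1 z < 1 ∧ 1 < Q.1 z := by
  by_contra hno
  push Not at hno
  exact h (place_eq_of_forall P Q hno)

end TwoPlaces

section Weak

open Filter

/-- powers of an element `> 1` of `ℤᵐ⁰` eventually exceed any bound -/
lemma eventually_lt_pow {γ : ℤᵐ⁰} (hγ : 1 < γ) (δ : ℤᵐ⁰) : ∀ᶠ r : ℕ in atTop, δ < γ ^ r := by
  have hγ0 : γ ≠ 0 := (zero_lt_one.trans hγ).ne'
  by_cases hδ : δ = 0
  · subst hδ
    exact Eventually.of_forall fun r => pow_pos (zero_lt_one.trans hγ) r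
  have h1 : 1 ≤ log γ := by
    have := one_lt_iff_exp_one_le.mp hγ
    rwa [← exp_log hγ0, exp_le_exp] at this
  filter_upwards [eventually_gt_atTop (log δ).toNat] with r hr
  rw [← exp_log hδ, ← exp_log hγ0, ← exp_nsmul, exp_lt_exp]
  have : (log δ).toNat < r := hr
  have h2 : log δ < (r : ℤ) := by omega
  calc log δ < (r : ℤ) := h2
    _ ≤ r • log γ := by
      rw [nsmul_eq_mul]
      nlinarith

/-- Step 1 of weak approximation. -/
theorem exists_small_large (S : Finset (Place k K)) (P : Place k K) (hP : P ∉ S) :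
    ∃ u : K, P.1 u < 1 ∧ ∀ Q ∈ S, 1 < Q.1 u := by
  classical
  induction S using Finset.induction_on with
  | empty =>
    obtain ⟨t, ht⟩ := Place.exists_uniformizer P
    exact ⟨t, by rw [ht]; exact lt_one_iff_le_exp_neg_one.mpr le_rfl, by simp⟩
  | insert Q S' hQ ih =>
    have hPS' : P ∉ S' := fun h => hP (Finset.mem_insert_of_mem h)
    have hPQ : P ≠ Q := fun h => hP (h ▸ Finset.mem_insert_self _ _)
    obtain ⟨y, hyP, hyS⟩ := ih hPS'
    by_cases hyQ : 1 < Q.1 y
    · exact ⟨y, hyP, fun Q' hQ' => by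
        rcases Finset.mem_insert.mp hQ' with rfl | h
        · exact hyQ
        · exact hyS Q' h⟩
    push Not at hyQ
    obtain ⟨z, hzP, hzQ⟩ := exists_lt_one_one_lt hPQ
    -- choose r large
    have hev : ∀ᶠ r : ℕ in atTop, ∀ Q' ∈ S', 1 < Q'.1 z → Q'.1 y < Q'.1 z ^ r := by
      rw [eventually_all_finset]
      intro Q' _
      by_cases h : 1 < Q'.1 z
      · exact (eventually_lt_pow h _).mono fun r hr _ => hr
      · exact Eventually.of_forall fun r hh => absurd hh h
    obtain ⟨r, hr, hr1⟩ := (hev.and (eventually_ge_atTop 1)).exists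
    refine ⟨y + z ^ r, ?_, ?_⟩
    · refine lt_of_le_of_lt (P.1.map_add _ _) (max_lt hyP ?_)
      rw [map_pow]
      exact pow_lt_one₀ zero_le hzP (by omega)
    · intro Q' hQ'
      rcases Finset.mem_insert.mp hQ' with rfl | h
      · have h1 : 1 < Q'.1 (z ^ r) := by
          rw [map_pow]; exact one_lt_pow₀ hzQ (by omega)
        rw [add_comm, Valuation.map_add_eq_of_lt_left _ (lt_of_le_of_lt hyQ h1)]
        exact h1
      · by_cases hz : 1 < Q'.1 z
        · have h1 := hr Q' h hz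
          rw [← map_pow] at h1
          rw [add_comm, Valuation.map_add_eq_of_lt_left _ h1]
          exact (hyS Q' h).trans h1
        · push Not at hz
          have h1 : Q'.1 (z ^ r) ≤ 1 := by
            rw [map_pow]; exact pow_le_one₀ zero_le hz
          have h2 := hyS Q' h
          rw [Valuation.map_add_eq_of_lt_left _ (lt_of_le_of_lt h1 h2)]
          exact h2

/-- Step 2 of weak approximation. -/
theorem exists_near_one_small (S : Finset (Place k K)) (P : Place k K) (hP : P ∉ S) (N : ℤ) :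
    ∃ w : K, P.1 (w - 1) ≤ exp (-N) ∧ ∀ Q ∈ S, Q.1 w ≤ exp (-N) := by
  obtain ⟨u, huP, huS⟩ := exists_small_large S P hP
  set s : ℕ := max N.toNat 1 with hs
  have hs1 : 1 ≤ s := le_max_right _ _
  have hsN : N ≤ (s : ℤ) := by
    have : N.toNat ≤ s := le_max_left _ _
    omega
  have hexp : exp (-(s : ℤ)) ≤ exp (-N) := by
    rw [exp_le_exp]; omega
  have hPus : P.1 (u ^ s) < 1 := by
    rw [map_pow]; exact pow_lt_one₀ zero_le huP (by omega)
  have hP1 : P.1 (1 + u ^ s) = 1 := by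
    rw [Valuation.map_add_eq_of_lt_left _ (by rw [map_one]; exact hPus), map_one]
  have hne : (1 : K) + u ^ s ≠ 0 := by
    intro h
    rw [h, map_zero] at hP1
    exact zero_ne_one hP1
  refine ⟨(1 + u ^ s)⁻¹, ?_, ?_⟩
  · have : (1 + u ^ s)⁻¹ - 1 = -(u ^ s) * (1 + u ^ s)⁻¹ := by
      field_simp
      ring
    rw [this, map_mul, map_inv₀, hP1, inv_one, mul_one, Valuation.map_neg, map_pow]
    refine le_trans ?_ hexp
    calc P.1 u ^ s ≤ exp (-1 : ℤ) ^ s := pow_le_pow_left₀ zero_le (lt_one_iff_le_exp_neg_one.mp huP) s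
      _ = exp (-(s : ℤ)) := by rw [← exp_nsmul]; simp
  · intro Q hQ
    have h1 : 1 < Q.1 (u ^ s) := by
      rw [map_pow]; exact one_lt_pow₀ (huS Q hQ) (by omega)
    have h2 : Q.1 (1 + u ^ s) = Q.1 u ^ s := by
      rw [add_comm, Valuation.map_add_eq_of_lt_left _ (by rw [map_one]; exact h1), map_pow]
    rw [map_inv₀, h2]
    refine le_trans ?_ hexp
    have h3 : exp (1 : ℤ) ^ s ≤ Q.1 u ^ s :=
      pow_le_pow_left₀ zero_le (one_lt_iff_exp_one_le.mp (huS Q hQ)) s
    have h4 : exp (1 : ℤ) ^ s = exp (s : ℤ) := by rw [← exp_nsmul]; simp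
    rw [h4] at h3
    rw [exp_neg]
    exact inv_anti₀ exp_pos h3

/-- Step 3 of weak approximation. -/
theorem exists_approx_le (S : Finset (Place k K)) (y : Place k K → K) (N : ℤ) :
    ∃ z : K, ∀ P ∈ S, P.1 (z - y P) ≤ exp (-N) := by
  classical
  obtain ⟨M, hM⟩ := ((S ×ˢ S).image fun pq => log (pq.1.1 (y pq.2))).exists_le
  have hM' : ∀ P ∈ S, ∀ Q ∈ S, P.1 (y Q) ≤ exp M := by
    intro P hP Q hQ
    apply le_exp_of_log_le
    exact hM _ (Finset.mem_image.mpr ⟨(P, Q), Finset.mem_product.mpr ⟨hP, hQ⟩, rfl⟩)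
  have hw : ∀ P : Place k K, ∃ w : K, P.1 (w - 1) ≤ exp (-(N + M)) ∧
      ∀ Q ∈ S.erase P, Q.1 w ≤ exp (-(N + M)) := fun P =>
    exists_near_one_small (S.erase P) P (Finset.notMem_erase P S) (N + M)
  choose w hw1 hw2 using hw
  refine ⟨∑ Q ∈ S, y Q * w Q, ?_⟩
  intro P hP
  have hsplit : ∑ Q ∈ S, y Q * w Q - y P = y P * (w P - 1) + ∑ Q ∈ S.erase P, y Q * w Q := by
    rw [← Finset.add_sum_erase S _ hP]
    ring
  have hexp : exp M * exp (-(N + M)) = exp (-N) := by
    rw [← exp_add]; congr 1; ring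
  rw [hsplit]
  refine le_trans (P.1.map_add _ _) (max_le ?_ ?_)
  · rw [map_mul, ← hexp]
    exact mul_le_mul' (hM' P hP P hP) (hw1 P)
  · apply Valuation.map_sum_le
    intro Q hQ
    rw [map_mul, ← hexp]
    have hQS : Q ∈ S := Finset.mem_of_mem_erase hQ
    have hPQ : P ∈ S.erase Q := Finset.mem_erase.mpr ⟨(Finset.ne_of_mem_erase hQ).symm, hP⟩
    exact mul_le_mul' (hM' P hP Q hQS) (hw2 Q P hPQ)

/-- **Weak approximation theorem.** -/
theorem weak_approximation (S : Finset (Place k K)) (x : Place k K → K) (r : Place k K → ℤ) :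
    ∃ y : K, ∀ P ∈ S, P.1 (y - x P) = exp (-(r P)) := by
  classical
  obtain ⟨R, hR⟩ := (S.image r).exists_le
  have hR' : ∀ P ∈ S, r P ≤ R := fun P hP => hR _ (Finset.mem_image_of_mem r hP)
  obtain ⟨z, hz⟩ := exists_approx_le S x (R + 1)
  have hsurj : ∀ P : Place k K, ∃ a : K, P.1 a = exp (-(r P)) := fun P => P.2.2 _
  choose a ha using hsurj
  obtain ⟨z', hz'⟩ := exists_approx_le S a (R + 1)
  refine ⟨z + z', fun P hP => ?_⟩
  have hlt : exp (-(R + 1)) < exp (-(r P)) := by
    rw [exp_lt_exp]; have := hR' P hP; omega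
  have h1 : P.1 z' = exp (-(r P)) := by
    have : z' = (z' - a P) + a P := by ring
    rw [this, add_comm, Valuation.map_add_eq_of_lt_left _
      (by rw [ha]; exact lt_of_le_of_lt (hz' P hP) hlt), ha]
  have : z + z' - x P = (z - x P) + z' := by ring
  rw [this, add_comm, Valuation.map_add_eq_of_lt_left _
    (by rw [h1]; exact lt_of_le_of_lt (hz P hP) hlt), h1]

end Weak

end Groth.Agent.Lib.Helper4.FF
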