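import Mathlib
import Groth.Agent.Lib.Helper4.FF.Approx

/-! # Zeros and poles: `∑ v_P(x) deg P ≤ [K : k(x)]` (helper4) -/

namespace Groth.Agent.Lib.Helper4.FF

open FunFld WithZero

variable {k K : Type*} [Field k] [Field K] [Algebra k K]

section Section

/-- A `k`-linear section of the residue map at `P` with prescribed vanishing at the other
places of `S`. -/
theorem exists_section (hK : IsFunctionField k K) (S : Finset (Place k K)) (P : Place k K)
    (ρ : Place k K → ℤ) :
    ∃ σ : IsLocalRing.ResidueField P.O →ₗ[k] K,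
      (∀ ζ, P.1 (σ ζ) ≤ 1) ∧ (∀ ζ, ζ ≠ 0 → P.1 (σ ζ) = 1) ∧
      (∀ Q ∈ S, Q ≠ P → ∀ ζ, Q.1 (σ ζ) ≤ exp (-(ρ Q))) ∧
      ∀ z : P.O, P.1 (σ (Place.resₗ P z) - (z : K)) < 1 := by
  classical
  obtain ⟨t, ht⟩ := Place.exists_uniformizer P
  have ht0 : t ≠ 0 := by
    rw [← Valuation.ne_zero_iff P.1, ht]; exact exp_ne_zero
  have ht1 : P.1 t < 1 := by rw [ht]; exact lt_one_iff_le_exp_neg_one.mpr le_rfl
  have : Module.Finite k (IsLocalRing.ResidueField P.O) :=
    (Place.residue_finite_and_le P hK ht0 ht1).1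
  let b := Module.finBasis k (IsLocalRing.ResidueField P.O)
  choose z hz using Place.resₗ_surjective P
  have hs : ∀ j, ∃ s : K, ∀ Q ∈ insert P S,
      Q.1 (s - (if Q = P then ((z (b j) : P.O) : K) else 0)) =
        exp (-(if Q = P then 1 else ρ Q)) := fun j =>
    weak_approximation (insert P S) (fun Q => if Q = P then ((z (b j) : P.O) : K) else 0)
      (fun Q => if Q = P then 1 else ρ Q)
  choose s hs using hs
  have hsP : ∀ j, P.1 (s j - ((z (b j) : P.O) : K)) = exp (-1 : ℤ) := by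
    intro j
    have := hs j P (Finset.mem_insert_self _ _)
    simpa using this
  have hsQ : ∀ j, ∀ Q ∈ S, Q ≠ P → Q.1 (s j) = exp (-(ρ Q)) := by
    intro j Q hQ hQP
    have := hs j Q (Finset.mem_insert_of_mem hQ)
    simpa [hQP] using this
  let σ : IsLocalRing.ResidueField P.O →ₗ[k] K := b.constr k s
  have hσ : ∀ ζ, σ ζ = ∑ j, b.repr ζ j • s j := by
    intro ζ
    simp [σ, Module.Basis.constr_apply_fintype]
  -- the integral lift
  let lift : IsLocalRing.ResidueField P.O → P.O := fun ζ => ∑ j, b.repr ζ j • z (b j)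
  have hlift : ∀ ζ, Place.resₗ P (lift ζ) = ζ := by
    intro ζ
    have : Place.resₗ P (lift ζ) = ∑ j, b.repr ζ j • b j := by
      simp only [lift, map_sum]
      refine Finset.sum_congr rfl fun j _ => ?_
      rw [LinearMap.map_smul, hz]
      rfl
    rw [this]
    exact b.sum_repr ζ
  have hdiff : ∀ ζ, P.1 (σ ζ - ((lift ζ : P.O) : K)) < 1 := by
    intro ζ
    have h1 : σ ζ - ((lift ζ : P.O) : K) = ∑ j, b.repr ζ j • (s j - ((z (b j) : P.O) : K)) := by
      rw [hσ]
      have : ((lift ζ : P.O) : K) = ∑ j, b.repr ζ j • ((z (b j) : P.O) : K) := by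
        change Place.inclₗ P (lift ζ) = _
        simp only [lift, map_sum, map_smul]
        rfl
      rw [this, ← Finset.sum_sub_distrib]
      refine Finset.sum_congr rfl fun j _ => ?_
      rw [smul_sub]
    rw [h1]
    apply Valuation.map_sum_lt _ one_ne_zero
    intro j _
    rw [Algebra.smul_def, map_mul, hsP]
    calc P.1 (algebraMap k K (b.repr ζ j)) * exp (-1 : ℤ) ≤ 1 * exp (-1 : ℤ) :=
          mul_le_mul_left (P.2.1 _) _
      _ < 1 := by rw [one_mul]; exact lt_one_iff_le_exp_neg_one.mpr le_rfl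
  refine ⟨σ, ?_, ?_, ?_, ?_⟩
  rotate_left 3
  · intro z
    have h1 : σ (Place.resₗ P z) - (z : K) =
        (σ (Place.resₗ P z) - ((lift (Place.resₗ P z) : P.O) : K)) +
          (((lift (Place.resₗ P z) - z : P.O)) : K) := by
      push_cast
      ring
    rw [h1]
    refine lt_of_le_of_lt (P.1.map_add _ _) (max_lt (hdiff _) ?_)
    rw [← Place.resₗ_eq_zero_iff, map_sub, hlift, sub_self]
  · intro ζ
    have : σ ζ = (σ ζ - ((lift ζ : P.O) : K)) + ((lift ζ : P.O) : K) := by ring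
    rw [this]
    exact le_trans (P.1.map_add _ _) (max_le (hdiff ζ).le ((Place.mem_O_iff P).mp (lift ζ).2))
  · intro ζ hζ
    have hunit : P.1 ((lift ζ : P.O) : K) = 1 := by
      apply le_antisymm ((Place.mem_O_iff P).mp (lift ζ).2)
      rw [← not_lt, ← Place.resₗ_eq_zero_iff, hlift]
      exact hζ
    have : σ ζ = (σ ζ - ((lift ζ : P.O) : K)) + ((lift ζ : P.O) : K) := by ring
    rw [this, add_comm, Valuation.map_add_eq_of_lt_left _ (by rw [hunit]; exact hdiff ζ), hunit]
  · intro Q hQ hQP ζ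
    rw [hσ]
    apply Valuation.map_sum_le
    intro j _
    rw [Algebra.smul_def, map_mul, hsQ j Q hQ hQP]
    calc Q.1 (algebraMap k K (b.repr ζ j)) * exp (-(ρ Q)) ≤ 1 * exp (-(ρ Q)) :=
          mul_le_mul_left (Q.2.1 _) _
      _ = exp (-(ρ Q)) := one_mul _

end Section

section Zeros

/-- **Prop 1.3.4.** For zeros `P ∈ S` of `x`, `∑ v_P(x) deg P ≤ [K : k(x)]`. -/
theorem sum_ord_mul_deg_le (hK : IsFunctionField k K) {x : K} (hx0 : x ≠ 0)
    (S : Finset (Place k K)) (hS : ∀ P ∈ S, P.1 x < 1) :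
    ∑ P ∈ S, P.ord x * (P.deg : ℤ) ≤
      Module.finrank (IntermediateField.adjoin k ({x} : Set K)) K := by
  classical
  rcases S.eq_empty_or_nonempty with rfl | hne
  · simp
  obtain ⟨P₀, hP₀⟩ := hne
  have hxt : Transcendental k x := transcendental_of_val_lt_one hK P₀.1 P₀.2.1 hx0 (hS P₀ hP₀)
  -- data at each place
  have hfin : ∀ P : S, Module.Finite k (IsLocalRing.ResidueField P.1.O) := fun P =>
    (Place.residue_finite_and_le P.1 hK hx0 (hS P.1 P.2)).1
  have hσ := fun P : S => exists_section hK S P.1 (fun Q => Q.ord x)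
  choose σ hσ1 hσ2 hσ3 hσ4 using hσ
  have ht := fun P : S => weak_approximation S (fun _ => 0) (fun Q => if Q = P.1 then 1 else 0)
  choose t ht using ht
  have htP : ∀ P : S, P.1.1 (t P) = exp (-1 : ℤ) := by
    intro P
    have := ht P P.1 P.2
    simpa using this
  have htQ : ∀ P : S, ∀ Q ∈ S, Q ≠ P.1 → Q.1 (t P) = 1 := by
    intro P Q hQ hQP
    have := ht P Q hQ
    simpa [hQP] using this
  have htle : ∀ P : S, ∀ Q ∈ S, Q.1 (t P) ≤ 1 := by
    intro P Q hQ
    by_cases h : Q = P.1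
    · subst h; rw [htP]; exact (lt_one_iff_le_exp_neg_one.mpr le_rfl).le
    · rw [htQ P Q hQ h]
  let e : S → ℕ := fun P => (P.1.ord x).toNat
  have he : ∀ P : S, ((e P : ℕ) : ℤ) = P.1.ord x := fun P =>
    Int.toNat_of_nonneg ((Place.ord_pos_iff P.1 hx0).mpr (hS P.1 P.2)).le
  have hvx : ∀ P : S, P.1.1 x = exp (-(e P : ℤ)) := fun P => by
    rw [he, Place.val_eq_exp_neg_ord P.1 hx0]
  -- the map Φ
  let Φ : (∀ P : S, Fin (e P) → IsLocalRing.ResidueField P.1.O) →ₗ[k] K :=
    { toFun := fun ζ => ∑ P : S, ∑ a : Fin (e P), t P ^ (a : ℕ) * σ P (ζ P a)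
      map_add' := by
        intro ζ ζ'
        simp only [Pi.add_apply, map_add, mul_add, Finset.sum_add_distrib]
      map_smul' := by
        intro c ζ
        simp only [Pi.smul_apply, map_smul, RingHom.id_apply, Finset.smul_sum, mul_smul_comm] }
  have hΦ : ∀ ζ, Φ ζ = ∑ P : S, ∑ a : Fin (e P), t P ^ (a : ℕ) * σ P (ζ P a) := fun _ => rfl
  -- integrality of all terms
  have hterm : ∀ (P : S) (a : ℕ) (ζ : IsLocalRing.ResidueField P.1.O), ∀ Q ∈ S,
      Q.1 (t P ^ a * σ P ζ) ≤ 1 := by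
    intro P a ζ Q hQ
    rw [map_mul, map_pow]
    refine mul_le_one' (pow_le_one₀ zero_le (htle P Q hQ)) ?_
    by_cases h : Q = P.1
    · subst h; exact hσ1 P ζ
    · refine (hσ3 P Q hQ h ζ).trans ?_
      rw [← Place.val_eq_exp_neg_ord Q hx0]
      exact (hS Q hQ).le
  have h1 : ∀ ζ, ∀ Q ∈ S, Q.1 (Φ ζ) ≤ 1 := by
    intro ζ Q hQ
    rw [hΦ]
    refine Valuation.map_sum_le _ fun P _ => Valuation.map_sum_le _ fun a _ => hterm P a _ Q hQ
  -- the key valuation computation
  have h2 : ∀ ζ, ζ ≠ 0 → ∃ P : S, P.1.1 x < P.1.1 (Φ ζ) := by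
    intro ζ hζ
    obtain ⟨P, hP⟩ : ∃ P : S, ζ P ≠ 0 := by
      by_contra h
      push Not at h
      exact hζ (funext h)
    refine ⟨P, ?_⟩
    have hex : ∃ a : Fin (e P), ζ P a ≠ 0 := by
      by_contra h
      push Not at h
      exact hP (funext h)
    -- minimal such `a`
    obtain ⟨a₀, ha₀mem, hmin'⟩ := Finset.exists_min_image
      (Finset.univ.filter fun a : Fin (e P) => ζ P a ≠ 0) (fun a => a) (by
        obtain ⟨a, ha⟩ := hex
        exact ⟨a, Finset.mem_filter.mpr ⟨Finset.mem_univ _, ha⟩⟩)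
    have ha₀ : ζ P a₀ ≠ 0 := (Finset.mem_filter.mp ha₀mem).2
    have hmin : ∀ a : Fin (e P), ζ P a ≠ 0 → a₀ ≤ a := fun a ha =>
      hmin' a (Finset.mem_filter.mpr ⟨Finset.mem_univ _, ha⟩)
    have hmain : P.1.1 (t P ^ (a₀ : ℕ) * σ P (ζ P a₀)) = exp (-((a₀ : ℕ) : ℤ)) := by
      rw [map_mul, map_pow, htP, hσ2 P _ ha₀, mul_one, ← exp_nsmul]
      simp
    have hrest : P.1.1 (Φ ζ - t P ^ (a₀ : ℕ) * σ P (ζ P a₀)) ≤ exp (-((a₀ : ℕ) : ℤ) - 1) := by
      have hsplit : Φ ζ - t P ^ (a₀ : ℕ) * σ P (ζ P a₀) =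
          (∑ a ∈ Finset.univ.erase a₀, t P ^ (a : ℕ) * σ P (ζ P a)) +
          ∑ Q ∈ Finset.univ.erase P, ∑ a : Fin (e Q), t Q ^ (a : ℕ) * σ Q (ζ Q a) := by
        rw [hΦ, ← Finset.add_sum_erase Finset.univ _ (Finset.mem_univ P),
          ← Finset.add_sum_erase Finset.univ _ (Finset.mem_univ a₀)]
        ring
      rw [hsplit]
      refine le_trans (P.1.1.map_add _ _) (max_le ?_ ?_)
      · apply Valuation.map_sum_le
        intro a ha
        by_cases hza : ζ P a = 0
        · rw [hza, map_zero, mul_zero, map_zero]; exact zero_le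
        · have hlt : a₀ < a := lt_of_le_of_ne (hmin a hza) (Finset.ne_of_mem_erase ha).symm
          rw [map_mul, map_pow, htP]
          calc exp (-1 : ℤ) ^ (a : ℕ) * P.1.1 (σ P (ζ P a)) ≤ exp (-1 : ℤ) ^ (a : ℕ) * 1 :=
                mul_le_mul_right (hσ1 P _) _
            _ = exp (-((a : ℕ) : ℤ)) := by rw [mul_one, ← exp_nsmul]; simp
            _ ≤ exp (-((a₀ : ℕ) : ℤ) - 1) := by
                rw [exp_le_exp]
                have : (a₀ : ℕ) < (a : ℕ) := hlt
                omega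
      · apply Valuation.map_sum_le
        intro Q hQ
        apply Valuation.map_sum_le
        intro a _
        have hQP : P.1 ≠ Q.1 := fun h => (Finset.ne_of_mem_erase hQ) (Subtype.ext h.symm)
        rw [map_mul, map_pow]
        calc P.1.1 (t Q) ^ (a : ℕ) * P.1.1 (σ Q (ζ Q a))
            ≤ 1 * exp (-(P.1.ord x)) :=
              mul_le_mul' (pow_le_one₀ zero_le (htle Q P.1 P.2)) (hσ3 Q P.1 P.2 hQP _)
          _ = exp (-(e P : ℤ)) := by rw [one_mul, he]
          _ ≤ exp (-((a₀ : ℕ) : ℤ) - 1) := by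
              rw [exp_le_exp]
              have : (a₀ : ℕ) < e P := a₀.2
              omega
    have hlt : P.1.1 (Φ ζ - t P ^ (a₀ : ℕ) * σ P (ζ P a₀)) <
        P.1.1 (t P ^ (a₀ : ℕ) * σ P (ζ P a₀)) := by
      rw [hmain]
      refine lt_of_le_of_lt hrest ?_
      rw [exp_lt_exp]; omega
    have hval : P.1.1 (Φ ζ) = exp (-((a₀ : ℕ) : ℤ)) := by
      have : Φ ζ = (Φ ζ - t P ^ (a₀ : ℕ) * σ P (ζ P a₀)) + t P ^ (a₀ : ℕ) * σ P (ζ P a₀) := by
        ring
      rw [this, add_comm, Valuation.map_add_eq_of_lt_left _ hlt, hmain]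
    rw [hval, hvx, exp_lt_exp]
    have : (a₀ : ℕ) < e P := a₀.2
    omega
  -- injectivity
  have hinj : Function.Injective Φ := by
    rw [← LinearMap.ker_eq_bot, LinearMap.ker_eq_bot']
    intro ζ hζ
    by_contra h0
    obtain ⟨P, hP⟩ := h2 ζ h0
    rw [hζ, map_zero] at hP
    exact not_lt_zero hP
  -- apply the dimension bound
  have hbound := finrank_le_of_val hK (I := S) (fun P => P.1.1) (fun P => P.1.2.1) hxt
    (fun P => hS P.1 P.2) (LinearMap.range Φ)
    (by
      rintro _ ⟨ζ, rfl⟩ P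
      exact h1 ζ P.1 P.2)
    (by
      rintro _ ⟨ζ, rfl⟩ hu
      have hζ : ζ ≠ 0 := by
        rintro rfl
        exact hu (map_zero _)
      exact h2 ζ hζ)
  have hdim : Module.finrank k (LinearMap.range Φ) = ∑ P : S, e P * P.1.deg := by
    rw [LinearMap.finrank_range_of_inj hinj, Module.finrank_pi_fintype]
    refine Finset.sum_congr rfl fun P _ => ?_
    rw [Module.finrank_pi_fintype]
    simp [FunFld.Place.deg]
  have hsum : ∑ P ∈ S, P.ord x * (P.deg : ℤ) = ((∑ P : S, e P * P.1.deg : ℕ) : ℤ) := by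
    rw [← Finset.sum_coe_sort S (fun P => P.ord x * (P.deg : ℤ))]
    push_cast
    refine Finset.sum_congr rfl fun P _ => ?_
    rw [he]
  rw [hsum, ← hdim]
  exact_mod_cast hbound.2

end Zeros

section Finite

lemma Place.deg_pos (hK : IsFunctionField k K) (P : Place k K) : 0 < P.deg := by
  obtain ⟨t, ht⟩ := Place.exists_uniformizer P
  have ht0 : t ≠ 0 := by
    rw [← Valuation.ne_zero_iff P.1, ht]; exact exp_ne_zero
  have ht1 : P.1 t < 1 := by rw [ht]; exact lt_one_iff_le_exp_neg_one.mpr le_rfl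
  have : Module.Finite k (IsLocalRing.ResidueField P.O) :=
    (Place.residue_finite_and_le P hK ht0 ht1).1
  exact Module.finrank_pos

/-- The zeros of a nonzero element form a finite set. -/
theorem finite_zeros (hK : IsFunctionField k K) {x : K} (hx0 : x ≠ 0) :
    {P : Place k K | P.1 x < 1}.Finite := by
  classical
  by_contra hinf
  set N := Module.finrank (IntermediateField.adjoin k ({x} : Set K)) K
  obtain ⟨S, hSsub, hScard⟩ := Set.Infinite.exists_subset_card_eq hinf (N + 1)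
  have h1 := sum_ord_mul_deg_le hK hx0 S (fun P hP => hSsub hP)
  have h2 : (S.card : ℤ) ≤ ∑ P ∈ S, P.ord x * (P.deg : ℤ) := by
    rw [Finset.card_eq_sum_ones]
    push_cast
    refine Finset.sum_le_sum fun P hP => ?_
    have ha : 1 ≤ P.ord x := (Place.ord_pos_iff P hx0).mpr (hSsub hP)
    have hb : (1 : ℤ) ≤ (P.deg : ℤ) := by exact_mod_cast Place.deg_pos hK P
    nlinarith
  rw [hScard] at h2
  omega

/-- The poles of a nonzero element form a finite set. -/
theorem finite_poles (hK : IsFunctionField k K) {x : K} (hx0 : x ≠ 0) :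
    {P : Place k K | 1 < P.1 x}.Finite := by
  have := finite_zeros hK (inv_ne_zero hx0)
  refine this.subset ?_
  intro P hP
  have h3 : P.1 x ≠ 0 := (Valuation.ne_zero_iff _).mpr hx0
  change P.1 x⁻¹ < 1
  rw [map_inv₀]
  exact (inv_lt_one₀ (zero_lt_iff.mpr h3)).mpr hP

/-- **Cor 1.3.5**: finitely many zeros and poles. -/
theorem finite_support_ord (hK : IsFunctionField k K) (x : K) :
    (Function.support fun P : Place k K => P.ord x).Finite := by
  by_cases hx0 : x = 0
  · subst hx0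
    have : (Function.support fun P : Place k K => P.ord (0 : K)) = ∅ := by
      ext P
      simp [FunFld.Place.ord]
    rw [this]; exact Set.finite_empty
  · refine ((finite_zeros hK hx0).union (finite_poles hK hx0)).subset ?_
    intro P hP
    rw [Function.mem_support] at hP
    rcases lt_trichotomy (P.ord x) 0 with h | h | h
    · right; exact (Place.ord_neg_iff P hx0).mp h
    · exact absurd h hP
    · left; exact (Place.ord_pos_iff P hx0).mp h

end Finite

end Groth.Agent.Lib.Helper4.FF
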