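import Mathlib
import Groth.Agent.Lib.Helper4.FF.Zeros
import Groth.Agent.Lib.Helper4.FF.RelDim

/-! # Divisors, `A(D)` and `L(D)` (helper4) -/

namespace Groth.Agent.Lib.Helper4.FF

open FunFld WithZero

variable {k K : Type*} [Field k] [Field K] [Algebra k K]

section Deg

lemma Divisor.deg_add (D E : Divisor k K) : (D + E).deg = D.deg + E.deg := by
  unfold FunFld.Divisor.deg
  rw [Finsupp.sum_add_index']
  · intro P; simp
  · intro P a b; ring

lemma Divisor.deg_zero : (0 : Divisor k K).deg = 0 := by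
  unfold FunFld.Divisor.deg
  simp

lemma Divisor.deg_neg (D : Divisor k K) : (-D).deg = -D.deg := by
  have := Divisor.deg_add D (-D)
  rw [add_neg_cancel, Divisor.deg_zero] at this
  omega

lemma Divisor.deg_sub (D E : Divisor k K) : (D - E).deg = D.deg - E.deg := by
  rw [sub_eq_add_neg, Divisor.deg_add, Divisor.deg_neg]; ring

lemma Divisor.deg_single (P : Place k K) (n : ℤ) :
    FunFld.Divisor.deg (Finsupp.single P n : Divisor k K) = n * P.deg := by
  unfold FunFld.Divisor.deg
  rw [Finsupp.sum_single_index]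
  simp

lemma Divisor.deg_eq_sum (D : Divisor k K) (S : Finset (Place k K)) (hS : D.support ⊆ S) :
    D.deg = ∑ P ∈ S, D P * (P.deg : ℤ) := by
  unfold FunFld.Divisor.deg
  rw [Finsupp.sum_of_support_subset _ hS]
  intro P _; simp

end Deg

section AD

lemma AD_mono {D₁ D₂ : Divisor k K} (h : D₁ ≤ D₂) : AD D₁ ≤ AD D₂ := by
  intro a ha P
  exact (ha P).trans (exp_le_exp.mpr (h P))

lemma mem_AD {D : Divisor k K} {a : Place k K → K} :
    a ∈ AD D ↔ ∀ P, P.1 (a P) ≤ exp (D P) := Iff.rfl

lemma mem_L {D : Divisor k K} {x : K} : x ∈ L D ↔ ∀ P : Place k K, P.1 x ≤ exp (D P) := Iff.rfl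

lemma L_eq_comap (D : Divisor k K) : L D = (AD D).comap (diag k K) := by
  ext x
  rfl

end AD

section Step

/-- One step: `A(D) ⊆ A(D + P)` has relative dimension `deg P`. -/
theorem isRelDim_AD_single (hK : IsFunctionField k K) (D : Divisor k K) (P : Place k K) :
    IsRelDim (AD D) (AD (D + Finsupp.single P 1)) P.deg := by
  classical
  obtain ⟨t, ht⟩ := Place.exists_uniformizer P
  have ht0 : t ≠ 0 := by
    rw [← Valuation.ne_zero_iff P.1, ht]; exact exp_ne_zero
  have ht1 : P.1 t < 1 := by rw [ht]; exact lt_one_iff_le_exp_neg_one.mpr le_rfl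
  have hfin : Module.Finite k (IsLocalRing.ResidueField P.O) :=
    (Place.residue_finite_and_le P hK ht0 ht1).1
  obtain ⟨σ, hσ1, hσ2, -, hσ4⟩ := exists_section hK ∅ P (fun _ => 0)
  set n : ℤ := D P + 1 with hn
  have htn : P.1 (t ^ (-n)) = exp n := by
    rw [map_zpow₀, ht, ← exp_zsmul]; simp
  have htn' : P.1 (t ^ n) = exp (-n) := by
    rw [map_zpow₀, ht, ← exp_zsmul]; simp
  -- the complement
  let g : IsLocalRing.ResidueField P.O →ₗ[k] (Place k K → K) :=
    (LinearMap.single k (fun _ : Place k K => K) P) ∘ₗ (LinearMap.mulLeft k (t ^ (-n))) ∘ₗ σ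
  have hgP : ∀ ζ, g ζ P = t ^ (-n) * σ ζ := by
    intro ζ
    simp [g]
  have hgQ : ∀ ζ Q, Q ≠ P → g ζ Q = 0 := by
    intro ζ Q hQ
    simp [g, hQ]
  have hσinj : ∀ ζ, σ ζ = 0 → ζ = 0 := by
    intro ζ h
    by_contra h0
    have := hσ2 ζ h0
    rw [h, map_zero] at this
    exact zero_ne_one this
  have hginj : Function.Injective g := by
    rw [← LinearMap.ker_eq_bot, LinearMap.ker_eq_bot']
    intro ζ hζ
    have := congrFun hζ P
    rw [hgP, Pi.zero_apply, mul_eq_zero] at this
    rcases this with h | h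
    · exact absurd h (zpow_ne_zero _ ht0)
    · exact hσinj ζ h
  have hD1 : ∀ Q, Q ≠ P → (D + Finsupp.single P 1 : Divisor k K) Q = D Q := by
    intro Q hQ
    simp [Ne.symm hQ]
  have hD2 : (D + Finsupp.single P 1 : Divisor k K) P = n := by simp [hn]
  refine ⟨LinearMap.range g, inferInstance, ?_, ?_, ?_⟩
  · rw [LinearMap.finrank_range_of_inj hginj]; rfl
  · rw [eq_bot_iff]
    rintro _ ⟨ha, ⟨ζ, rfl⟩⟩
    have h1 := ha P
    rw [hgP, map_mul, htn] at h1
    have h2 : P.1 (σ ζ) < 1 := by
      by_contra h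
      push Not at h
      have h3 : exp n ≤ exp n * P.1 (σ ζ) := le_mul_of_one_le_right' h
      have h4 := h3.trans h1
      rw [exp_le_exp] at h4
      omega
    have hζ : ζ = 0 := by
      by_contra h0
      rw [hσ2 ζ h0] at h2
      exact lt_irrefl _ h2
    rw [hζ, map_zero]
    exact Submodule.zero_mem _
  · apply le_antisymm
    · apply sup_le
      · exact AD_mono (le_add_of_nonneg_right (by
          intro Q
          simp only [Finsupp.coe_zero, Pi.zero_apply, Finsupp.single_apply]
          split_ifs <;> norm_num))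
      · rintro _ ⟨ζ, rfl⟩ Q
        by_cases hQ : Q = P
        · subst hQ
          rw [hgP, hD2, map_mul, htn]
          exact mul_le_of_le_one_right' (hσ1 ζ)
        · rw [hgQ ζ Q hQ, map_zero]; exact zero_le
    · intro a ha
      have haP : P.1 (a P) ≤ exp n := by
        have := ha P
        rwa [hD2] at this
      have hy : P.1 (t ^ n * a P) ≤ 1 := by
        rw [map_mul, htn']
        calc exp (-n) * P.1 (a P) ≤ exp (-n) * exp n := mul_le_mul_right haP _
          _ = 1 := by rw [← exp_add]; simp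
      set y : P.O := ⟨t ^ n * a P, (Place.mem_O_iff P).mpr hy⟩ with hy'
      set ζ := Place.resₗ P y with hζ
      rw [Submodule.mem_sup]
      refine ⟨a - g ζ, ?_, g ζ, ⟨ζ, rfl⟩, by abel⟩
      intro Q
      by_cases hQ : Q = P
      · subst hQ
        rw [Pi.sub_apply, hgP]
        have h1 : a Q - t ^ (-n) * σ ζ = -(t ^ (-n) * (σ (Place.resₗ Q y) - (y : K))) := by
          have hyK : (y : K) = t ^ n * a Q := rfl
          rw [hyK, zpow_neg]
          field_simp
          ring
        rw [h1, Valuation.map_neg, map_mul, htn]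
        have h2 := lt_one_iff_le_exp_neg_one.mp (hσ4 y)
        calc exp n * Q.1 (σ (Place.resₗ Q y) - (y : K)) ≤ exp n * exp (-1 : ℤ) :=
              mul_le_mul_right h2 _
          _ = exp (D Q) := by rw [← exp_add, hn]; congr 1; ring
      · rw [Pi.sub_apply, hgQ ζ Q hQ, sub_zero, ← hD1 Q hQ]
        exact ha Q

end Step

section Global

theorem isRelDim_AD_single_nat (hK : IsFunctionField k K) (P : Place k K) (n : ℕ)
    (D : Divisor k K) :
    IsRelDim (AD D) (AD (D + Finsupp.single P (n : ℤ))) (n * P.deg) := by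
  induction n with
  | zero =>
    simp only [Nat.cast_zero, Finsupp.single_zero, add_zero, zero_mul]
    exact IsRelDim.refl _
  | succ n ih =>
    have h1 := isRelDim_AD_single hK (D + Finsupp.single P (n : ℤ)) P
    have h2 := ih.trans h1
    have e1 : D + Finsupp.single P (n : ℤ) + Finsupp.single P 1 =
        D + Finsupp.single P ((n + 1 : ℕ) : ℤ) := by
      rw [add_assoc, ← Finsupp.single_add]; push_cast; rfl
    have e2 : n * P.deg + P.deg = (n + 1) * P.deg := by ring
    rw [e1, e2] at h2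
    exact h2

theorem isRelDim_AD_finset (hK : IsFunctionField k K) (S : Finset (Place k K)) :
    ∀ D₁ D₂ : Divisor k K, D₁ ≤ D₂ → (∀ P, P ∉ S → D₁ P = D₂ P) →
      IsRelDim (AD D₁) (AD D₂) (∑ P ∈ S, (D₂ P - D₁ P).toNat * P.deg) := by
  classical
  induction S using Finset.induction_on with
  | empty =>
    intro D₁ D₂ _ h
    have : D₁ = D₂ := Finsupp.ext fun P => h P (Finset.notMem_empty P)
    subst this
    simp only [Finset.sum_empty]
    exact IsRelDim.refl _
  | insert P S' hP ih =>
    intro D₁ D₂ hle h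
    set m : ℕ := (D₂ P - D₁ P).toNat with hm
    have hm' : (m : ℤ) = D₂ P - D₁ P := Int.toNat_of_nonneg (sub_nonneg.mpr (hle P))
    set D' : Divisor k K := D₁ + Finsupp.single P (m : ℤ) with hD'
    have hD'P : D' P = D₂ P := by simp [hD', hm']
    have hD'Q : ∀ Q, Q ≠ P → D' Q = D₁ Q := by
      intro Q hQ
      simp [hD', Ne.symm hQ]
    have hle' : D' ≤ D₂ := by
      intro Q
      by_cases hQ : Q = P
      · subst hQ; rw [hD'P]
      · rw [hD'Q Q hQ]; exact hle Q
    have h1 := isRelDim_AD_single_nat hK P m D₁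
    have h2 := ih D' D₂ hle' (by
      intro Q hQ
      by_cases hQP : Q = P
      · subst hQP; exact hD'P
      · rw [hD'Q Q hQP]
        exact h Q (by
          intro hmem
          rcases Finset.mem_insert.mp hmem with h' | h'
          · exact hQP h'
          · exact hQ h'))
    have h3 := h1.trans h2
    rw [Finset.sum_insert hP]
    have : ∑ Q ∈ S', (D₂ Q - D' Q).toNat * Q.deg = ∑ Q ∈ S', (D₂ Q - D₁ Q).toNat * Q.deg := by
      refine Finset.sum_congr rfl fun Q hQ => ?_
      have hQP : Q ≠ P := fun h' => hP (h' ▸ hQ)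
      rw [hD'Q Q hQP]
    rw [this] at h3
    exact h3

/-- **Dimension of `A(D₂)/A(D₁)`** (`IsRelDim` form). -/
theorem isRelDim_AD (hK : IsFunctionField k K) {D₁ D₂ : Divisor k K} (h : D₁ ≤ D₂) :
    ∃ d : ℕ, (d : ℤ) = D₂.deg - D₁.deg ∧ IsRelDim (AD D₁) (AD D₂) d := by
  classical
  set S := (D₂ - D₁).support with hS
  refine ⟨_, ?_, isRelDim_AD_finset hK S D₁ D₂ h ?_⟩
  · rw [← Divisor.deg_sub, Divisor.deg_eq_sum (D₂ - D₁) S le_rfl]
    push_cast
    refine Finset.sum_congr rfl fun P _ => ?_
    rw [Int.toNat_of_nonneg (sub_nonneg.mpr (h P))]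
    rfl
  · intro P hP
    rw [hS, Finsupp.notMem_support_iff] at hP
    have : D₂ P - D₁ P = 0 := hP
    omega

end Global

section LD

theorem L_mono {D₁ D₂ : Divisor k K} (h : D₁ ≤ D₂) : L D₁ ≤ L D₂ := by
  intro x hx P
  exact (hx P).trans (exp_le_exp.mpr (h P))

theorem L_zero (hK : IsFunctionField k K) : L (0 : Divisor k K) = 1 := by
  ext x
  rw [Submodule.mem_one]
  constructor
  · intro hx
    have : ∀ P : Place k K, P.1 x ≤ 1 := by
      intro P
      have := hx P
      simpa using this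
    exact mem_range_of_forall_le_one hK this
  · rintro ⟨c, rfl⟩
    intro P
    simpa using P.2.1 c

/-- the basic inequality, assuming `L(D₁)` finite-dimensional -/
theorem L_finite_of_le (hK : IsFunctionField k K) {D₁ D₂ : Divisor k K} (h : D₁ ≤ D₂)
    [hfin : Module.Finite k (L D₁)] :
    Module.Finite k (L D₂) ∧ (ell D₂ : ℤ) ≤ ell D₁ + (D₂.deg - D₁.deg) := by
  obtain ⟨d, hd, hrel⟩ := isRelDim_AD hK h
  have : Module.Finite k ((AD D₁).comap (diag k K)) := by
    rw [← L_eq_comap]; exact hfin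
  have := hrel.comap_finite (diag k K)
  rw [← L_eq_comap, ← L_eq_comap] at this
  refine ⟨this.1, ?_⟩
  have h2 := this.2
  unfold FunFld.ell
  rw [← hd]
  exact_mod_cast h2

/-- **`L(D)` is finite-dimensional.** -/
theorem L_finite (hK : IsFunctionField k K) (D : Divisor k K) : Module.Finite k (L D) := by
  have h0 : Module.Finite k (L (0 : Divisor k K)) := by
    rw [L_zero hK, Submodule.one_eq_span]
    infer_instance
  have h1 : Module.Finite k (L (D ⊔ 0)) := (L_finite_of_le hK (le_sup_right : (0 : Divisor k K) ≤ D ⊔ 0)).1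
  exact Submodule.finiteDimensional_of_le (L_mono (le_sup_left : D ≤ D ⊔ 0))

theorem ell_sub_le (hK : IsFunctionField k K) {D₁ D₂ : Divisor k K} (h : D₁ ≤ D₂) :
    (ell D₂ : ℤ) - ell D₁ ≤ D₂.deg - D₁.deg := by
  have := L_finite hK D₁
  have := (L_finite_of_le hK h).2
  omega

theorem ell_mono (hK : IsFunctionField k K) {D₁ D₂ : Divisor k K} (h : D₁ ≤ D₂) :
    ell D₁ ≤ ell D₂ := by
  have := L_finite hK D₂
  exact Submodule.finrank_mono (L_mono h)

theorem ell_zero (hK : IsFunctionField k K) : ell (0 : Divisor k K) = 1 := by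
  unfold FunFld.ell
  rw [L_zero hK, Submodule.one_eq_span, finrank_span_singleton one_ne_zero]

end LD

end Groth.Agent.Lib.Helper4.FF
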