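import Mathlib
import Groth.Agent.Lib.Helper4.FF.Divisor

/-! # Degree of principal divisors (helper4) -/

namespace Groth.Agent.Lib.Helper4.FF

open FunFld WithZero Polynomial

variable {k K : Type*} [Field k] [Field K] [Algebra k K]

section Div

lemma div_apply (hK : IsFunctionField k K) (x : K) (P : Place k K) : div k x P = P.ord x := by
  unfold FunFld.div
  rw [dif_pos (finite_support_ord hK x)]
  rfl

/-- the pole divisor of `x` -/
noncomputable def poleDiv (x : K) : Divisor k K := (-(div k x)) ⊔ 0

lemma poleDiv_apply (hK : IsFunctionField k K) (x : K) (P : Place k K) :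
    (poleDiv x : Divisor k K) P = max (-(P.ord x)) 0 := by
  unfold poleDiv
  rw [Finsupp.sup_apply, Finsupp.neg_apply, div_apply hK]
  rfl

lemma poleDiv_nonneg (x : K) : (0 : Divisor k K) ≤ poleDiv x := le_sup_right

lemma val_le_exp_poleDiv (hK : IsFunctionField k K) (x : K) (P : Place k K) :
    P.1 x ≤ exp ((poleDiv x : Divisor k K) P) := by
  by_cases hx : x = 0
  · subst hx; simp
  · rw [poleDiv_apply hK, Place.val_eq_exp_neg_ord P hx, exp_le_exp]
    exact le_max_left _ _

lemma mem_L_poleDiv (hK : IsFunctionField k K) (x : K) : x ∈ L (poleDiv x : Divisor k K) :=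
  fun P => val_le_exp_poleDiv hK x P

/-- `deg (x)_∞ ≤ [K : k(x)]`. -/
theorem deg_poleDiv_le (hK : IsFunctionField k K) {x : K} (hx0 : x ≠ 0) :
    (poleDiv x : Divisor k K).deg ≤
      Module.finrank (IntermediateField.adjoin k ({x} : Set K)) K := by
  classical
  have hfinp := finite_poles hK hx0
  set S := hfinp.toFinset with hS
  have hsupp : (poleDiv x : Divisor k K).support ⊆ S := by
    intro P hP
    rw [Finsupp.mem_support_iff, poleDiv_apply hK] at hP
    rw [hS, Set.Finite.mem_toFinset]
    change 1 < P.1 x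
    rw [← Place.ord_neg_iff P hx0]
    by_contra h
    push Not at h
    exact hP (max_eq_right (by omega))
  rw [Divisor.deg_eq_sum _ S hsupp]
  have hinv : IntermediateField.adjoin k ({x⁻¹} : Set K) = IntermediateField.adjoin k ({x} : Set K) := by
    apply le_antisymm
    · rw [IntermediateField.adjoin_simple_le_iff]
      exact inv_mem (IntermediateField.mem_adjoin_simple_self k x)
    · rw [IntermediateField.adjoin_simple_le_iff]
      have := inv_mem (IntermediateField.mem_adjoin_simple_self k x⁻¹)
      rwa [inv_inv] at this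
  have h1 := sum_ord_mul_deg_le hK (inv_ne_zero hx0) S (by
    intro P hP
    rw [hS, Set.Finite.mem_toFinset] at hP
    have hP' : 1 < P.1 x := hP
    have h3 : P.1 x ≠ 0 := (Valuation.ne_zero_iff _).mpr hx0
    rw [map_inv₀]
    exact (inv_lt_one₀ (zero_lt_iff.mpr h3)).mpr hP')
  rw [hinv] at h1
  refine le_trans (le_of_eq ?_) h1
  refine Finset.sum_congr rfl fun P hP => ?_
  rw [hS, Set.Finite.mem_toFinset] at hP
  have hP' : 1 < P.1 x := hP
  rw [poleDiv_apply hK, Place.ord_inv, max_eq_left]
  have := (Place.ord_neg_iff P hx0).mpr hP'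
  omega

end Div

section Lower

lemma Divisor.deg_nsmul (n : ℕ) (D : Divisor k K) :
    FunFld.Divisor.deg (n • D) = n * D.deg := by
  induction n with
  | zero => simp [Divisor.deg_zero]
  | succ m ih =>
    rw [succ_nsmul, Divisor.deg_add, ih]
    push_cast; ring

lemma Divisor.deg_zsmul_natCast (n : ℕ) (D : Divisor k K) :
    FunFld.Divisor.deg ((n : ℤ) • D) = n * D.deg := by
  rw [natCast_zsmul, Divisor.deg_nsmul]

/-- valuation bound for polynomials in `x` -/
lemma val_aeval_le_exp (P : Place k K) {x : K} {b : ℤ} (hb : 0 ≤ b) (hx : P.1 x ≤ exp b)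
    (l : ℕ) (φ : k[X]) (hφ : φ.natDegree ≤ l) : P.1 (aeval x φ) ≤ exp ((l : ℤ) * b) := by
  rw [aeval_eq_sum_range]
  apply Valuation.map_sum_le
  intro i hi
  rw [Algebra.smul_def, map_mul, map_pow]
  have hi' : i ≤ l := by
    have := Finset.mem_range.mp hi
    omega
  calc P.1 (algebraMap k K (φ.coeff i)) * P.1 x ^ i ≤ 1 * exp b ^ i :=
        mul_le_mul' (P.2.1 _) (pow_le_pow_left₀ zero_le hx i)
    _ = exp ((i : ℤ) * b) := by rw [one_mul, ← exp_nsmul]; simp
    _ ≤ exp ((l : ℤ) * b) := by
        rw [exp_le_exp]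
        have : (i : ℤ) ≤ l := by exact_mod_cast hi'
        nlinarith

/-- The spaces `L(l(x)_∞ + C)` are large. -/
theorem exists_large_L (hK : IsFunctionField k K) {x : K} (hxt : Transcendental k x) :
    ∃ C : Divisor k K, 0 ≤ C ∧ ∀ l : ℕ,
      Module.finrank (IntermediateField.adjoin k ({x} : Set K)) K * (l + 1) ≤
        ell ((l : ℤ) • (poleDiv x : Divisor k K) + C) := by
  classical
  have hx0 : x ≠ 0 := by
    rintro rfl
    exact hxt isAlgebraic_zero
  have := finiteDimensional_adjoin hK hxt
  set F := IntermediateField.adjoin k ({x} : Set K) with hF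
  set n := Module.finrank F K with hn
  let u := Module.finBasis F K
  set B : Divisor k K := poleDiv x with hB
  set C : Divisor k K := ∑ j, (poleDiv (u j) : Divisor k K) with hC
  have hC0 : (0 : Divisor k K) ≤ C := Finset.sum_nonneg fun j _ => poleDiv_nonneg _
  have huC : ∀ j, u j ∈ L C := by
    intro j
    refine L_mono ?_ (mem_L_poleDiv hK (u j))
    exact Finset.single_le_sum (f := fun j => (poleDiv (u j) : Divisor k K))
      (fun j _ => poleDiv_nonneg _) (Finset.mem_univ j)
  refine ⟨C, hC0, ?_⟩
  intro l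
  set D : Divisor k K := (l : ℤ) • B + C with hD
  -- the map Θ
  let Θ : (Fin n → degreeLT k (l + 1)) →ₗ[k] K :=
    ∑ j : Fin n, (LinearMap.mulRight k (u j)) ∘ₗ (aeval x).toLinearMap ∘ₗ
      (degreeLT k (l + 1)).subtype ∘ₗ (LinearMap.proj j)
  have hΘ : ∀ φ, Θ φ = ∑ j : Fin n, aeval x (φ j : k[X]) * u j := by
    intro φ
    simp [Θ]
  have hmemF : ∀ p : k[X], aeval x p ∈ F := by
    intro p
    exact IntermediateField.algebra_adjoin_le_adjoin k _ (aeval_mem_adjoin_singleton k x)
  have hinj : Function.Injective Θ := by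
    rw [← LinearMap.ker_eq_bot, LinearMap.ker_eq_bot']
    intro φ hφ
    rw [hΘ] at hφ
    have h1 : ∑ j : Fin n, (⟨aeval x (φ j : k[X]), hmemF _⟩ : F) • u j = 0 := by
      rw [← hφ]
      rfl
    have h2 := Fintype.linearIndependent_iff.mp u.linearIndependent _ h1
    funext j
    have h3 : aeval x (φ j : k[X]) = 0 := congrArg Subtype.val (h2 j)
    have h4 : (φ j : k[X]) = 0 := by
      by_contra h0
      exact hxt ⟨_, h0, h3⟩
    exact Subtype.ext h4
  have hrange : LinearMap.range Θ ≤ L D := by
    rintro _ ⟨φ, rfl⟩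
    rw [hΘ]
    refine Submodule.sum_mem _ fun j _ => ?_
    intro P
    have hdeg : (φ j : k[X]).natDegree ≤ l := by
      have := mem_degreeLT.mp (φ j).2
      by_cases h0 : (φ j : k[X]) = 0
      · rw [h0]; simp
      · rw [degree_eq_natDegree h0] at this
        have : (φ j : k[X]).natDegree < l + 1 := by exact_mod_cast this
        omega
    have h1 := val_aeval_le_exp P (x := x) (b := B P)
      (by rw [hB, poleDiv_apply hK]; exact le_max_right _ _)
      (val_le_exp_poleDiv hK x P) l _ hdeg
    have h2 := huC j P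
    rw [map_mul]
    have hDP : D P = (l : ℤ) * B P + C P := by
      simp [hD]
    rw [hDP, exp_add]
    exact mul_le_mul' h1 h2
  have := L_finite hK D
  have h1 : Module.finrank k (LinearMap.range Θ) = n * (l + 1) := by
    rw [LinearMap.finrank_range_of_inj hinj, Module.finrank_pi_fintype]
    simp only [Finset.sum_const, Finset.card_univ, Fintype.card_fin, smul_eq_mul]
    congr 1
    rw [(degreeLTEquiv k (l + 1)).finrank_eq]
    simp
  rw [← h1]
  exact Submodule.finrank_mono hrange

/-- `[K : k(x)] ≤ deg (x)_∞` for transcendental `x`. -/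
theorem finrank_le_deg_poleDiv (hK : IsFunctionField k K) {x : K} (hxt : Transcendental k x) :
    (Module.finrank (IntermediateField.adjoin k ({x} : Set K)) K : ℤ) ≤
      (poleDiv x : Divisor k K).deg := by
  obtain ⟨C, hC0, hC⟩ := exists_large_L hK hxt
  set n := Module.finrank (IntermediateField.adjoin k ({x} : Set K)) K with hn
  set B : Divisor k K := poleDiv x with hB
  have key : ∀ l : ℕ, (n : ℤ) * (l + 1) ≤ 1 + l * B.deg + C.deg := by
    intro l
    have hD0 : (0 : Divisor k K) ≤ (l : ℤ) • B + C :=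
      add_nonneg (smul_nonneg (by positivity) (poleDiv_nonneg x)) hC0
    have := L_finite hK (0 : Divisor k K)
    have h3 := (L_finite_of_le hK hD0).2
    rw [ell_zero hK, Divisor.deg_zero, Divisor.deg_add, Divisor.deg_zsmul_natCast] at h3
    have h5 : ((n * (l + 1) : ℕ) : ℤ) ≤ ell ((l : ℤ) • B + C) := by exact_mod_cast hC l
    push_cast at h5 h3
    linarith
  by_contra hlt
  push Not at hlt
  have hC' : 0 ≤ C.deg := by
    rw [FunFld.Divisor.deg]
    apply Finset.sum_nonneg
    intro P _
    exact mul_nonneg (hC0 P) (by positivity)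
  have := key (1 + C.deg).toNat
  have hl : ((1 + C.deg).toNat : ℤ) = 1 + C.deg := Int.toNat_of_nonneg (by omega)
  rw [hl] at this
  have hb0 : 0 ≤ B.deg := by
    rw [FunFld.Divisor.deg]
    apply Finset.sum_nonneg
    intro P _
    exact mul_nonneg (poleDiv_nonneg x P) (by positivity)
  have hint : 0 ≤ (1 + C.deg) * ((n : ℤ) - 1 - B.deg) :=
    mul_nonneg (by linarith) (by linarith)
  nlinarith

end Lower

section Main

lemma adjoin_inv_eq (x : K) :
    IntermediateField.adjoin k ({x⁻¹} : Set K) = IntermediateField.adjoin k ({x} : Set K) := by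
  apply le_antisymm
  · rw [IntermediateField.adjoin_simple_le_iff]
    exact inv_mem (IntermediateField.mem_adjoin_simple_self k x)
  · rw [IntermediateField.adjoin_simple_le_iff]
    have := inv_mem (IntermediateField.mem_adjoin_simple_self k x⁻¹)
    rwa [inv_inv] at this

/-- **Theorem 1.4.11**: `deg (x)_∞ = [K : k(x)]`. -/
theorem deg_poleDiv (hK : IsFunctionField k K) {x : K} (hxt : Transcendental k x) :
    (poleDiv x : Divisor k K).deg =
      Module.finrank (IntermediateField.adjoin k ({x} : Set K)) K := by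
  have hx0 : x ≠ 0 := by
    rintro rfl
    exact hxt isAlgebraic_zero
  exact le_antisymm (deg_poleDiv_le hK hx0) (finrank_le_deg_poleDiv hK hxt)

/-- `deg (x)_0 = [K : k(x)]`. -/
theorem deg_zeroDiv (hK : IsFunctionField k K) {x : K} (hxt : Transcendental k x) :
    (poleDiv x⁻¹ : Divisor k K).deg =
      Module.finrank (IntermediateField.adjoin k ({x} : Set K)) K := by
  have hinv : Transcendental k x⁻¹ := fun h => hxt (by simpa using h.inv)
  rw [deg_poleDiv hK hinv, adjoin_inv_eq]

lemma div_eq_sub (hK : IsFunctionField k K) (x : K) :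
    div k x = (poleDiv x⁻¹ : Divisor k K) - poleDiv x := by
  ext P
  rw [Finsupp.sub_apply, div_apply hK, poleDiv_apply hK, poleDiv_apply hK, Place.ord_inv]
  rcases le_total (P.ord x) 0 with h | h
  · rw [max_eq_right (by omega), max_eq_left (by omega)]; ring
  · rw [max_eq_left (by omega), max_eq_right (by omega)]; ring

lemma div_eq_zero_of_mem_range (hK : IsFunctionField k K) {x : K}
    (hx : x ∈ Set.range (algebraMap k K)) : div k x = 0 := by
  obtain ⟨c, rfl⟩ := hx
  ext P
  rw [div_apply hK, Place.ord_k]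
  rfl

/-- **Principal divisors have degree zero.** -/
theorem deg_div (hK : IsFunctionField k K) (x : K) : (div k x).deg = 0 := by
  by_cases hx : x ∈ Set.range (algebraMap k K)
  · rw [div_eq_zero_of_mem_range hK hx, Divisor.deg_zero]
  · have hxt := transcendental_of_notMem hK hx
    rw [div_eq_sub hK, Divisor.deg_sub, deg_zeroDiv hK hxt, deg_poleDiv hK hxt, sub_self]

lemma Divisor.deg_nonneg {D : Divisor k K} (hD : 0 ≤ D) : 0 ≤ D.deg := by
  rw [FunFld.Divisor.deg]
  apply Finset.sum_nonneg
  intro P _
  exact mul_nonneg (hD P) (by positivity)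

lemma div_add_nonneg_of_mem_L (hK : IsFunctionField k K) {D : Divisor k K} {x : K} (hx0 : x ≠ 0)
    (hx : x ∈ L D) : 0 ≤ div k x + D := by
  intro P
  rw [Finsupp.add_apply, div_apply hK]
  have := hx P
  rw [Place.val_eq_exp_neg_ord P hx0, exp_le_exp] at this
  simp only [Finsupp.coe_zero, Pi.zero_apply]
  omega

/-- `L(D) = 0` when `deg D < 0`. -/
theorem L_eq_bot_of_deg_neg (hK : IsFunctionField k K) {D : Divisor k K} (h : D.deg < 0) :
    L D = ⊥ := by
  rw [eq_bot_iff]
  intro x hx
  rw [Submodule.mem_bot]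
  by_contra hx0
  have h1 := Divisor.deg_nonneg (div_add_nonneg_of_mem_L hK hx0 hx)
  rw [Divisor.deg_add, deg_div hK] at h1
  omega

end Main

end Groth.Agent.Lib.Helper4.FF
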