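import Mathlib
import Groth.Agent.Lib.Helper4.FF.Degree

/-! # Riemann's theorem and the genus (helper4) -/

namespace Groth.Agent.Lib.Helper4.FF

open FunFld WithZero

variable {k K : Type*} [Field k] [Field K] [Algebra k K]

section LinEquiv

lemma mul_mem_L (hK : IsFunctionField k K) {D : Divisor k K} {z y : K} (hz : z ≠ 0)
    (hy : y ∈ L D) : z * y ∈ L (D - div k z) := by
  intro P
  rw [map_mul, Finsupp.sub_apply, div_apply hK, Place.val_eq_exp_neg_ord P hz, sub_eq_neg_add,
    exp_add]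
  exact mul_le_mul_right (hy P) _

lemma div_inv (hK : IsFunctionField k K) (z : K) : div k z⁻¹ = -div k z := by
  ext P
  rw [Finsupp.neg_apply, div_apply hK, div_apply hK, Place.ord_inv]

lemma div_mul (hK : IsFunctionField k K) {y z : K} (hy : y ≠ 0) (hz : z ≠ 0) :
    div k (y * z) = div k y + div k z := by
  ext P
  rw [Finsupp.add_apply, div_apply hK, div_apply hK, div_apply hK, Place.ord_mul P hy hz]

/-- Multiplication by `z ≠ 0` identifies `L(D)` with `L(D - (z))`. -/
noncomputable def mulL (hK : IsFunctionField k K) (D : Divisor k K) {z : K} (hz : z ≠ 0) :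
    L D ≃ₗ[k] L (D - div k z) where
  toFun y := ⟨z * y, mul_mem_L hK hz y.2⟩
  map_add' a b := Subtype.ext (mul_add _ _ _)
  map_smul' c a := Subtype.ext (mul_smul_comm _ _ _)
  invFun y := ⟨z⁻¹ * y, by
    have := mul_mem_L hK (inv_ne_zero hz) y.2
    rwa [div_inv hK, sub_neg_eq_add, sub_add_cancel] at this⟩
  left_inv a := Subtype.ext (by simp [hz])
  right_inv a := Subtype.ext (by simp [hz])

theorem ell_sub_div (hK : IsFunctionField k K) (D : Divisor k K) {z : K} (hz : z ≠ 0) :
    ell (D - div k z) = ell D :=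
  ((mulL hK D hz).finrank_eq).symm

theorem ell_add_div (hK : IsFunctionField k K) (D : Divisor k K) {z : K} (hz : z ≠ 0) :
    ell (D + div k z) = ell D := by
  have := ell_sub_div hK D (inv_ne_zero hz)
  rwa [div_inv hK, sub_neg_eq_add] at this

theorem deg_add_div (hK : IsFunctionField k K) (D : Divisor k K) (z : K) :
    (D + div k z).deg = D.deg := by
  rw [Divisor.deg_add, deg_div hK, add_zero]

theorem deg_sub_div (hK : IsFunctionField k K) (D : Divisor k K) (z : K) :
    (D - div k z).deg = D.deg := by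
  rw [Divisor.deg_sub, deg_div hK, sub_zero]

/-- a positive-dimensional `L(D)` contains a nonzero element -/
lemma exists_ne_zero_of_ell_pos {D : Divisor k K} (h : 0 < ell D) : ∃ z ∈ L D, z ≠ 0 := by
  unfold FunFld.ell at h
  have : Nontrivial (L D) := Module.nontrivial_of_finrank_pos h
  obtain ⟨z, hz⟩ := exists_ne (0 : L D)
  exact ⟨z, z.2, fun h0 => hz (Subtype.ext h0)⟩

end LinEquiv

section Riemann

/-- **Riemann's inequality**: `deg A - ℓ(A)` is bounded above. -/
theorem riemann_bound (hK : IsFunctionField k K) : ∃ γ : ℤ, ∀ A : Divisor k K, A.deg - ell A ≤ γ := by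
  obtain ⟨x, hxt, -⟩ := hK.1
  obtain ⟨C, hC0, hC⟩ := exists_large_L hK hxt
  have hfin := finiteDimensional_adjoin hK hxt
  set n := Module.finrank (IntermediateField.adjoin k ({x} : Set K)) K with hn
  have hn1 : 1 ≤ n := Module.finrank_pos
  set B : Divisor k K := poleDiv x with hB
  have hBdeg : B.deg = n := deg_poleDiv hK hxt
  have hB0 : (0 : Divisor k K) ≤ B := poleDiv_nonneg x
  -- step 1: bound for multiples of `B`
  have h1 : ∀ l : ℕ, ((l : ℤ) • B).deg - ell ((l : ℤ) • B) ≤ C.deg - n := by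
    intro l
    have hle : (l : ℤ) • B ≤ (l : ℤ) • B + C := le_add_of_nonneg_right hC0
    have h2 := ell_sub_le hK hle
    rw [Divisor.deg_add, add_sub_cancel_left] at h2
    have h3 : ((n * (l + 1) : ℕ) : ℤ) ≤ ell ((l : ℤ) • B + C) := by exact_mod_cast hC l
    rw [Divisor.deg_zsmul_natCast, hBdeg]
    push_cast at h3
    linarith
  refine ⟨C.deg - n, fun A => ?_⟩
  set A₁ : Divisor k K := A ⊔ 0 with hA₁
  have hAA₁ : A ≤ A₁ := le_sup_left
  have hA₁0 : (0 : Divisor k K) ≤ A₁ := le_sup_right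
  have hA₁deg : 0 ≤ A₁.deg := Divisor.deg_nonneg hA₁0
  have hCdeg : 0 ≤ C.deg := Divisor.deg_nonneg hC0
  set l : ℕ := (C.deg + A₁.deg + 1).toNat with hl
  have hl' : (l : ℤ) = C.deg + A₁.deg + 1 := Int.toNat_of_nonneg (by omega)
  -- `L(lB - A₁)` is nonzero
  have h2 : 0 < ell ((l : ℤ) • B - A₁) := by
    have hle : (l : ℤ) • B - A₁ ≤ (l : ℤ) • B := sub_le_self _ hA₁0
    have h3 := ell_sub_le hK hle
    rw [Divisor.deg_sub, sub_sub_cancel] at h3
    have h4 := h1 l
    rw [Divisor.deg_zsmul_natCast, hBdeg] at h4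
    have h5 : (0 : ℤ) < ell ((l : ℤ) • B - A₁) := by
      have : (l : ℤ) * n ≥ l := by
        have : (1 : ℤ) ≤ n := by exact_mod_cast hn1
        nlinarith
      linarith
    exact_mod_cast h5
  obtain ⟨z, hzL, hz0⟩ := exists_ne_zero_of_ell_pos h2
  set D : Divisor k K := A₁ - div k z with hD
  have hDle : D ≤ (l : ℤ) • B := by
    have := div_add_nonneg_of_mem_L hK hz0 hzL
    rw [hD]
    intro P
    have hP := this P
    simp only [Finsupp.coe_zero, Pi.zero_apply, Finsupp.add_apply, Finsupp.sub_apply] at hP ⊢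
    omega
  have hDell : ell D = ell A₁ := ell_sub_div hK A₁ hz0
  have hDdeg : D.deg = A₁.deg := deg_sub_div hK A₁ _
  have h3 := ell_sub_le hK hAA₁
  have h4 := ell_sub_le hK hDle
  have h5 := h1 l
  rw [hDell, hDdeg] at h4
  linarith

end Riemann

section Genus

theorem genus_bddAbove (hK : IsFunctionField k K) :
    BddAbove (Set.range fun D : Divisor k K => (D.deg + 1 - (ell D : ℤ)).toNat) := by
  obtain ⟨γ, hγ⟩ := riemann_bound hK
  refine ⟨(γ + 1).toNat, ?_⟩
  rintro _ ⟨D, rfl⟩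
  have := hγ D
  simp only
  omega

theorem le_genus (hK : IsFunctionField k K) (D : Divisor k K) :
    D.deg + 1 - (ell D : ℤ) ≤ genus k K := by
  have h1 : (D.deg + 1 - (ell D : ℤ)).toNat ≤ genus k K :=
    le_csSup (genus_bddAbove hK) ⟨D, rfl⟩
  have h2 : D.deg + 1 - (ell D : ℤ) ≤ ((D.deg + 1 - (ell D : ℤ)).toNat : ℤ) := Int.self_le_toNat _
  exact h2.trans (by exact_mod_cast h1)

theorem exists_eq_genus (hK : IsFunctionField k K) :
    ∃ A₀ : Divisor k K, A₀.deg + 1 - (ell A₀ : ℤ) = genus k K := by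
  have hne : (Set.range fun D : Divisor k K => (D.deg + 1 - (ell D : ℤ)).toNat).Nonempty :=
    ⟨_, ⟨0, rfl⟩⟩
  obtain ⟨A₀, hA₀⟩ := Nat.sSup_mem hne (genus_bddAbove hK)
  have hA₀' : (A₀.deg + 1 - (ell A₀ : ℤ)).toNat = genus k K := hA₀
  by_cases hpos : 0 ≤ A₀.deg + 1 - (ell A₀ : ℤ)
  · exact ⟨A₀, by rw [← hA₀', Int.toNat_of_nonneg hpos]⟩
  · refine ⟨0, ?_⟩
    have : genus k K = 0 := by
      rw [← hA₀']
      exact Int.toNat_of_nonpos (by omega)
    rw [this, Divisor.deg_zero, ell_zero hK]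
    simp

/-- **Riemann's theorem**, second part. -/
theorem eq_genus_of_deg_ge (hK : IsFunctionField k K) :
    ∃ N : ℤ, ∀ D : Divisor k K, N ≤ D.deg → D.deg + 1 - (ell D : ℤ) = genus k K := by
  obtain ⟨A₀, hA₀⟩ := exists_eq_genus hK
  refine ⟨A₀.deg + genus k K, fun A hA => ?_⟩
  apply le_antisymm (le_genus hK A)
  -- `L(A - A₀)` is nonzero
  have h1 := le_genus hK (A - A₀)
  rw [Divisor.deg_sub] at h1
  have h2 : 0 < ell (A - A₀) := by
    have : (0 : ℤ) < ell (A - A₀) := by linarith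
    exact_mod_cast this
  obtain ⟨z, hzL, hz0⟩ := exists_ne_zero_of_ell_pos h2
  have h3 := div_add_nonneg_of_mem_L hK hz0 hzL
  have hle : A₀ ≤ A + div k z := by
    intro P
    have hP := h3 P
    simp only [Finsupp.coe_zero, Pi.zero_apply, Finsupp.add_apply, Finsupp.sub_apply] at hP ⊢
    omega
  have h4 := ell_sub_le hK hle
  rw [ell_add_div hK A hz0, deg_add_div hK] at h4
  linarith

end Genus

end Groth.Agent.Lib.Helper4.FF
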