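import Mathlib
import Groth.Agent.Lib.Helper4.FF.Riemann

/-! # Adeles (repartitions) (helper4) -/

namespace Groth.Agent.Lib.Helper4.FF

open FunFld WithZero

variable {k K : Type*} [Field k] [Field K] [Algebra k K]

section Diag

lemma nonempty_place (hK : IsFunctionField k K) : Nonempty (Place k K) := by
  obtain ⟨x, hxt, -⟩ := hK.1
  obtain ⟨P, -⟩ := exists_zero hK hxt
  exact ⟨P⟩

lemma diag_apply (x : K) (P : Place k K) : diag k K x P = x := rfl

lemma diag_injective (hK : IsFunctionField k K) : Function.Injective (diag k K) := by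
  obtain ⟨P⟩ := nonempty_place hK
  intro x y h
  exact congrFun h P

lemma AD_inf_range_diag (D : Divisor k K) :
    AD D ⊓ LinearMap.range (diag k K) = Submodule.map (diag k K) (L D) := by
  ext a
  constructor
  · rintro ⟨ha, ⟨x, rfl⟩⟩
    exact ⟨x, ha, rfl⟩
  · rintro ⟨x, hx, rfl⟩
    exact ⟨hx, ⟨x, rfl⟩⟩

lemma finrank_AD_inf (hK : IsFunctionField k K) (D : Divisor k K) :
    Module.Finite k ↥(AD D ⊓ LinearMap.range (diag k K)) ∧
      Module.finrank k ↥(AD D ⊓ LinearMap.range (diag k K)) = ell D := by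
  rw [AD_inf_range_diag]
  have := L_finite hK D
  let e := Submodule.equivMapOfInjective (diag k K) (diag_injective hK) (L D)
  exact ⟨Module.Finite.equiv e, e.finrank_eq.symm⟩

/-- **`dim (A(D₂)+K)/(A(D₁)+K) = δ(D₂) - δ(D₁)`** (`IsRelDim` form). -/
theorem isRelDim_ADK (hK : IsFunctionField k K) {D₁ D₂ : Divisor k K} (h : D₁ ≤ D₂) :
    ∃ e : ℕ, (e : ℤ) = (D₂.deg + 1 - ell D₂) - (D₁.deg + 1 - ell D₁) ∧
      IsRelDim (AD D₁ ⊔ LinearMap.range (diag k K)) (AD D₂ ⊔ LinearMap.range (diag k K)) e := by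
  obtain ⟨d, hd, hrel⟩ := isRelDim_AD hK h
  obtain ⟨hf₂, hr₂⟩ := finrank_AD_inf hK D₂
  obtain ⟨hf₁, hr₁⟩ := finrank_AD_inf hK D₁
  obtain ⟨e, he, hrel'⟩ := hrel.sup_right (LinearMap.range (diag k K))
  refine ⟨e, ?_, hrel'⟩
  rw [hr₁, hr₂] at he
  have : (e : ℤ) + ell D₂ = d + ell D₁ := by exact_mod_cast he
  linarith

end Diag

section Adele

lemma mem_adele {a : Place k K → K} :
    a ∈ adele k K ↔ {P : Place k K | ¬ P.1 (a P) ≤ 1}.Finite := by
  change (∀ᶠ P : Place k K in Filter.cofinite, P.1 (a P) ≤ 1) ↔ _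
  rw [Filter.eventually_cofinite]

lemma AD_le_adele (D : Divisor k K) : AD D ≤ adele k K := by
  intro a ha
  rw [mem_adele]
  refine (D.support.finite_toSet).subset ?_
  intro P hP
  rw [Finset.mem_coe, Finsupp.mem_support_iff]
  intro h0
  apply hP
  have := ha P
  rwa [h0, exp_zero] at this

lemma range_diag_le_adele (hK : IsFunctionField k K) : LinearMap.range (diag k K) ≤ adele k K := by
  rintro _ ⟨x, rfl⟩
  rw [mem_adele]
  by_cases hx : x = 0
  · subst hx
    convert Set.finite_empty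
    ext P
    simp
  · refine (finite_poles hK hx).subset ?_
    intro P hP
    exact not_le.mp hP

/-- every adele lies in some `A(D')` with `D' ≥ D` -/
lemma exists_AD_of_mem_adele (D : Divisor k K) {a : Place k K → K} (ha : a ∈ adele k K) :
    ∃ D' : Divisor k K, D ≤ D' ∧ a ∈ AD D' := by
  classical
  rw [mem_adele] at ha
  let E : Divisor k K := Finsupp.onFinset ha.toFinset
    (fun P => if ¬ P.1 (a P) ≤ 1 then log (P.1 (a P)) else 0) (by
      intro P hP
      rw [Set.Finite.mem_toFinset]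
      by_contra h
      simp only [Set.mem_ofPred_eq] at h
      exact hP (by simp [h]))
  have hE : ∀ P, E P = if ¬ P.1 (a P) ≤ 1 then log (P.1 (a P)) else 0 := fun P => rfl
  refine ⟨D ⊔ 0 ⊔ E, le_sup_of_le_left le_sup_left, ?_⟩
  intro P
  by_cases hP : P.1 (a P) ≤ 1
  · refine hP.trans ?_
    rw [← exp_zero, exp_le_exp]
    have : (0 : ℤ) ≤ (D ⊔ 0 : Divisor k K) P := by
      rw [Finsupp.sup_apply]; exact le_max_right _ _
    calc (0 : ℤ) ≤ (D ⊔ 0 : Divisor k K) P := this
      _ ≤ (D ⊔ 0 ⊔ E : Divisor k K) P := by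
        rw [Finsupp.sup_apply (f := D ⊔ 0)]; exact le_max_left _ _
  · apply le_exp_of_log_le
    have h1 : E P = log (P.1 (a P)) := by rw [hE, if_pos hP]
    rw [← h1, Finsupp.sup_apply (f := D ⊔ 0)]
    exact le_max_right _ _

/-- `A = A(D) + K` as soon as `δ(D) = g`. -/
theorem adele_eq_of_delta_eq_genus (hK : IsFunctionField k K) {D : Divisor k K}
    (hD : D.deg + 1 - (ell D : ℤ) = genus k K) :
    adele k K = AD D ⊔ LinearMap.range (diag k K) := by
  apply le_antisymm
  · intro a ha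
    obtain ⟨D', hDD', haD'⟩ := exists_AD_of_mem_adele D ha
    obtain ⟨e, he, hrel⟩ := isRelDim_ADK hK hDD'
    have h1 := le_genus hK D'
    have he0 : e = 0 := by
      have : (e : ℤ) ≤ 0 := by rw [he]; linarith
      omega
    rw [he0] at hrel
    rw [hrel.eq_of_zero]
    exact Submodule.mem_sup_left haD'
  · exact sup_le (AD_le_adele D) (range_diag_le_adele hK)

/-- existence of divisors `≥ D` with `δ = g` -/
lemma exists_ge_delta_eq_genus (hK : IsFunctionField k K) (D : Divisor k K) :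
    ∃ D₁ : Divisor k K, D ≤ D₁ ∧ D₁.deg + 1 - (ell D₁ : ℤ) = genus k K := by
  obtain ⟨N, hN⟩ := eq_genus_of_deg_ge hK
  obtain ⟨P⟩ := nonempty_place hK
  set m : ℕ := (N - D.deg).toNat with hm
  refine ⟨D + Finsupp.single P (m : ℤ), ?_, ?_⟩
  · apply le_add_of_nonneg_right
    intro Q
    classical
    rw [Finsupp.coe_zero, Pi.zero_apply, Finsupp.single_apply]
    split_ifs <;> positivity
  · apply hN
    rw [Divisor.deg_add, Divisor.deg_single]
    have h1 : (1 : ℤ) ≤ P.deg := by exact_mod_cast Place.deg_pos hK P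
    have h2 : N - D.deg ≤ m := Int.self_le_toNat _
    have h3 : (0 : ℤ) ≤ m := by positivity
    nlinarith

/-- **`dim A/(A(D)+K) = g - δ(D)`** (`IsRelDim` form). -/
theorem isRelDim_adele (hK : IsFunctionField k K) (D : Divisor k K) :
    ∃ e : ℕ, (e : ℤ) = (genus k K : ℤ) - (D.deg + 1 - ell D) ∧
      IsRelDim (AD D ⊔ LinearMap.range (diag k K)) (adele k K) e := by
  obtain ⟨D₁, hDD₁, hD₁⟩ := exists_ge_delta_eq_genus hK D
  obtain ⟨e, he, hrel⟩ := isRelDim_ADK hK hDD₁
  rw [← adele_eq_of_delta_eq_genus hK hD₁] at hrel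
  exact ⟨e, by rw [he, hD₁], hrel⟩

end Adele

end Groth.Agent.Lib.Helper4.FF
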