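import Mathlib
import Groth.Agent.Lib.Helper4.FF.Adele

/-! # Weil differentials (helper4) -/

namespace Groth.Agent.Lib.Helper4.FF

open FunFld WithZero

variable {k K : Type*} [Field k] [Field K] [Algebra k K]

section Basic

lemma smul_mem_adele (hK : IsFunctionField k K) (x : K) :
    ∀ a ∈ adele k K, x • a ∈ adele k K := by
  intro a ha
  rw [mem_adele] at ha ⊢
  by_cases hx : x = 0
  · subst hx
    convert Set.finite_empty
    ext P
    simp
  · refine ((finite_poles hK hx).union ha).subset ?_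
    intro P hP
    by_contra hcon
    rw [Set.mem_union, not_or] at hcon
    apply hP
    have h1 : P.1 x ≤ 1 := not_lt.mp hcon.1
    have h2 : P.1 (a P) ≤ 1 := not_not.mp hcon.2
    rw [Pi.smul_apply, smul_eq_mul, map_mul]
    exact mul_le_one' h1 h2

lemma mem_WD {D : Divisor k K} {ω : Module.Dual k (adele k K)} :
    ω ∈ WD D ↔ ∀ a : adele k K,
      (a : Place k K → K) ∈ AD D ⊔ LinearMap.range (diag k K) → ω a = 0 := by
  rw [WD, Submodule.mem_dualAnnihilator]
  rfl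

lemma ADK_mono {D E : Divisor k K} (h : D ≤ E) : ADK D ≤ ADK E :=
  Submodule.comap_mono (sup_le_sup_right (AD_mono h) _)

lemma WD_anti {D E : Divisor k K} (h : D ≤ E) : WD E ≤ WD D :=
  Submodule.dualAnnihilator_anti (ADK_mono h)

/-- **`dim_k W(D) = g - δ(D)`**. -/
theorem finrank_WD (hK : IsFunctionField k K) (D : Divisor k K) :
    FiniteDimensional k (WD D) ∧
    (Module.finrank k (WD D) : ℤ) = (genus k K : ℤ) - (D.deg + 1 - ell D) := by
  obtain ⟨e, he, hrel⟩ := isRelDim_adele hK D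
  obtain ⟨hf, hd⟩ := hrel.quotient
  change Module.Finite k (↥(adele k K) ⧸ ADK D) at hf
  change Module.finrank k (↥(adele k K) ⧸ ADK D) = e at hd
  let φ := Submodule.dualQuotEquivDualAnnihilator (ADK D)
  have hf' : FiniteDimensional k (Module.Dual k (↥(adele k K) ⧸ ADK D)) := inferInstance
  refine ⟨Module.Finite.equiv φ, ?_⟩
  change ((Module.finrank k (ADK D).dualAnnihilator : ℕ) : ℤ) = _
  rw [← φ.finrank_eq, Subspace.dual_finrank_eq, hd, he]

end Basic

section MulW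

lemma mulW_apply (x : K) (hx : ∀ a ∈ adele k K, x • a ∈ adele k K)
    (ω : Module.Dual k (adele k K)) (a : adele k K) :
    mulW x hx ω a = ω ⟨x • a.1, hx a.1 a.2⟩ := rfl

lemma mulW_one (h1 : ∀ a ∈ adele k K, (1 : K) • a ∈ adele k K)
    (ω : Module.Dual k (adele k K)) : mulW 1 h1 ω = ω := by
  ext a
  rw [mulW_apply]
  congr 1
  ext P
  simp

lemma mulW_mul (x y : K) (hx : ∀ a ∈ adele k K, x • a ∈ adele k K)
    (hy : ∀ a ∈ adele k K, y • a ∈ adele k K) (hxy : ∀ a ∈ adele k K, (x * y) • a ∈ adele k K)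
    (ω : Module.Dual k (adele k K)) : mulW (x * y) hxy ω = mulW y hy (mulW x hx ω) := by
  ext a
  rw [mulW_apply, mulW_apply, mulW_apply]
  congr 1
  ext P
  simp [mul_assoc]

lemma mulW_zero (h0 : ∀ a ∈ adele k K, (0 : K) • a ∈ adele k K)
    (ω : Module.Dual k (adele k K)) : mulW 0 h0 ω = 0 := by
  ext a
  rw [mulW_apply]
  have : (⟨(0 : K) • a.1, h0 a.1 a.2⟩ : adele k K) = 0 := by
    ext P
    simp
  rw [this, map_zero]
  rfl

/-- `x ↦ x ω` as a `k`-linear map. -/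
def mulWₗ (h : ∀ (x : K), ∀ a ∈ adele k K, x • a ∈ adele k K)
    (ω : Module.Dual k (adele k K)) : K →ₗ[k] Module.Dual k (adele k K) where
  toFun x := mulW x (h x) ω
  map_add' x y := by
    ext a
    rw [LinearMap.add_apply, mulW_apply, mulW_apply, mulW_apply, ← map_add]
    congr 1
    ext P
    simp [add_mul]
  map_smul' c x := by
    ext a
    rw [LinearMap.smul_apply, mulW_apply, mulW_apply, RingHom.id_apply, ← map_smul]
    congr 1
    ext P
    simp

lemma mulWₗ_apply (h : ∀ (x : K), ∀ a ∈ adele k K, x • a ∈ adele k K)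
    (ω : Module.Dual k (adele k K)) (x : K) : mulWₗ h ω x = mulW x (h x) ω := rfl

lemma mulW_ne_zero (h : ∀ (x : K), ∀ a ∈ adele k K, x • a ∈ adele k K)
    {ω : Module.Dual k (adele k K)} (hω : ω ≠ 0) {x : K} (hx : x ≠ 0) :
    mulW x (h x) ω ≠ 0 := by
  intro h0
  apply hω
  have := mulW_mul x x⁻¹ (h x) (h x⁻¹) (h _) ω
  rw [h0] at this
  have h1 : mulW (x * x⁻¹) (h _) ω = ω := by
    have : x * x⁻¹ = 1 := mul_inv_cancel₀ hx
    simp only [this]
    exact mulW_one _ ω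
  rw [← h1, this]
  ext a
  rfl

lemma mulWₗ_injective (h : ∀ (x : K), ∀ a ∈ adele k K, x • a ∈ adele k K)
    {ω : Module.Dual k (adele k K)} (hω : ω ≠ 0) : Function.Injective (mulWₗ h ω) := by
  rw [← LinearMap.ker_eq_bot, LinearMap.ker_eq_bot']
  intro x hx
  by_contra hx0
  exact mulW_ne_zero h hω hx0 hx

end MulW

section MulWD

lemma smul_mem_AD {F D : Divisor k K} {x : K} (hx : x ∈ L F) {a : Place k K → K}
    (ha : a ∈ AD D) : x • a ∈ AD (D + F) := by
  intro P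
  rw [Pi.smul_apply, smul_eq_mul, map_mul, Finsupp.add_apply, exp_add, mul_comm]
  exact mul_le_mul' (ha P) (hx P)

lemma smul_mem_AD_sup {F D : Divisor k K} {x : K} (hx : x ∈ L F) {a : Place k K → K}
    (ha : a ∈ AD D ⊔ LinearMap.range (diag k K)) :
    x • a ∈ AD (D + F) ⊔ LinearMap.range (diag k K) := by
  obtain ⟨b, hb, c, ⟨y, rfl⟩, rfl⟩ := Submodule.mem_sup.mp ha
  rw [smul_add]
  refine Submodule.add_mem_sup (smul_mem_AD hx hb) ⟨x * y, ?_⟩
  ext P
  rfl

lemma mulW_mem_WD {F D : Divisor k K} {x : K} (hx : x ∈ L F)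
    (h : ∀ a ∈ adele k K, x • a ∈ adele k K)
    {ω : Module.Dual k (adele k K)} (hω : ω ∈ WD (D + F)) : mulW x h ω ∈ WD D := by
  rw [mem_WD] at hω ⊢
  intro a ha
  rw [mulW_apply]
  exact hω _ (smul_mem_AD_sup hx ha)

lemma mem_L_neg_div (hK : IsFunctionField k K) {x : K} (hx : x ≠ 0) : x ∈ L (-(div k x)) := by
  intro P
  rw [Finsupp.neg_apply, div_apply hK, Place.val_eq_exp_neg_ord P hx]

lemma inv_mem_L_div (hK : IsFunctionField k K) {x : K} (hx : x ≠ 0) : x⁻¹ ∈ L (div k x) := by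
  intro P
  rw [div_apply hK, Place.val_eq_exp_neg_ord P (inv_ne_zero hx), Place.ord_inv, neg_neg]

lemma mulW_mem_WD_iff (hK : IsFunctionField k K) {x : K} (hx : x ≠ 0)
    (h : ∀ a ∈ adele k K, x • a ∈ adele k K)
    {ω : Module.Dual k (adele k K)} (E : Divisor k K) :
    mulW x h ω ∈ WD E ↔ ω ∈ WD (E - div k x) := by
  constructor
  · intro hm
    have h1 : mulW x⁻¹ (smul_mem_adele hK x⁻¹) (mulW x h ω) ∈ WD (E - div k x) := by
      apply mulW_mem_WD (inv_mem_L_div hK hx)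
      rwa [sub_add_cancel]
    rw [← mulW_mul x x⁻¹ h _ (smul_mem_adele hK _)] at h1
    have h2 : mulW (x * x⁻¹) (smul_mem_adele hK _) ω = ω := by
      have : x * x⁻¹ = 1 := mul_inv_cancel₀ hx
      simp only [this]
      exact mulW_one _ ω
    rwa [h2] at h1
  · intro hm
    apply mulW_mem_WD (mem_L_neg_div hK hx)
    rwa [← sub_eq_add_neg]

/-- `[xω] = [x] + [ω]` -/
theorem isDivOf_mulW (hK : IsFunctionField k K) {x : K} (hx : x ≠ 0)
    (h : ∀ a ∈ adele k K, x • a ∈ adele k K)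
    {ω : Module.Dual k (adele k K)} {C : Divisor k K} (hω : IsDivOf ω C) :
    IsDivOf (mulW x h ω) (C + div k x) := by
  intro E
  rw [mulW_mem_WD_iff hK hx, hω, sub_le_iff_le_add]

lemma IsDivOf.unique {ω : Module.Dual k (adele k K)} {C C' : Divisor k K}
    (h : IsDivOf ω C) (h' : IsDivOf ω C') : C = C' :=
  le_antisymm ((h' C).mp ((h C).mpr le_rfl)) ((h C').mp ((h' C').mpr le_rfl))

lemma IsDivOf.ne_zero (hK : IsFunctionField k K) {ω : Module.Dual k (adele k K)} {C : Divisor k K}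
    (h : IsDivOf ω C) : ω ≠ 0 := by
  rintro rfl
  obtain ⟨P⟩ := nonempty_place hK
  have h1 := (h (C + Finsupp.single P 1)).mp (Submodule.zero_mem _)
  have h2 := h1 P
  rw [Finsupp.add_apply, Finsupp.single_eq_same] at h2
  omega

end MulWD

section DivExists

lemma Divisor.eq_zero_of_nonneg_of_deg_le (hK : IsFunctionField k K) {D : Divisor k K}
    (h0 : 0 ≤ D) (hd : D.deg ≤ 0) : D = 0 := by
  ext P
  rw [Finsupp.coe_zero, Pi.zero_apply]
  by_contra hP
  have hP' : 0 < D P := lt_of_le_of_ne (h0 P) (Ne.symm hP)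
  have hmem : P ∈ D.support := Finsupp.mem_support_iff.mpr hP
  have h1 : D.deg = ∑ Q ∈ D.support, D Q * (Q.deg : ℤ) := Divisor.deg_eq_sum D _ le_rfl
  have h2 : D P * (P.deg : ℤ) ≤ ∑ Q ∈ D.support, D Q * (Q.deg : ℤ) :=
    Finset.single_le_sum (f := fun Q => D Q * (Q.deg : ℤ))
      (fun Q _ => mul_nonneg (h0 Q) (by positivity)) hmem
  have h3 : (0 : ℤ) < P.deg := by exact_mod_cast Place.deg_pos hK P
  have h4 : 0 < D P * (P.deg : ℤ) := mul_pos hP' h3
  omega

lemma Divisor.eq_of_le_of_deg_le (hK : IsFunctionField k K) {D E : Divisor k K}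
    (h : D ≤ E) (hd : E.deg ≤ D.deg) : D = E := by
  have h1 : E - D = 0 := Divisor.eq_zero_of_nonneg_of_deg_le hK (sub_nonneg.mpr h) (by
    rw [Divisor.deg_sub]; omega)
  exact (sub_eq_zero.mp h1).symm

lemma AD_sup_le (D E : Divisor k K) : AD (D ⊔ E) ≤ AD D ⊔ AD E := by
  classical
  intro a ha
  let b : Place k K → K := fun P => if E P ≤ D P then a P else 0
  let c : Place k K → K := fun P => if E P ≤ D P then 0 else a P
  have hb : b ∈ AD D := by
    intro P
    by_cases h : E P ≤ D P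
    · have := ha P
      rw [Finsupp.sup_apply, max_eq_left h] at this
      simpa [b, h] using this
    · simp [b, h]
  have hc : c ∈ AD E := by
    intro P
    by_cases h : E P ≤ D P
    · simp [c, h]
    · have := ha P
      rw [Finsupp.sup_apply, max_eq_right (le_of_not_ge h)] at this
      simpa [c, h] using this
  have : a = b + c := by
    ext P
    by_cases h : E P ≤ D P <;> simp [b, c, h]
  rw [this]
  exact Submodule.add_mem_sup hb hc

lemma ADK_sup_le (hK : IsFunctionField k K) (D E : Divisor k K) :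
    ADK (D ⊔ E) ≤ ADK D ⊔ ADK E := by
  intro a ha
  change (a : Place k K → K) ∈ AD (D ⊔ E) ⊔ LinearMap.range (diag k K) at ha
  obtain ⟨b, hb, c, hc, hbc⟩ := Submodule.mem_sup.mp ha
  obtain ⟨b₁, hb₁, b₂, hb₂, rfl⟩ := Submodule.mem_sup.mp (AD_sup_le D E hb)
  have h1 : b₁ + c ∈ adele k K :=
    Submodule.add_mem _ (AD_le_adele D hb₁) (range_diag_le_adele hK hc)
  have h2 : b₂ ∈ adele k K := AD_le_adele E hb₂
  have : a = ⟨b₁ + c, h1⟩ + ⟨b₂, h2⟩ := by
    apply Subtype.ext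
    change (a : Place k K → K) = (b₁ + c) + b₂
    rw [← hbc]; abel
  rw [this]
  refine Submodule.add_mem_sup ?_ ?_
  · change b₁ + c ∈ AD D ⊔ LinearMap.range (diag k K)
    exact Submodule.add_mem_sup hb₁ hc
  · change b₂ ∈ AD E ⊔ LinearMap.range (diag k K)
    exact Submodule.mem_sup_left hb₂

lemma mem_WD_sup (hK : IsFunctionField k K) {D E : Divisor k K}
    {ω : Module.Dual k (adele k K)} (hD : ω ∈ WD D) (hE : ω ∈ WD E) : ω ∈ WD (D ⊔ E) := by
  have h1 : ω ∈ (ADK D ⊔ ADK E).dualAnnihilator := by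
    rw [Submodule.dualAnnihilator_sup_eq]
    exact ⟨hD, hE⟩
  exact Submodule.dualAnnihilator_anti (ADK_sup_le hK D E) h1

/-- `W(D) = 0` for `deg D` large. -/
lemma exists_WD_eq_bot (hK : IsFunctionField k K) :
    ∃ N : ℤ, ∀ D : Divisor k K, N ≤ D.deg → WD D = ⊥ := by
  obtain ⟨N, hN⟩ := eq_genus_of_deg_ge hK
  refine ⟨N, fun D hD => ?_⟩
  obtain ⟨hf, hd⟩ := finrank_WD hK D
  rw [hN D hD, sub_self] at hd
  have hd' : Module.finrank k (WD D) = 0 := by exact_mod_cast hd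
  exact Submodule.finrank_eq_zero.mp hd'

/-- **A nonzero Weil differential has a divisor.** -/
theorem exists_isDivOf (hK : IsFunctionField k K) {ω : Module.Dual k (adele k K)}
    (hω : IsWeil ω) (h0 : ω ≠ 0) : ∃ C : Divisor k K, IsDivOf ω C := by
  obtain ⟨N, hN⟩ := exists_WD_eq_bot hK
  obtain ⟨D₁, hD₁⟩ := hω
  -- degrees of divisors in `M(ω)` are bounded by `N`
  have hbdd : ∀ z : ℤ, (∃ D : Divisor k K, ω ∈ WD D ∧ D.deg = z) → z ≤ N := by
    rintro z ⟨D, hD, rfl⟩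
    by_contra hcon
    have := hN D (le_of_lt (not_le.mp hcon))
    rw [this, Submodule.mem_bot] at hD
    exact h0 hD
  obtain ⟨z, ⟨C, hC, rfl⟩, hmax⟩ := Int.exists_greatest_of_bdd ⟨N, hbdd⟩ ⟨D₁.deg, D₁, hD₁, rfl⟩
  refine ⟨C, fun E => ⟨fun hE => ?_, fun hE => WD_anti hE hC⟩⟩
  have h1 : ω ∈ WD (C ⊔ E) := mem_WD_sup hK hC hE
  have h2 : (C ⊔ E).deg ≤ C.deg := hmax _ ⟨_, h1, rfl⟩
  have h3 : C = C ⊔ E := Divisor.eq_of_le_of_deg_le hK le_sup_left h2
  rw [h3]
  exact le_sup_right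

end DivExists

section DimOne

/-- the image of `L(A+B)` under `x ↦ xω` inside `W(-B)`. -/
lemma map_mulWₗ_le (h : ∀ (x : K), ∀ a ∈ adele k K, x • a ∈ adele k K)
    {ω : Module.Dual k (adele k K)} {A B : Divisor k K} (hω : ω ∈ WD A) :
    (L (A + B)).map (mulWₗ h ω) ≤ WD (-B) := by
  rintro _ ⟨x, hx, rfl⟩
  rw [mulWₗ_apply]
  apply mulW_mem_WD (F := A + B) hx
  rwa [neg_add_cancel_comm_assoc]

lemma finrank_map_mulWₗ
    (h : ∀ (x : K), ∀ a ∈ adele k K, x • a ∈ adele k K)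
    {ω : Module.Dual k (adele k K)} (h0 : ω ≠ 0) (D : Divisor k K) :
    Module.finrank k ((L D).map (mulWₗ h ω)) = ell D :=
  (Submodule.equivMapOfInjective _ (mulWₗ_injective h h0) (L D)).finrank_eq.symm

/-- **`dim_K W_K = 1`.** -/
theorem exists_mulW_eq (hK : IsFunctionField k K)
    (h : ∀ (x : K), ∀ a ∈ adele k K, x • a ∈ adele k K)
    {ω₁ ω₂ : Module.Dual k (adele k K)} (h₁ : IsWeil ω₁) (h0 : ω₁ ≠ 0) (h₂ : IsWeil ω₂) :
    ∃ x : K, mulW x (h x) ω₁ = ω₂ := by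
  by_cases h20 : ω₂ = 0
  · exact ⟨0, by rw [h20]; exact mulW_zero _ _⟩
  obtain ⟨A₁, hA₁⟩ := h₁
  obtain ⟨A₂, hA₂⟩ := h₂
  obtain ⟨N, hN⟩ := eq_genus_of_deg_ge hK
  obtain ⟨P⟩ := nonempty_place hK
  have hP : (1 : ℤ) ≤ P.deg := by exact_mod_cast Place.deg_pos hK P
  -- choose `m`
  set m : ℕ := (max (max (N - A₁.deg) (N - A₂.deg))
    (max 1 (3 * (genus k K : ℤ) - 2 - A₁.deg - A₂.deg))).toNat with hm
  have hm0 : (max (max (N - A₁.deg) (N - A₂.deg))
    (max 1 (3 * (genus k K : ℤ) - 2 - A₁.deg - A₂.deg))) ≤ m := Int.self_le_toNat _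
  have hm1 : N - A₁.deg ≤ m := le_trans (le_trans (le_max_left _ _) (le_max_left _ _)) hm0
  have hm2 : N - A₂.deg ≤ m := le_trans (le_trans (le_max_right _ _) (le_max_left _ _)) hm0
  have hm3 : (1 : ℤ) ≤ m := le_trans (le_trans (le_max_left _ _) (le_max_right _ _)) hm0
  have hm4 : 3 * (genus k K : ℤ) - 2 - A₁.deg - A₂.deg ≤ m :=
    le_trans (le_trans (le_max_right _ _) (le_max_right _ _)) hm0
  set B : Divisor k K := Finsupp.single P (m : ℤ) with hB
  have hBdeg : B.deg = m * P.deg := Divisor.deg_single P m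
  have hBm : (m : ℤ) ≤ B.deg := by rw [hBdeg]; nlinarith
  -- dimensions
  have hl₁ : (ell (A₁ + B) : ℤ) = A₁.deg + B.deg + 1 - genus k K := by
    have := hN (A₁ + B) (by rw [Divisor.deg_add]; omega)
    rw [Divisor.deg_add] at this
    omega
  have hl₂ : (ell (A₂ + B) : ℤ) = A₂.deg + B.deg + 1 - genus k K := by
    have := hN (A₂ + B) (by rw [Divisor.deg_add]; omega)
    rw [Divisor.deg_add] at this
    omega
  obtain ⟨hWf, hWd⟩ := finrank_WD hK (-B)
  have hLB : ell (-B) = 0 := by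
    have : L (-B) = ⊥ := L_eq_bot_of_deg_neg hK (by rw [Divisor.deg_neg]; omega)
    rw [ell, this]
    exact finrank_bot k K
  rw [hLB, Divisor.deg_neg] at hWd
  have hWn : IsNoetherian k (WD (-B)) :=
    @isNoetherian_of_isNoetherianRing_of_finite k (WD (-B)) _ _ _ _ hWf
  set U₁ := (L (A₁ + B)).map (mulWₗ h ω₁) with hU₁
  set U₂ := (L (A₂ + B)).map (mulWₗ h ω₂) with hU₂
  have hU₁le : U₁ ≤ WD (-B) := map_mulWₗ_le h hA₁
  have hU₂le : U₂ ≤ WD (-B) := map_mulWₗ_le h hA₂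
  have hU₁d : Module.finrank k U₁ = ell (A₁ + B) := finrank_map_mulWₗ h h0 _
  have hU₂d : Module.finrank k U₂ = ell (A₂ + B) := finrank_map_mulWₗ h h20 _
  have hU₁f : Module.Finite k U₁ := Module.Finite.of_injective (Submodule.inclusion hU₁le)
    (Submodule.inclusion_injective _)
  have hU₂f : Module.Finite k U₂ := Module.Finite.of_injective (Submodule.inclusion hU₂le)
    (Submodule.inclusion_injective _)
  have hinf : U₁ ⊓ U₂ ≠ ⊥ := by
    intro hbot
    have h1 := Submodule.finrank_sup_add_finrank_inf_eq U₁ U₂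
    rw [hbot, finrank_bot, add_zero] at h1
    have h2 : Module.finrank k ↥(U₁ ⊔ U₂) ≤ Module.finrank k (WD (-B)) :=
      Submodule.finrank_mono (sup_le hU₁le hU₂le)
    have h3 : ((ell (A₁ + B) : ℤ) + ell (A₂ + B)) ≤ Module.finrank k (WD (-B)) := by
      rw [← hU₁d, ← hU₂d]
      exact_mod_cast h1 ▸ h2
    rw [hWd, hl₁, hl₂] at h3
    push_cast at h3
    omega
  obtain ⟨η, hη, hη0⟩ := Submodule.exists_mem_ne_zero_of_ne_bot hinf
  obtain ⟨⟨x₁, hx₁, hx₁η⟩, ⟨x₂, hx₂, hx₂η⟩⟩ := hη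
  rw [mulWₗ_apply] at hx₁η hx₂η
  have hx₂0 : x₂ ≠ 0 := by
    rintro rfl
    apply hη0
    rw [← hx₂η]
    exact mulW_zero _ _
  refine ⟨x₁ * x₂⁻¹, ?_⟩
  rw [mulW_mul x₁ x₂⁻¹ (h _) (h _), hx₁η, ← hx₂η, ← mulW_mul x₂ x₂⁻¹ (h _) (h _) (h _)]
  have : x₂ * x₂⁻¹ = 1 := mul_inv_cancel₀ hx₂0
  simp only [this]
  exact mulW_one _ ω₂

end DimOne

section RiemannRoch

lemma exists_weil_ne_zero (hK : IsFunctionField k K) :
    ∃ ω : Module.Dual k (adele k K), IsWeil ω ∧ ω ≠ 0 := by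
  obtain ⟨P⟩ := nonempty_place hK
  have hP : (1 : ℤ) ≤ P.deg := by exact_mod_cast Place.deg_pos hK P
  set D : Divisor k K := Finsupp.single P (-2 : ℤ) with hD
  have hDdeg : D.deg = -2 * P.deg := Divisor.deg_single P (-2)
  obtain ⟨hf, hd⟩ := finrank_WD hK D
  have hne : WD D ≠ ⊥ := by
    intro hbot
    rw [hbot, finrank_bot] at hd
    have : (0 : ℤ) ≤ ell D := by positivity
    have : (0 : ℤ) ≤ genus k K := by positivity
    push_cast at hd
    omega
  obtain ⟨ω, hω, hω0⟩ := Submodule.exists_mem_ne_zero_of_ne_bot hne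
  exact ⟨ω, ⟨D, hω⟩, hω0⟩

lemma exists_canonical (hK : IsFunctionField k K) : ∃ C : Divisor k K, IsCanonical k K C := by
  obtain ⟨ω, hω, hω0⟩ := exists_weil_ne_zero hK
  obtain ⟨C, hC⟩ := exists_isDivOf hK hω hω0
  exact ⟨C, ω, hω0, hC⟩

lemma IsDivOf.isWeil {ω : Module.Dual k (adele k K)} {C : Divisor k K} (h : IsDivOf ω C) :
    IsWeil ω := ⟨C, (h C).mpr le_rfl⟩

lemma mem_L_sub_of_mulW_mem (hK : IsFunctionField k K)
    (h : ∀ (x : K), ∀ a ∈ adele k K, x • a ∈ adele k K)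
    {ω : Module.Dual k (adele k K)} {C : Divisor k K} (hω : IsDivOf ω C)
    {D : Divisor k K} {x : K} (hx : mulW x (h x) ω ∈ WD D) : x ∈ L (C - D) := by
  by_cases hx0 : x = 0
  · rw [hx0]; exact Submodule.zero_mem _
  rw [mulW_mem_WD_iff hK hx0, hω] at hx
  intro P
  rw [Place.val_eq_exp_neg_ord P hx0, exp_le_exp]
  have := hx P
  rw [Finsupp.sub_apply, div_apply hK] at this
  rw [Finsupp.sub_apply]
  omega

/-- multiplication by `ω` is a bijection `L(C - D) → W(D)` -/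
theorem existsUnique_mulW (hK : IsFunctionField k K)
    (h : ∀ (x : K), ∀ a ∈ adele k K, x • a ∈ adele k K)
    {ω : Module.Dual k (adele k K)} {C : Divisor k K} (hω : IsDivOf ω C)
    (D : Divisor k K) {ω' : Module.Dual k (adele k K)} (hω' : ω' ∈ WD D) :
    ∃! x : K, x ∈ L (C - D) ∧ mulW x (h x) ω = ω' := by
  have hω0 := IsDivOf.ne_zero hK hω
  obtain ⟨x, hx⟩ := exists_mulW_eq hK h (IsDivOf.isWeil hω) hω0 ⟨D, hω'⟩
  refine ⟨x, ⟨?_, hx⟩, ?_⟩
  · apply mem_L_sub_of_mulW_mem hK h hω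
    rw [hx]; exact hω'
  · rintro y ⟨-, hy⟩
    apply mulWₗ_injective h hω0
    rw [mulWₗ_apply, mulWₗ_apply, hy, hx]

lemma map_mulWₗ_eq (hK : IsFunctionField k K)
    (h : ∀ (x : K), ∀ a ∈ adele k K, x • a ∈ adele k K)
    {ω : Module.Dual k (adele k K)} {C : Divisor k K} (hω : IsDivOf ω C) (D : Divisor k K) :
    (L (C - D)).map (mulWₗ h ω) = WD D := by
  apply le_antisymm
  · rintro _ ⟨x, hx, rfl⟩
    rw [mulWₗ_apply]
    apply mulW_mem_WD (F := C - D) hx
    rw [add_sub_cancel]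
    exact (hω C).mpr le_rfl
  · intro ω' hω'
    obtain ⟨x, ⟨hx, hxω⟩, -⟩ := existsUnique_mulW hK h hω D hω'
    exact ⟨x, hx, hxω⟩

/-- **Riemann–Roch.** -/
theorem riemann_roch (hK : IsFunctionField k K) {C : Divisor k K} (hC : IsCanonical k K C)
    (D : Divisor k K) : (ell D : ℤ) = D.deg + 1 - genus k K + ell (C - D) := by
  obtain ⟨ω, hω0, hω⟩ := hC
  have h := smul_mem_adele hK
  have h1 := finrank_map_mulWₗ h hω0 (C - D)
  rw [map_mulWₗ_eq hK h hω D] at h1
  obtain ⟨-, h2⟩ := finrank_WD hK D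
  rw [h1] at h2
  omega

end RiemannRoch

section Canonical

lemma isCanonical_add_div (hK : IsFunctionField k K) {C : Divisor k K} (hC : IsCanonical k K C)
    {x : K} (hx : x ≠ 0) : IsCanonical k K (C + div k x) := by
  obtain ⟨ω, hω0, hω⟩ := hC
  exact ⟨mulW x (smul_mem_adele hK x) ω, mulW_ne_zero (smul_mem_adele hK) hω0 hx,
    isDivOf_mulW hK hx _ hω⟩

/-- any two canonical divisors are linearly equivalent -/
theorem canonical_equiv (hK : IsFunctionField k K) {C₁ C₂ : Divisor k K}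
    (h₁ : IsCanonical k K C₁) (h₂ : IsCanonical k K C₂) :
    ∃ x : K, x ≠ 0 ∧ C₂ = C₁ + div k x := by
  obtain ⟨ω₁, h10, hω₁⟩ := h₁
  obtain ⟨ω₂, h20, hω₂⟩ := h₂
  have h := smul_mem_adele hK
  obtain ⟨x, hx⟩ := exists_mulW_eq hK h (IsDivOf.isWeil hω₁) h10 (IsDivOf.isWeil hω₂)
  have hx0 : x ≠ 0 := by
    rintro rfl
    apply h20
    rw [← hx]
    exact mulW_zero _ _
  refine ⟨x, hx0, ?_⟩
  have h3 := isDivOf_mulW hK hx0 (h x) hω₁
  rw [hx] at h3
  exact IsDivOf.unique hω₂ h3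

lemma ell_canonical (hK : IsFunctionField k K) {C : Divisor k K} (hC : IsCanonical k K C) :
    ell C = genus k K := by
  have h := riemann_roch hK hC 0
  rw [ell_zero hK, Divisor.deg_zero, sub_zero] at h
  have : ((ell C : ℕ) : ℤ) = genus k K := by push_cast at h; omega
  exact_mod_cast this

lemma deg_canonical (hK : IsFunctionField k K) {C : Divisor k K} (hC : IsCanonical k K C) :
    C.deg = 2 * (genus k K : ℤ) - 2 := by
  have h := riemann_roch hK hC C
  rw [sub_self, ell_zero hK, ell_canonical hK hC] at h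
  push_cast at h
  omega

/-- characterisation of canonical divisors -/
theorem isCanonical_iff (hK : IsFunctionField k K) (C : Divisor k K) :
    IsCanonical k K C ↔ (ell C = genus k K ∧ C.deg = 2 * (genus k K : ℤ) - 2) := by
  constructor
  · intro hC
    exact ⟨ell_canonical hK hC, deg_canonical hK hC⟩
  · rintro ⟨h1, h2⟩
    obtain ⟨W, hW⟩ := exists_canonical hK
    have h3 := riemann_roch hK hW C
    rw [h1, h2] at h3
    have h4 : ell (W - C) = 1 := by
      have : ((ell (W - C) : ℕ) : ℤ) = 1 := by omega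
      exact_mod_cast this
    obtain ⟨x, hx, hx0⟩ := exists_ne_zero_of_ell_pos (D := W - C) (by omega)
    have h5 := div_add_nonneg_of_mem_L hK hx0 hx
    have h6 : (div k x + (W - C)).deg ≤ 0 := by
      rw [Divisor.deg_add, deg_div hK, Divisor.deg_sub, deg_canonical hK hW, h2]
      omega
    have h7 := Divisor.eq_zero_of_nonneg_of_deg_le hK h5 h6
    have h8 : C = W + div k x := by
      have : C = C + (div k x + (W - C)) := by rw [h7, add_zero]
      rw [this]; abel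
    rw [h8]
    exact isCanonical_add_div hK hW hx0

/-- `ℓ(D) = deg D + 1 - g` for `deg D ≥ 2g - 1` -/
theorem ell_eq_of_deg_ge (hK : IsFunctionField k K) {D : Divisor k K}
    (h : 2 * (genus k K : ℤ) - 1 ≤ D.deg) : (ell D : ℤ) = D.deg + 1 - genus k K := by
  obtain ⟨W, hW⟩ := exists_canonical hK
  have h1 := riemann_roch hK hW D
  have h2 : L (W - D) = ⊥ := L_eq_bot_of_deg_neg hK (by
    rw [Divisor.deg_sub, deg_canonical hK hW]; omega)
  have h3 : ell (W - D) = 0 := by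
    rw [ell, h2]; exact finrank_bot k K
  rw [h3] at h1
  push_cast at h1
  omega

end Canonical

end Groth.Agent.Lib.Helper4.FF
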