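import Mathlib
import Groth.Agent.Lib.Helper4.FF.Weil

/-! # Rational function fields, genus zero and one (helper4) -/

namespace Groth.Agent.Lib.Helper4.FF

open FunFld WithZero Polynomial

variable {k K : Type*} [Field k] [Field K] [Algebra k K]

section Rational

lemma Divisor.deg_mono {D E : Divisor k K} (h : D ≤ E) : D.deg ≤ E.deg := by
  have := Divisor.deg_nonneg (sub_nonneg.mpr h)
  rw [Divisor.deg_sub] at this
  omega

/-- `ℓ(l (x)_∞) ≥ l + 1` -/
lemma ell_smul_poleDiv_ge (hK : IsFunctionField k K) {x : K} (hxt : Transcendental k x) (l : ℕ) :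
    l + 1 ≤ ell ((l : ℤ) • (poleDiv x : Divisor k K)) := by
  set B : Divisor k K := poleDiv x with hB
  let Θ : degreeLT k (l + 1) →ₗ[k] K := (aeval x).toLinearMap ∘ₗ (degreeLT k (l + 1)).subtype
  have hΘ : ∀ φ, Θ φ = aeval x (φ : k[X]) := fun φ => rfl
  have hinj : Function.Injective Θ := by
    rw [← LinearMap.ker_eq_bot, LinearMap.ker_eq_bot']
    intro φ hφ
    rw [hΘ] at hφ
    have h4 : (φ : k[X]) = 0 := by
      by_contra h0
      exact hxt ⟨_, h0, hφ⟩
    exact Subtype.ext h4
  have hrange : LinearMap.range Θ ≤ L ((l : ℤ) • B) := by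
    rintro _ ⟨φ, rfl⟩
    rw [hΘ]
    intro P
    have hdeg : (φ : k[X]).natDegree ≤ l := by
      have := mem_degreeLT.mp φ.2
      by_cases h0 : (φ : k[X]) = 0
      · rw [h0]; simp
      · rw [degree_eq_natDegree h0] at this
        have : (φ : k[X]).natDegree < l + 1 := by exact_mod_cast this
        omega
    have h1 := val_aeval_le_exp P (x := x) (b := B P)
      (by rw [hB, poleDiv_apply hK]; exact le_max_right _ _)
      (val_le_exp_poleDiv hK x P) l _ hdeg
    have hDP : ((l : ℤ) • B) P = (l : ℤ) * B P := by simp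
    rwa [hDP]
  have := L_finite hK ((l : ℤ) • B)
  have h1 : Module.finrank k (LinearMap.range Θ) = l + 1 := by
    rw [LinearMap.finrank_range_of_inj hinj, (degreeLTEquiv k (l + 1)).finrank_eq]
    simp
  rw [← h1]
  exact Submodule.finrank_mono hrange

/-- a nonnegative divisor of degree one is a place of degree one -/
lemma Divisor.eq_single_of_deg_eq_one (hK : IsFunctionField k K) {E : Divisor k K}
    (h0 : 0 ≤ E) (h1 : E.deg = 1) : ∃ P : Place k K, P.deg = 1 ∧ E = Finsupp.single P 1 := by
  classical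
  have hE : E ≠ 0 := by
    rintro rfl
    rw [Divisor.deg_zero] at h1
    omega
  obtain ⟨P, hP⟩ := Finsupp.ne_iff.mp hE
  rw [Finsupp.coe_zero, Pi.zero_apply] at hP
  have hP1 : 1 ≤ E P := by
    have := h0 P
    rw [Finsupp.coe_zero, Pi.zero_apply] at this
    omega
  have hdP : (1 : ℤ) ≤ P.deg := by exact_mod_cast Place.deg_pos hK P
  have h2 : (0 : Divisor k K) ≤ E - Finsupp.single P 1 := by
    intro Q
    rw [Finsupp.coe_zero, Pi.zero_apply, Finsupp.sub_apply, Finsupp.single_apply]
    split_ifs with h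
    · subst h; omega
    · have := h0 Q
      rw [Finsupp.coe_zero, Pi.zero_apply] at this
      omega
  have h3 : (E - Finsupp.single P 1).deg ≤ 0 := by
    rw [Divisor.deg_sub, Divisor.deg_single, h1]
    omega
  have h4 := Divisor.eq_zero_of_nonneg_of_deg_le hK h2 h3
  have h5 : E = Finsupp.single P 1 := sub_eq_zero.mp h4
  refine ⟨P, ?_, h5⟩
  rw [h5, Divisor.deg_single] at h1
  have : (P.deg : ℤ) = 1 := by omega
  exact_mod_cast this

lemma transcendental_of_adjoin_eq_top (hK : IsFunctionField k K) {x : K}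
    (hx : IntermediateField.adjoin k ({x} : Set K) = ⊤) : Transcendental k x := by
  intro halg
  have h1 : x ∈ (⊥ : IntermediateField k K) := IntermediateField.mem_bot.mpr (hK.2 x halg)
  have h2 : IntermediateField.adjoin k ({x} : Set K) = ⊥ :=
    IntermediateField.adjoin_simple_eq_bot_iff.mpr h1
  obtain ⟨y, hy, -⟩ := hK.1
  apply hy
  have h3 : y ∈ (⊥ : IntermediateField k K) := by
    rw [← h2, hx]; exact IntermediateField.mem_top
  obtain ⟨c, rfl⟩ := IntermediateField.mem_bot.mp h3
  exact isAlgebraic_algebraMap c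

lemma deg_poleDiv_of_adjoin_eq_top (hK : IsFunctionField k K) {x : K}
    (hx : IntermediateField.adjoin k ({x} : Set K) = ⊤) : (poleDiv x : Divisor k K).deg = 1 := by
  rw [deg_poleDiv hK (transcendental_of_adjoin_eq_top hK hx), hx, IntermediateField.finrank_top]
  rfl

theorem exists_place_of_adjoin_eq_top (hK : IsFunctionField k K) {x : K}
    (hx : IntermediateField.adjoin k ({x} : Set K) = ⊤) :
    ∃ P : Place k K, P.deg = 1 ∧ (poleDiv x : Divisor k K) = Finsupp.single P 1 :=
  Divisor.eq_single_of_deg_eq_one hK (poleDiv_nonneg x) (deg_poleDiv_of_adjoin_eq_top hK hx)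

theorem genus_eq_zero_of_adjoin_eq_top (hK : IsFunctionField k K) {x : K}
    (hx : IntermediateField.adjoin k ({x} : Set K) = ⊤) : genus k K = 0 := by
  have hxt := transcendental_of_adjoin_eq_top hK hx
  have hdeg := deg_poleDiv_of_adjoin_eq_top hK hx
  obtain ⟨N, hN⟩ := eq_genus_of_deg_ge hK
  set l : ℕ := N.toNat with hl
  have hlN : N ≤ l := Int.self_le_toNat _
  have h1 := hN ((l : ℤ) • (poleDiv x : Divisor k K)) (by
    rw [Divisor.deg_zsmul_natCast, hdeg]; omega)
  rw [Divisor.deg_zsmul_natCast, hdeg] at h1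
  have h2 : ((l + 1 : ℕ) : ℤ) ≤ ell ((l : ℤ) • (poleDiv x : Divisor k K)) := by
    exact_mod_cast ell_smul_poleDiv_ge hK hxt l
  push_cast at h2
  have : (genus k K : ℤ) ≤ 0 := by omega
  omega

/-- a nonconstant `x ∈ L(P)` with `deg P = 1` generates `K`. -/
theorem adjoin_eq_top_of_mem_L_single (hK : IsFunctionField k K) {P : Place k K}
    (hP : P.deg = 1) {x : K} (hx : x ∈ L (Finsupp.single P 1 : Divisor k K))
    (hxk : x ∉ Set.range (algebraMap k K)) :
    IntermediateField.adjoin k ({x} : Set K) = ⊤ := by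
  classical
  have hxt := transcendental_of_notMem hK hxk
  have hx0 : x ≠ 0 := by
    rintro rfl
    exact hxt isAlgebraic_zero
  have hle : (poleDiv x : Divisor k K) ≤ Finsupp.single P 1 := by
    intro Q
    rw [poleDiv_apply hK]
    have h1 := hx Q
    rw [Place.val_eq_exp_neg_ord Q hx0, exp_le_exp] at h1
    apply max_le h1
    rw [Finsupp.single_apply]
    split_ifs <;> omega
  have h1 := Divisor.deg_mono hle
  rw [Divisor.deg_single, deg_poleDiv hK hxt, hP] at h1
  have := finiteDimensional_adjoin hK hxt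
  have h2 : 0 < Module.finrank (IntermediateField.adjoin k ({x} : Set K)) K := Module.finrank_pos
  rw [← IntermediateField.finrank_eq_one_iff_eq_top]
  have : ((Module.finrank (IntermediateField.adjoin k ({x} : Set K)) K : ℕ) : ℤ) ≤ 1 := by
    simpa using h1
  omega

/-- if `ℓ(P) ≥ 2` with `deg P = 1` then `K` is rational -/
theorem exists_adjoin_eq_top_of_ell (hK : IsFunctionField k K) {P : Place k K}
    (hP : P.deg = 1) (h2 : 2 ≤ ell (Finsupp.single P 1 : Divisor k K)) :
    ∃ x : K, IntermediateField.adjoin k ({x} : Set K) = ⊤ := by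
  by_contra hcon
  push Not at hcon
  have hle : L (Finsupp.single P 1 : Divisor k K) ≤ L (0 : Divisor k K) := by
    intro x hx
    by_contra hx0
    rw [L_zero hK, Submodule.mem_one] at hx0
    exact hcon x (adjoin_eq_top_of_mem_L_single hK hP hx hx0)
  have := L_finite hK (0 : Divisor k K)
  have h3 := Submodule.finrank_mono hle
  change ell _ ≤ ell _ at h3
  rw [ell_zero hK] at h3
  omega

end Rational

section Statements

theorem rational_iff_genus_zero (hK : IsFunctionField k K) :
    (genus k K = 0 ∧ ∃ P : Place k K, P.deg = 1) ↔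
      ∃ x : K, IntermediateField.adjoin k ({x} : Set K) = ⊤ := by
  constructor
  · rintro ⟨hg, P, hP⟩
    apply exists_adjoin_eq_top_of_ell hK hP
    have h1 := ell_eq_of_deg_ge hK (D := (Finsupp.single P 1 : Divisor k K)) (by
      rw [Divisor.deg_single, hg, hP]; norm_num)
    rw [Divisor.deg_single, hg, hP] at h1
    have : ((ell (Finsupp.single P 1 : Divisor k K) : ℕ) : ℤ) = 2 := by
      rw [h1]; norm_num
    have : ell (Finsupp.single P 1 : Divisor k K) = 2 := by exact_mod_cast this
    omega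
  · rintro ⟨x, hx⟩
    obtain ⟨P, hP, -⟩ := exists_place_of_adjoin_eq_top hK hx
    exact ⟨genus_eq_zero_of_adjoin_eq_top hK hx, P, hP⟩

theorem rational_iff_pole (hK : IsFunctionField k K) :
    (∃ (x : K) (P : Place k K), P.deg = 1 ∧ P.ord x = -1 ∧
        ∀ Q : Place k K, Q ≠ P → 0 ≤ Q.ord x) ↔
      ∃ x : K, IntermediateField.adjoin k ({x} : Set K) = ⊤ := by
  classical
  constructor
  · rintro ⟨x, P, hP, hPx, hQ⟩
    refine ⟨x, ?_⟩
    have hx0 : x ≠ 0 := by
      rintro rfl
      simp [FunFld.Place.ord] at hPx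
    apply adjoin_eq_top_of_mem_L_single hK hP
    · intro Q
      rw [Place.val_eq_exp_neg_ord Q hx0, exp_le_exp, Finsupp.single_apply]
      split_ifs with h
      · subst h; omega
      · have := hQ Q (Ne.symm h); omega
    · rintro ⟨c, rfl⟩
      rw [Place.ord_k] at hPx
      omega
  · rintro ⟨x, hx⟩
    obtain ⟨P, hP, hPx⟩ := exists_place_of_adjoin_eq_top hK hx
    refine ⟨x, P, hP, ?_, ?_⟩
    · have := DFunLike.congr_fun hPx P
      rw [poleDiv_apply hK, Finsupp.single_eq_same] at this
      rcases max_cases (-P.ord x) 0 with ⟨h1, h2⟩ | ⟨h1, h2⟩ <;> omega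
    · intro Q hQ
      have := DFunLike.congr_fun hPx Q
      rw [poleDiv_apply hK, Finsupp.single_apply, if_neg (Ne.symm hQ)] at this
      rcases max_cases (-Q.ord x) 0 with ⟨h1, h2⟩ | ⟨h1, h2⟩ <;> omega

theorem place_eq_of_div (hK : IsFunctionField k K) (hg : 0 < genus k K) {P P' : Place k K}
    (_hP : P.deg = 1) (hP' : P'.deg = 1) {x : K} (hx : x ≠ 0)
    (h : (Finsupp.single P 1 - Finsupp.single P' 1 : Divisor k K) = div k x) : P = P' := by
  classical
  by_contra hne
  have hord : ∀ Q : Place k K, Q.ord x = (if P = Q then 1 else 0) - (if P' = Q then 1 else 0) := by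
    intro Q
    have := DFunLike.congr_fun h Q
    rw [Finsupp.sub_apply, Finsupp.single_apply, Finsupp.single_apply, div_apply hK] at this
    exact this.symm
  have h1 : IntermediateField.adjoin k ({x} : Set K) = ⊤ := by
    apply adjoin_eq_top_of_mem_L_single hK hP'
    · intro Q
      rw [Place.val_eq_exp_neg_ord Q hx, exp_le_exp, Finsupp.single_apply, hord Q]
      split_ifs <;> omega
    · rintro ⟨c, rfl⟩
      have := hord P'
      rw [Place.ord_k, if_neg hne, if_pos rfl] at this
      omega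
  have := genus_eq_zero_of_adjoin_eq_top hK h1
  omega

theorem existsUnique_place_genus_one (hK : IsFunctionField k K) (hg : genus k K = 1)
    {P₀ : Place k K} (hP : P₀.deg = 1) {D : Divisor k K} (hD : D.deg = 0) :
    ∃! P : Place k K, P.deg = 1 ∧
      ∃ x : K, x ≠ 0 ∧ D = Finsupp.single P 1 - Finsupp.single P₀ 1 + div k x := by
  have h1 := ell_eq_of_deg_ge hK (D := D + Finsupp.single P₀ 1) (by
    rw [Divisor.deg_add, Divisor.deg_single, hg, hP, hD]; norm_num)
  rw [Divisor.deg_add, Divisor.deg_single, hg, hP, hD] at h1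
  have h2 : 0 < ell (D + Finsupp.single P₀ 1) := by
    have : ((ell (D + Finsupp.single P₀ 1) : ℕ) : ℤ) = 1 := by rw [h1]; norm_num
    omega
  obtain ⟨z, hz, hz0⟩ := exists_ne_zero_of_ell_pos h2
  have h3 := div_add_nonneg_of_mem_L hK hz0 hz
  have h4 : (div k z + (D + Finsupp.single P₀ 1)).deg = 1 := by
    rw [Divisor.deg_add, Divisor.deg_add, deg_div hK, Divisor.deg_single, hD, hP]; norm_num
  obtain ⟨P, hPdeg, hPE⟩ := Divisor.eq_single_of_deg_eq_one hK h3 h4
  refine ⟨P, ⟨hPdeg, z⁻¹, inv_ne_zero hz0, ?_⟩, ?_⟩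
  · rw [div_inv hK, ← hPE]; abel
  · rintro P' ⟨hP'deg, x, hx0, hx⟩
    apply place_eq_of_div hK (by omega) hP'deg hPdeg (x := (x * z)⁻¹)
      (inv_ne_zero (mul_ne_zero hx0 hz0))
    rw [div_inv hK, div_mul hK hx0 hz0, ← hPE]
    have : (Finsupp.single P' 1 : Divisor k K) = D + Finsupp.single P₀ 1 - div k x := by
      rw [hx]; abel
    rw [this]; abel

end Statements

end Groth.Agent.Lib.Helper4.FF
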