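import Mathlib
import Groth.Agent.Lib.Helper4.FF.Rational

/-! # Linear series on function fields: vanishing dimensions (helper4) -/

namespace Groth.Agent.Lib.Helper4.FF

open FunFld WithZero

variable {k K : Type*} [Field k] [Field K] [Algebra k K]

section AlgClosed

/-- over an algebraically closed constant field every place has degree one -/
lemma Place.deg_eq_one [IsAlgClosed k] (hK : IsFunctionField k K) (P : Place k K) : P.deg = 1 := by
  obtain ⟨t, ht⟩ := Place.exists_uniformizer P
  have ht0 : t ≠ 0 := by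
    rw [← Valuation.ne_zero_iff P.1, ht]; exact exp_ne_zero
  have ht1 : P.1 t < 1 := by rw [ht]; exact lt_one_iff_le_exp_neg_one.mpr le_rfl
  have hfin : Module.Finite k (IsLocalRing.ResidueField P.O) :=
    (Place.residue_finite_and_le P hK ht0 ht1).1
  have hfin' : @Module.Finite k (IsLocalRing.ResidueField P.O) _ _ Algebra.toModule := hfin
  have hint : Algebra.IsIntegral k (IsLocalRing.ResidueField P.O) := Algebra.IsIntegral.of_finite _ _
  have hbij := IsAlgClosed.algebraMap_bijective_of_isIntegral (k := k)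
    (K := IsLocalRing.ResidueField P.O)
  let e : k ≃ₗ[k] IsLocalRing.ResidueField P.O :=
    LinearEquiv.ofBijective (Algebra.linearMap k _) hbij
  unfold FunFld.Place.deg
  rw [← e.finrank_eq, Module.finrank_self]

/-- at a place of degree one every integral element is congruent to a constant -/
lemma Place.exists_const_sub_lt (P : Place k K) (hP : P.deg = 1) {z : K} (hz : P.1 z ≤ 1) :
    ∃ c : k, P.1 (z - algebraMap k K c) < 1 := by
  have h1 : Module.finrank k (IsLocalRing.ResidueField P.O) = 1 := hP
  let z' : P.O := ⟨z, (Place.mem_O_iff P).mpr hz⟩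
  have hone : Place.resₗ P (1 : P.O) ≠ 0 := by
    rw [Ne, Place.resₗ_eq_zero_iff]
    simp
  obtain ⟨c, hc⟩ := (finrank_eq_one_iff_of_nonzero' (Place.resₗ P (1 : P.O)) hone).mp h1
    (Place.resₗ P z')
  refine ⟨c, ?_⟩
  have h2 : Place.resₗ P (z' - c • (1 : P.O)) = 0 := by
    rw [map_sub, map_smul, sub_eq_zero]
    exact hc.symm
  rw [Place.resₗ_eq_zero_iff] at h2
  convert h2 using 2
  change z - algebraMap k K c = z - ((c • (1 : P.O) : P.O) : K)
  congr 1
  rw [Algebra.smul_def, mul_one]
  rfl

end AlgClosed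

section VD

/-- dimension of the space of members of `V` vanishing to order `≥ n` at `P` (relative to `D`) -/
noncomputable def vd (V : Submodule k K) (D : Divisor k K) (P : Place k K) (n : ℤ) : ℕ :=
  Module.finrank k ↥(V ⊓ L (D - Finsupp.single P n))

lemma single_le_single (P : Place k K) {n m : ℤ} (h : n ≤ m) :
    (Finsupp.single P n : Divisor k K) ≤ Finsupp.single P m := by
  classical
  intro Q
  rw [Finsupp.single_apply, Finsupp.single_apply]
  split_ifs <;> omega

lemma finite_inf_L (hK : IsFunctionField k K) (V : Submodule k K) (E : Divisor k K) :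
    Module.Finite k ↥(V ⊓ L E) := by
  have := L_finite hK E
  exact Module.Finite.of_injective (Submodule.inclusion (inf_le_right : V ⊓ L E ≤ L E))
    (Submodule.inclusion_injective _)

lemma vd_anti (hK : IsFunctionField k K) (V : Submodule k K) (D : Divisor k K) (P : Place k K)
    {n m : ℤ} (h : n ≤ m) : vd V D P m ≤ vd V D P n := by
  have := finite_inf_L hK V (D - Finsupp.single P n)
  exact Submodule.finrank_mono (inf_le_inf_left V (L_mono (sub_le_sub_left (single_le_single P h) D)))

lemma vd_of_nonpos {V : Submodule k K} {D : Divisor k K} (hV : V ≤ L D) (P : Place k K)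
    {n : ℤ} (h : n ≤ 0) : vd V D P n = Module.finrank k V := by
  unfold vd
  have : V ⊓ L (D - Finsupp.single P n) = V := by
    apply inf_eq_left.mpr
    refine hV.trans (L_mono ?_)
    have := single_le_single P h
    rw [Finsupp.single_zero] at this
    exact le_sub_iff_add_le.mpr (by simpa using add_le_add_left this D)
  rw [this]

lemma vd_eq_zero (hK : IsFunctionField k K) (V : Submodule k K) {D : Divisor k K} (P : Place k K)
    {n : ℤ} (h : D.deg < n * P.deg) : vd V D P n = 0 := by
  unfold vd
  have : L (D - Finsupp.single P n) = ⊥ := L_eq_bot_of_deg_neg hK (by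
    rw [Divisor.deg_sub, Divisor.deg_single]; omega)
  rw [this, inf_bot_eq]
  exact finrank_bot k K

/-- general linear algebra: intersecting with `V` does not increase codimension -/
lemma finrank_inf_le_add {A B : Submodule k K} (V : Submodule k K) (hAB : A ≤ B)
    [Module.Finite k B] :
    Module.finrank k ↥(V ⊓ B) + Module.finrank k A ≤
      Module.finrank k ↥(V ⊓ A) + Module.finrank k B := by
  have hfA : Module.Finite k A := Module.Finite.of_injective (Submodule.inclusion hAB)
    (Submodule.inclusion_injective _)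
  have hfX : Module.Finite k ↥(V ⊓ B) := Module.Finite.of_injective
    (Submodule.inclusion (inf_le_right : V ⊓ B ≤ B)) (Submodule.inclusion_injective _)
  have h1 := Submodule.finrank_sup_add_finrank_inf_eq (V ⊓ B) A
  have h2 : (V ⊓ B) ⊓ A = V ⊓ A := by
    rw [inf_assoc, inf_eq_right.mpr hAB]
  have h3 : Module.finrank k ↥((V ⊓ B) ⊔ A) ≤ Module.finrank k B :=
    Submodule.finrank_mono (sup_le inf_le_right hAB)
  rw [h2] at h1
  omega

lemma vd_step (hK : IsFunctionField k K) (V : Submodule k K) (D : Divisor k K) (P : Place k K)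
    (n : ℤ) : vd V D P n ≤ vd V D P (n + 1) + P.deg := by
  have hle : D - Finsupp.single P (n + 1) ≤ D - Finsupp.single P n :=
    sub_le_sub_left (single_le_single P (by omega)) D
  have := L_finite hK (D - Finsupp.single P n)
  have h1 := finrank_inf_le_add V (L_mono hle)
  have h2 := ell_sub_le hK hle
  rw [Divisor.deg_sub, Divisor.deg_sub, Divisor.deg_single, Divisor.deg_single] at h2
  unfold vd
  unfold FunFld.ell at h2
  have h3 : (Module.finrank k ↥(L (D - Finsupp.single P n)) : ℤ) ≤
      Module.finrank k ↥(L (D - Finsupp.single P (n + 1))) + P.deg := by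
    linarith
  have h4 : Module.finrank k ↥(L (D - Finsupp.single P n)) ≤
      Module.finrank k ↥(L (D - Finsupp.single P (n + 1))) + P.deg := by exact_mod_cast h3
  omega

/-- the two-point bound -/
lemma vd_add_le (hK : IsFunctionField k K) {V : Submodule k K} {D : Divisor k K}
    [Module.Finite k V] {P Q : Place k K} (hPQ : P ≠ Q) {a b : ℤ}
    (h : D.deg < a * P.deg + b * Q.deg) : vd V D P a + vd V D Q b ≤ Module.finrank k V := by
  classical
  unfold vd
  set X := V ⊓ L (D - Finsupp.single P a) with hX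
  set Y := V ⊓ L (D - Finsupp.single Q b) with hY
  have hfX := finite_inf_L hK V (D - Finsupp.single P a)
  have hfY := finite_inf_L hK V (D - Finsupp.single Q b)
  have hbot : X ⊓ Y = ⊥ := by
    rw [eq_bot_iff]
    intro x hx
    have hx1 : x ∈ L (D - Finsupp.single P a) := hx.1.2
    have hx2 : x ∈ L (D - Finsupp.single Q b) := hx.2.2
    have hx3 : x ∈ L (D - Finsupp.single P a - Finsupp.single Q b) := by
      intro R
      by_cases hR : R = Q
      · subst hR
        refine (hx2 R).trans (exp_le_exp.mpr ?_)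
        rw [Finsupp.sub_apply, Finsupp.sub_apply, Finsupp.sub_apply, Finsupp.single_eq_same,
          Finsupp.single_apply, if_neg hPQ]
        omega
      · refine (hx1 R).trans (exp_le_exp.mpr ?_)
        rw [Finsupp.sub_apply, Finsupp.sub_apply, Finsupp.sub_apply,
          Finsupp.single_apply (a := Q), if_neg (Ne.symm hR)]
        omega
    have : L (D - Finsupp.single P a - Finsupp.single Q b) = ⊥ := L_eq_bot_of_deg_neg hK (by
      rw [Divisor.deg_sub, Divisor.deg_sub, Divisor.deg_single, Divisor.deg_single]; omega)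
    rwa [this] at hx3
  have h1 := Submodule.finrank_sup_add_finrank_inf_eq X Y
  rw [hbot, finrank_bot, add_zero] at h1
  have h2 : Module.finrank k ↥(X ⊔ Y) ≤ Module.finrank k V :=
    Submodule.finrank_mono (sup_le inf_le_left inf_le_left)
  omega

end VD

section Grd

/-- `(D, V)` is a `g^r_d` -/
structure IsGrd (V : Submodule k K) (D : Divisor k K) (r d : ℕ) : Prop where
  le : V ≤ L D
  rank : Module.finrank k V = r + 1
  deg : D.deg = d

variable {V : Submodule k K} {D : Divisor k K} {r d : ℕ}

lemma IsGrd.finite (hK : IsFunctionField k K) (hG : IsGrd V D r d) : Module.Finite k V := by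
  have := L_finite hK D
  exact Module.Finite.of_injective (Submodule.inclusion hG.le) (Submodule.inclusion_injective _)

lemma IsGrd.vd_zero (hG : IsGrd V D r d) (P : Place k K) : vd V D P 0 = r + 1 := by
  rw [vd_of_nonpos hG.le P le_rfl, hG.rank]

lemma IsGrd.vd_le (hK : IsFunctionField k K) (hG : IsGrd V D r d) (P : Place k K) (n : ℤ) :
    vd V D P n ≤ r + 1 := by
  have := hG.finite hK
  rw [← hG.rank]
  exact Submodule.finrank_mono inf_le_left

variable [IsAlgClosed k]

lemma IsGrd.vd_succ_le (hK : IsFunctionField k K) (P : Place k K) (n : ℤ) :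
    vd V D P n ≤ vd V D P (n + 1) + 1 := by
  have := vd_step hK V D P n
  rwa [Place.deg_eq_one hK P] at this

lemma IsGrd.vd_top (hK : IsFunctionField k K) (hG : IsGrd V D r d) (P : Place k K) {n : ℤ}
    (h : (d : ℤ) < n) : vd V D P n = 0 := by
  apply vd_eq_zero hK V P
  rw [Place.deg_eq_one hK P, hG.deg]
  simpa using h

lemma IsGrd.vd_ge (hK : IsFunctionField k K) (hG : IsGrd V D r d) (P : Place k K) (n : ℕ) :
    r + 1 ≤ vd V D P (n : ℤ) + n := by
  induction n with
  | zero => simp [hG.vd_zero P]
  | succ m ih =>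
    have := IsGrd.vd_succ_le (V := V) (D := D) hK P (m : ℤ)
    push_cast
    omega

lemma IsGrd.r_le_d (hK : IsFunctionField k K) (hG : IsGrd V D r d) (P : Place k K) : r ≤ d := by
  have h1 := hG.vd_ge hK P (d + 1)
  have h2 := hG.vd_top hK P (n := ((d + 1 : ℕ) : ℤ)) (by push_cast; omega)
  omega

/-- the two-point bound -/
lemma IsGrd.two_point (hK : IsFunctionField k K) (hG : IsGrd V D r d) {P Q : Place k K}
    (hPQ : P ≠ Q) {a b : ℤ} (h : (d : ℤ) + 1 ≤ a + b) : vd V D P a + vd V D Q b ≤ r + 1 := by
  have := hG.finite hK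
  rw [← hG.rank]
  apply vd_add_le hK hPQ
  rw [Place.deg_eq_one hK P, Place.deg_eq_one hK Q, hG.deg]
  push_cast
  omega

/-- the weight sum `∑_{n=1}^{d} dim V(-nP)` -/
noncomputable def Svd (V : Submodule k K) (D : Divisor k K) (P : Place k K) (d : ℕ) : ℕ :=
  ∑ n ∈ Finset.range d, vd V D P ((n : ℤ) + 1)

end Grd

section Counting

lemma half_mul_two (r : ℕ) : r * (r + 1) / 2 * 2 = r * (r + 1) :=
  Nat.div_mul_cancel (Nat.even_mul_succ_self r).two_dvd

lemma sum_range_sub (r : ℕ) : (∑ n ∈ Finset.range r, (r - n)) * 2 = r * (r + 1) := by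
  induction r with
  | zero => simp
  | succ m ih =>
    rw [Finset.sum_range_succ']
    have : ∑ n ∈ Finset.range m, (m + 1 - (n + 1)) = ∑ n ∈ Finset.range m, (m - n) := by
      apply Finset.sum_congr rfl
      intro n _
      omega
    rw [this]
    simp only [Nat.sub_zero]
    rw [add_mul, ih]
    ring

/-- lower bound on a sum from a staircase lower bound -/
lemma staircase_lower {r d : ℕ} (hrd : r ≤ d) (a : ℕ → ℕ) (ha : ∀ n, r + 1 ≤ a n + n) :
    r * (r + 1) ≤ 2 * ∑ n ∈ Finset.range d, a (n + 1) := by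
  have h1 : ∑ n ∈ Finset.range r, (r - n) ≤ ∑ n ∈ Finset.range d, a (n + 1) := by
    calc ∑ n ∈ Finset.range r, (r - n) ≤ ∑ n ∈ Finset.range r, a (n + 1) := by
          apply Finset.sum_le_sum
          intro n _
          have := ha (n + 1)
          omega
      _ ≤ ∑ n ∈ Finset.range d, a (n + 1) := by
          apply Finset.sum_le_sum_of_subset
          exact Finset.range_subset_range.mpr hrd
  have h2 := sum_range_sub r
  omega

/-- reflecting a sum over `1..d` -/
lemma sum_reflect (d : ℕ) (b : ℤ → ℕ) :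
    ∑ n ∈ Finset.range d, b ((d : ℤ) + 1 - ((n : ℤ) + 1)) = ∑ n ∈ Finset.range d, b ((n : ℤ) + 1) := by
  rw [← Finset.sum_range_reflect]
  apply Finset.sum_congr rfl
  intro n hn
  have hn' := Finset.mem_range.mp hn
  congr 1
  have : ((d - 1 - n : ℕ) : ℤ) = (d : ℤ) - 1 - n := by omega
  rw [this]; ring

/-- compatibility at a node, summed -/
lemma compat_sum {r d : ℕ} (a b : ℤ → ℕ)
    (h : ∀ m : ℕ, m ≤ d + 1 → a (m : ℤ) + b ((d : ℤ) + 1 - m) = r + 1) :
    (∑ n ∈ Finset.range d, a ((n : ℤ) + 1)) + ∑ n ∈ Finset.range d, b ((n : ℤ) + 1) =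
      (r + 1) * d := by
  rw [← sum_reflect d b, ← Finset.sum_add_distrib]
  have : ∀ n ∈ Finset.range d, a ((n : ℤ) + 1) + b ((d : ℤ) + 1 - ((n : ℤ) + 1)) = r + 1 := by
    intro n hn
    have hn' := Finset.mem_range.mp hn
    have := h (n + 1) (by omega)
    push_cast at this
    exact this
  rw [Finset.sum_congr rfl this]
  simp [mul_comm]

/-- two-point bound, summed -/
lemma two_point_sum {r d : ℕ} (a b : ℤ → ℕ)
    (h : ∀ m : ℕ, m ≤ d + 1 → a (m : ℤ) + b ((d : ℤ) + 1 - m) ≤ r + 1) :
    (∑ n ∈ Finset.range d, a ((n : ℤ) + 1)) + ∑ n ∈ Finset.range d, b ((n : ℤ) + 1) ≤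
      (r + 1) * d := by
  rw [← sum_reflect d b, ← Finset.sum_add_distrib]
  have : ∀ n ∈ Finset.range d, a ((n : ℤ) + 1) + b ((d : ℤ) + 1 - ((n : ℤ) + 1)) ≤ r + 1 := by
    intro n hn
    have hn' := Finset.mem_range.mp hn
    have := h (n + 1) (by omega)
    push_cast at this
    exact this
  calc _ ≤ ∑ n ∈ Finset.range d, (r + 1) := Finset.sum_le_sum this
    _ = (r + 1) * d := by simp [mul_comm]

/-- the diagonal sum `∑_{n=0}^{d} (a n + b (d-n))` -/
lemma diag_sum (d : ℕ) (a b : ℤ → ℕ) :
    ∑ n ∈ Finset.range (d + 1), (a (n : ℤ) + b ((d : ℤ) - n)) =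
      (∑ n ∈ Finset.range d, a ((n : ℤ) + 1)) + (∑ n ∈ Finset.range d, b ((n : ℤ) + 1)) +
        a 0 + b 0 := by
  rw [Finset.sum_add_distrib]
  have h1 : ∑ n ∈ Finset.range (d + 1), a (n : ℤ) =
      (∑ n ∈ Finset.range d, a ((n : ℤ) + 1)) + a 0 := by
    rw [Finset.sum_range_succ']
    simp
  have h2 : ∑ n ∈ Finset.range (d + 1), b ((d : ℤ) - n) =
      (∑ n ∈ Finset.range d, b ((n : ℤ) + 1)) + b 0 := by
    rw [Finset.sum_range_succ, ← sum_reflect d b]
    congr 1
    · apply Finset.sum_congr rfl
      intro n _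
      congr 1; ring
    · congr 1; ring
  rw [h1, h2]; ring

/-- counting: a sum of terms `≤ M + 1` is at most `(d+1) M +` the number of maximal terms -/
lemma sum_le_card_max (d M : ℕ) (f : ℕ → ℕ) (hf : ∀ n ≤ d, f n ≤ M + 1) :
    ∑ n ∈ Finset.range (d + 1), f n ≤
      (d + 1) * M + ((Finset.range (d + 1)).filter fun n => f n = M + 1).card := by
  classical
  have : ∀ n ∈ Finset.range (d + 1), f n ≤ M + if f n = M + 1 then 1 else 0 := by
    intro n hn
    have := hf n (by have := Finset.mem_range.mp hn; omega)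
    split_ifs with h <;> omega
  calc _ ≤ ∑ n ∈ Finset.range (d + 1), (M + if f n = M + 1 then 1 else 0) :=
        Finset.sum_le_sum this
    _ = _ := by
        rw [Finset.sum_add_distrib, Finset.sum_const, Finset.card_range, smul_eq_mul,
          Finset.card_filter]

end Counting

end Groth.Agent.Lib.Helper4.FF
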