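import Mathlib
import Groth.Agent.Lib.Helper4.FF.Rational

/-! # Genus one: Weierstrass equation (helper4) -/

namespace Groth.Agent.Lib.Helper4.FF

open FunFld WithZero Polynomial

variable {k K : Type*} [Field k] [Field K] [Algebra k K]

section Ladder

lemma mul_mem_L_add {D E : Divisor k K} {x y : K} (hx : x ∈ L D) (hy : y ∈ L E) :
    x * y ∈ L (D + E) := by
  intro P
  rw [map_mul, Finsupp.add_apply, exp_add]
  exact mul_le_mul' (hx P) (hy P)

lemma exists_mem_not_mem_of_ell_lt (hK : IsFunctionField k K) {D E : Divisor k K}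
    (h : ell D < ell E) : ∃ x ∈ L E, x ∉ L D := by
  by_contra hcon
  push Not at hcon
  have := L_finite hK D
  have h1 : ell E ≤ ell D := Submodule.finrank_mono (fun x hx => hcon x hx)
  omega

/-- the ladder lemma -/
lemma exists_sub_smul_mem (hK : IsFunctionField k K) {D E : Divisor k K} (hDE : D ≤ E)
    (h : ell E = ell D + 1) {v : K} (hv : v ∈ L E) (hv' : v ∉ L D) {w : K} (hw : w ∈ L E) :
    ∃ c : k, w - c • v ∈ L D := by
  have hfE := L_finite hK E
  set M : Submodule k K := L D ⊔ Submodule.span k {v} with hM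
  have hME : M ≤ L E := sup_le (L_mono hDE) ((Submodule.span_singleton_le_iff_mem _ _).mpr hv)
  have hfM : Module.Finite k M := Module.Finite.of_injective (Submodule.inclusion hME)
    (Submodule.inclusion_injective _)
  have hlt : L D < M := by
    refine lt_of_le_of_ne le_sup_left ?_
    intro heq
    apply hv'
    rw [heq]
    exact Submodule.mem_sup_right (Submodule.mem_span_singleton_self v)
  have h1 : Module.finrank k (L D) < Module.finrank k M := Submodule.finrank_lt_finrank_of_lt hlt
  have h2 : Module.finrank k (L E) ≤ Module.finrank k M := by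
    change ell E ≤ _
    change ell D < _ at h1
    omega
  have h3 : M = L E := Submodule.eq_of_le_of_finrank_le hME h2
  rw [← h3] at hw
  obtain ⟨u, hu, t, ht, hut⟩ := Submodule.mem_sup.mp hw
  obtain ⟨c, rfl⟩ := Submodule.mem_span_singleton.mp ht
  refine ⟨c, ?_⟩
  rw [← hut, add_sub_cancel_right]
  exact hu

end Ladder

section Single

variable {P₀ : Place k K}

lemma mem_L_single_iff {n : ℤ} {x : K} (hx0 : x ≠ 0) :
    x ∈ L (Finsupp.single P₀ n : Divisor k K) ↔
      -n ≤ P₀.ord x ∧ ∀ Q : Place k K, Q ≠ P₀ → 0 ≤ Q.ord x := by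
  classical
  constructor
  · intro h
    constructor
    · have := h P₀
      rw [Finsupp.single_eq_same, Place.val_eq_exp_neg_ord P₀ hx0, exp_le_exp] at this
      omega
    · intro Q hQ
      have := h Q
      rw [Finsupp.single_apply, if_neg (Ne.symm hQ), Place.val_eq_exp_neg_ord Q hx0,
        exp_le_exp] at this
      omega
  · rintro ⟨h1, h2⟩ Q
    rw [Finsupp.single_apply, Place.val_eq_exp_neg_ord Q hx0, exp_le_exp]
    split_ifs with h
    · subst h; omega
    · have := h2 Q (Ne.symm h); omega

lemma ord_eq_of_mem_of_not_mem {n : ℤ} {x : K}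
    (hx : x ∈ L (Finsupp.single P₀ (n + 1) : Divisor k K))
    (hx' : x ∉ L (Finsupp.single P₀ n : Divisor k K)) : P₀.ord x = -(n + 1) := by
  have hx0 : x ≠ 0 := by
    rintro rfl
    exact hx' (Submodule.zero_mem _)
  rw [mem_L_single_iff hx0] at hx hx'
  by_contra hne
  apply hx'
  exact ⟨by omega, hx.2⟩

lemma not_mem_L_single {n : ℤ} {x : K} (hx0 : x ≠ 0) (h : P₀.ord x < -n) :
    x ∉ L (Finsupp.single P₀ n : Divisor k K) := by
  rw [mem_L_single_iff hx0]
  intro h'
  omega

lemma poleDiv_eq_single (hK : IsFunctionField k K) {n : ℤ} (hn : 0 ≤ n) {x : K} (hx0 : x ≠ 0)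
    (hx : x ∈ L (Finsupp.single P₀ n : Divisor k K)) (hord : P₀.ord x = -n) :
    (poleDiv x : Divisor k K) = Finsupp.single P₀ n := by
  classical
  rw [mem_L_single_iff hx0] at hx
  ext Q
  rw [poleDiv_apply hK, Finsupp.single_apply]
  split_ifs with h
  · subst h; rw [hord, neg_neg]; exact max_eq_left hn
  · have := hx.2 Q (Ne.symm h)
    exact max_eq_right (by omega)

end Single

section Main

theorem weierstrass (hK : IsFunctionField k K) (hg : genus k K = 1) {P₀ : Place k K}
    (hP : P₀.deg = 1) :
    ∃ x y : K, x ∈ L (Finsupp.single P₀ 2 : Divisor k K) ∧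
      y ∈ L (Finsupp.single P₀ 3 : Divisor k K) ∧
      P₀.ord x = -2 ∧ P₀.ord y = -3 ∧
      IntermediateField.adjoin k ({x, y} : Set K) = ⊤ ∧
      ∃ f g : Polynomial k, f.natDegree ≤ 1 ∧ g.natDegree = 3 ∧
        y ^ 2 + Polynomial.aeval x f * y + Polynomial.aeval x g = 0 := by
  classical
  -- ℓ(nP₀) = n
  have hell : ∀ n : ℤ, 1 ≤ n → (ell (Finsupp.single P₀ n : Divisor k K) : ℤ) = n := by
    intro n hn
    have h1 := ell_eq_of_deg_ge hK (D := (Finsupp.single P₀ n : Divisor k K)) (by
      rw [Divisor.deg_single, hg, hP]; push_cast; omega)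
    rw [Divisor.deg_single, hg, hP] at h1
    push_cast at h1; omega
  have hstep : ∀ n : ℤ, 1 ≤ n → ell (Finsupp.single P₀ (n + 1) : Divisor k K) =
      ell (Finsupp.single P₀ n : Divisor k K) + 1 := by
    intro n hn
    have h1 := hell n hn
    have h2 := hell (n + 1) (by omega)
    omega
  have hmono : ∀ n : ℤ, (Finsupp.single P₀ n : Divisor k K) ≤ Finsupp.single P₀ (n + 1) := by
    intro n Q
    rw [Finsupp.single_apply, Finsupp.single_apply]
    split_ifs <;> omega
  -- `L(P₀) = k`
  have hL1 : ∀ w ∈ L (Finsupp.single P₀ 1 : Divisor k K), ∃ c : k, algebraMap k K c = w := by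
    intro w hw
    have hle : L (0 : Divisor k K) ≤ L (Finsupp.single P₀ 1 : Divisor k K) := by
      have := hmono 0
      rw [Finsupp.single_zero, zero_add] at this
      exact L_mono this
    have hf := L_finite hK (Finsupp.single P₀ 1 : Divisor k K)
    have heq : L (0 : Divisor k K) = L (Finsupp.single P₀ 1 : Divisor k K) := by
      apply Submodule.eq_of_le_of_finrank_eq hle
      change ell _ = ell _
      have h1 := hell 1 le_rfl
      rw [ell_zero hK]
      exact_mod_cast h1.symm
    rw [← heq, L_zero hK, Submodule.mem_one] at hw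
    exact hw
  -- `x` and `y`
  obtain ⟨x, hx, hx'⟩ := exists_mem_not_mem_of_ell_lt hK
    (D := (Finsupp.single P₀ 1 : Divisor k K)) (E := (Finsupp.single P₀ (1 + 1) : Divisor k K))
    (by rw [hstep 1 le_rfl]; omega)
  have hxo : P₀.ord x = -(1 + 1) := ord_eq_of_mem_of_not_mem hx hx'
  obtain ⟨y, hy, hy'⟩ := exists_mem_not_mem_of_ell_lt hK
    (D := (Finsupp.single P₀ 2 : Divisor k K)) (E := (Finsupp.single P₀ (2 + 1) : Divisor k K))
    (by rw [hstep 2 (by norm_num)]; omega)
  have hyo : P₀.ord y = -(2 + 1) := ord_eq_of_mem_of_not_mem hy hy'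
  norm_num at hx hxo hy hyo
  have hx0 : x ≠ 0 := by
    rintro rfl
    simp [FunFld.Place.ord] at hxo
  have hy0 : y ≠ 0 := by
    rintro rfl
    simp [FunFld.Place.ord] at hyo
  refine ⟨x, y, hx, hy, hxo, hyo, ?_, ?_⟩
  · -- generation
    have hxk : x ∉ Set.range (algebraMap k K) := by
      rintro ⟨c, rfl⟩
      rw [Place.ord_k] at hxo; omega
    have hyk : y ∉ Set.range (algebraMap k K) := by
      rintro ⟨c, rfl⟩
      rw [Place.ord_k] at hyo; omega
    have hxt := transcendental_of_notMem hK hxk
    have hyt := transcendental_of_notMem hK hyk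
    have h2 : Module.finrank (IntermediateField.adjoin k ({x} : Set K)) K = 2 := by
      have h := deg_poleDiv hK hxt
      rw [poleDiv_eq_single hK (by norm_num) hx0 hx (by rw [hxo]), Divisor.deg_single, hP] at h
      exact_mod_cast h.symm
    have h3 : Module.finrank (IntermediateField.adjoin k ({y} : Set K)) K = 3 := by
      have h := deg_poleDiv hK hyt
      rw [poleDiv_eq_single hK (by norm_num) hy0 hy (by rw [hyo]), Divisor.deg_single, hP] at h
      exact_mod_cast h.symm
    set F := IntermediateField.adjoin k ({x, y} : Set K) with hF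
    have hxF : IntermediateField.adjoin k ({x} : Set K) ≤ F :=
      IntermediateField.adjoin.mono k _ _ (by simp)
    have hyF : IntermediateField.adjoin k ({y} : Set K) ≤ F :=
      IntermediateField.adjoin.mono k _ _ (by simp)
    have d2 : Module.finrank F K ∣ 2 := by
      rw [← h2]
      exact Dvd.intro_left _ (IntermediateField.relfinrank_mul_finrank_top hxF)
    have d3 : Module.finrank F K ∣ 3 := by
      rw [← h3]
      exact Dvd.intro_left _ (IntermediateField.relfinrank_mul_finrank_top hyF)
    have d1 : Module.finrank F K ∣ 1 := by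
      have := Nat.dvd_gcd d2 d3
      simpa using this
    exact IntermediateField.finrank_eq_one_iff_eq_top.mp (Nat.dvd_one.mp d1)
  · -- the relation
    have hxx : x * x ∈ L (Finsupp.single P₀ 4 : Divisor k K) := by
      have := mul_mem_L_add hx hx
      rw [← Finsupp.single_add] at this
      norm_num at this
      exact this
    have hxy : x * y ∈ L (Finsupp.single P₀ 5 : Divisor k K) := by
      have := mul_mem_L_add hx hy
      rw [← Finsupp.single_add] at this
      norm_num at this
      exact this
    have hxxx : x * x * x ∈ L (Finsupp.single P₀ 6 : Divisor k K) := by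
      have := mul_mem_L_add hxx hx
      rw [← Finsupp.single_add] at this
      norm_num at this
      exact this
    have hyy : y * y ∈ L (Finsupp.single P₀ 6 : Divisor k K) := by
      have := mul_mem_L_add hy hy
      rw [← Finsupp.single_add] at this
      norm_num at this
      exact this
    have oxx : P₀.ord (x * x) = -4 := by rw [Place.ord_mul P₀ hx0 hx0, hxo]; norm_num
    have oxy : P₀.ord (x * y) = -5 := by rw [Place.ord_mul P₀ hx0 hy0, hxo, hyo]; norm_num
    have oxxx : P₀.ord (x * x * x) = -6 := by
      rw [Place.ord_mul P₀ (mul_ne_zero hx0 hx0) hx0, oxx, hxo]; norm_num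
    have oyy : P₀.ord (y * y) = -6 := by rw [Place.ord_mul P₀ hy0 hy0, hyo]; norm_num
    obtain ⟨a, ha⟩ := exists_sub_smul_mem hK (hmono 5) (hstep 5 (by norm_num))
      (v := x * x * x) (by norm_num; exact hxxx)
      (not_mem_L_single (mul_ne_zero (mul_ne_zero hx0 hx0) hx0) (by rw [oxxx]; norm_num))
      (w := y * y) (by norm_num; exact hyy)
    obtain ⟨b, hb⟩ := exists_sub_smul_mem hK (hmono 4) (hstep 4 (by norm_num))
      (v := x * y) (by norm_num; exact hxy)
      (not_mem_L_single (mul_ne_zero hx0 hy0) (by rw [oxy]; norm_num))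
      (w := y * y - a • (x * x * x)) (by norm_num; exact ha)
    obtain ⟨c, hc⟩ := exists_sub_smul_mem hK (hmono 3) (hstep 3 (by norm_num))
      (v := x * x) (by norm_num; exact hxx)
      (not_mem_L_single (mul_ne_zero hx0 hx0) (by rw [oxx]; norm_num))
      (w := y * y - a • (x * x * x) - b • (x * y)) (by norm_num; exact hb)
    obtain ⟨d, hd⟩ := exists_sub_smul_mem hK (hmono 2) (hstep 2 (by norm_num))
      (v := y) (by norm_num; exact hy)
      (not_mem_L_single hy0 (by rw [hyo]; norm_num))
      (w := y * y - a • (x * x * x) - b • (x * y) - c • (x * x)) (by norm_num; exact hc)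
    obtain ⟨e, he⟩ := exists_sub_smul_mem hK (hmono 1) (hstep 1 (by norm_num))
      (v := x) (by norm_num; exact hx)
      (not_mem_L_single hx0 (by rw [hxo]; norm_num))
      (w := y * y - a • (x * x * x) - b • (x * y) - c • (x * x) - d • y) (by norm_num; exact hd)
    obtain ⟨h, hh⟩ := hL1 _ he
    have ha0 : a ≠ 0 := by
      rintro rfl
      rw [zero_smul, sub_zero] at ha
      exact not_mem_L_single (mul_ne_zero hy0 hy0) (by rw [oyy]; norm_num) ha
    refine ⟨-(C b * X + C d), -(C a * X ^ 3 + C c * X ^ 2 + C e * X + C h), ?_, ?_, ?_⟩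
    · rw [natDegree_neg]
      compute_degree
    · rw [natDegree_neg]
      compute_degree!
    · simp only [map_neg, map_add, map_mul, aeval_C, aeval_X, map_pow]
      simp only [Algebra.smul_def] at hh
      linear_combination (-1 : K) * hh

end Main

end Groth.Agent.Lib.Helper4.FF
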