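import Mathlib
import Groth.Agent.Lib.Helper4.FF.Weierstrass
import Groth.Agent.Lib.Helper4.FF.LLS

namespace Groth.Agent.Lib.Helper4.FF

open FunFld WithZero

section Gaps

variable {k K : Type*} [Field k] [Field K] [Algebra k K]

/-- `m` is a gap number at `P` -/
def IsGap (P : Place k K) (m : ℕ) : Prop :=
  L (Finsupp.single P (m : ℤ) : Divisor k K) = L (Finsupp.single P ((m : ℤ) - 1))

lemma L_single_mono (P : Place k K) {a b : ℤ} (h : a ≤ b) :
    L (Finsupp.single P a : Divisor k K) ≤ L (Finsupp.single P b) :=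
  L_mono (single_le_single P h)

lemma isGap_succ_iff (hK : IsFunctionField k K) (P : Place k K) (m : ℕ) :
    IsGap P (m + 1) ↔
      ell (Finsupp.single P ((m + 1 : ℕ) : ℤ) : Divisor k K) = ell (Finsupp.single P (m : ℤ)) := by
  unfold IsGap FunFld.ell
  have e : ((m + 1 : ℕ) : ℤ) - 1 = m := by push_cast; ring
  rw [e]
  constructor
  · intro h; rw [h]
  · intro h
    have hfin := L_finite hK (Finsupp.single P ((m + 1 : ℕ) : ℤ))
    exact (Submodule.eq_of_le_of_finrank_eq (L_single_mono P (by push_cast; omega)) h.symm).symm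

lemma ell_single_succ_le (hK : IsFunctionField k K) (P : Place k K) (hP : P.deg = 1) (m : ℕ) :
    ell (Finsupp.single P ((m + 1 : ℕ) : ℤ) : Divisor k K) ≤ ell (Finsupp.single P (m : ℤ)) + 1 := by
  have := ell_sub_le hK (single_le_single P (show (m : ℤ) ≤ ((m + 1 : ℕ) : ℤ) by push_cast; omega))
  rw [Divisor.deg_single, Divisor.deg_single, hP] at this
  push_cast at this
  have h2 : (ell (Finsupp.single P ((m : ℤ) + 1) : Divisor k K) : ℤ) ≤ ell (Finsupp.single P (m : ℤ)) + 1 := by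
    linarith
  have e : ((m + 1 : ℕ) : ℤ) = (m : ℤ) + 1 := by push_cast; ring
  rw [e]
  exact_mod_cast h2

/-- non-gaps form a semigroup -/
lemma not_isGap_add (_hK : IsFunctionField k K) (P : Place k K) {m m' : ℕ}
    (hm : ¬ IsGap P m) (hm' : ¬ IsGap P m') : ¬ IsGap P (m + m') := by
  unfold IsGap at hm hm' ⊢
  have key : ∀ n : ℕ, L (Finsupp.single P (n : ℤ) : Divisor k K) ≠ L (Finsupp.single P ((n : ℤ) - 1)) →
      ∃ x : K, x ≠ 0 ∧ x ∈ L (Finsupp.single P (n : ℤ) : Divisor k K) ∧ P.ord x = -(n : ℤ) := by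
    intro n hn
    have hlt : L (Finsupp.single P ((n : ℤ) - 1) : Divisor k K) < L (Finsupp.single P (n : ℤ)) :=
      lt_of_le_of_ne (L_single_mono P (by omega)) (Ne.symm hn)
    obtain ⟨x, hx, hx'⟩ := SetLike.exists_of_lt hlt
    have hx0 : x ≠ 0 := by
      rintro rfl
      exact hx' (Submodule.zero_mem _)
    have hx2 : x ∈ L (Finsupp.single P (((n : ℤ) - 1) + 1) : Divisor k K) := by
      rwa [sub_add_cancel]
    have := ord_eq_of_mem_of_not_mem hx2 hx'
    refine ⟨x, hx0, hx, ?_⟩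
    rw [this]; ring
  obtain ⟨x, hx0, hx, hxo⟩ := key m hm
  obtain ⟨y, hy0, hy, hyo⟩ := key m' hm'
  intro heq
  have hxy : x * y ∈ L (Finsupp.single P ((m + m' : ℕ) : ℤ) : Divisor k K) := by
    have := mul_mem_L_add hx hy
    rw [← Finsupp.single_add] at this
    push_cast
    exact this
  rw [heq] at hxy
  have hord : P.ord (x * y) < -(((m + m' : ℕ) : ℤ) - 1) := by
    rw [Place.ord_mul P hx0 hy0, hxo, hyo]
    push_cast
    omega
  exact not_mem_L_single (mul_ne_zero hx0 hy0) hord hxy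

end Gaps

end Groth.Agent.Lib.Helper4.FF
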