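import Mathlib
import Groth.Agent.Lib.Helper4.FF.Gaps1

namespace Groth.Agent.Lib.Helper4.FF

open FunFld WithZero

section GapCount

variable {k K : Type*} [Field k] [Field K] [Algebra k K]

open scoped Classical in
/-- number of gaps in `[1, M]` -/
noncomputable def gapCount (P : Place k K) (M : ℕ) : ℕ :=
  ((Finset.Icc 1 M).filter (IsGap P)).card

lemma gapCount_zero (P : Place k K) : gapCount P 0 = 0 := by
  simp [gapCount]

open scoped Classical in
lemma gapCount_succ (P : Place k K) (M : ℕ) :
    gapCount P (M + 1) = gapCount P M + (if IsGap P (M + 1) then 1 else 0) := by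
  unfold gapCount
  have : Finset.Icc 1 (M + 1) = insert (M + 1) (Finset.Icc 1 M) := by
    ext x
    simp only [Finset.mem_Icc, Finset.mem_insert]
    omega
  rw [this, Finset.filter_insert]
  split_ifs with h
  · rw [Finset.card_insert_of_notMem]
    simp
  · simp

lemma gapCount_mono (P : Place k K) {M N : ℕ} (h : M ≤ N) : gapCount P M ≤ gapCount P N := by
  classical
  unfold gapCount
  apply Finset.card_le_card
  apply Finset.filter_subset_filter
  apply Finset.Icc_subset_Icc_right h

lemma ell_add_gapCount (hK : IsFunctionField k K) (P : Place k K) (hP : P.deg = 1) (M : ℕ) :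
    ell (Finsupp.single P (M : ℤ) : Divisor k K) + gapCount P M = M + 1 := by
  classical
  induction M with
  | zero =>
    rw [gapCount_zero]
    have : (Finsupp.single P ((0 : ℕ) : ℤ) : Divisor k K) = 0 := by simp
    rw [this, ell_zero hK]
  | succ M ih =>
    rw [gapCount_succ]
    have h1 := ell_single_succ_le hK P hP M
    have h2 : ell (Finsupp.single P (M : ℤ) : Divisor k K) ≤
        ell (Finsupp.single P ((M + 1 : ℕ) : ℤ) : Divisor k K) :=
      ell_mono hK (single_le_single P (by push_cast; omega))
    split_ifs with h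
    · rw [isGap_succ_iff hK] at h
      omega
    · rw [isGap_succ_iff hK] at h
      omega

/-- the set in the statements is the finset of gaps -/
lemma setOf_gaps_lt (P : Place k K) (n : ℕ) :
    Set.ncard {m : ℕ | 1 ≤ m ∧ m < n ∧
      L (Finsupp.single P (m : ℤ) : Divisor k K) = L (Finsupp.single P ((m : ℤ) - 1))} =
      gapCount P (n - 1) := by
  classical
  unfold gapCount
  rw [← Set.ncard_coe_finset]
  congr 1
  ext m
  simp only [Set.mem_setOf_eq, Finset.coe_filter, Finset.mem_Icc, IsGap]
  constructor
  · rintro ⟨h1, h2, h3⟩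
    exact ⟨⟨h1, by omega⟩, h3⟩
  · rintro ⟨⟨h1, h2⟩, h3⟩
    exact ⟨h1, by omega, h3⟩

lemma setOf_gaps_le (P : Place k K) (n : ℕ) :
    Set.ncard {m : ℕ | 1 ≤ m ∧ m ≤ n ∧
      L (Finsupp.single P (m : ℤ) : Divisor k K) = L (Finsupp.single P ((m : ℤ) - 1))} =
      gapCount P n := by
  classical
  unfold gapCount
  rw [← Set.ncard_coe_finset]
  congr 1
  ext m
  simp only [Set.mem_setOf_eq, Finset.coe_filter, Finset.mem_Icc, IsGap]
  tauto

/-- if `n` is a gap, the gaps make up at least half of `[1, n-1]` -/
theorem gap_half (hK : IsFunctionField k K) (P : Place k K) {n : ℕ} (hgap : IsGap P n) :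
    n - 1 ≤ 2 * gapCount P (n - 1) := by
  classical
  unfold gapCount
  set G := (Finset.Icc 1 (n - 1)).filter (IsGap P) with hG
  have hsub : Finset.Icc 1 (n - 1) ⊆ G ∪ G.image (fun m => n - m) := by
    intro m hm
    rw [Finset.mem_Icc] at hm
    rw [Finset.mem_union]
    by_cases h1 : IsGap P m
    · left
      rw [hG, Finset.mem_filter, Finset.mem_Icc]
      exact ⟨hm, h1⟩
    · right
      rw [Finset.mem_image]
      refine ⟨n - m, ?_, by omega⟩
      rw [hG, Finset.mem_filter, Finset.mem_Icc]
      refine ⟨by omega, ?_⟩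
      by_contra h2
      have := not_isGap_add hK P h1 h2
      have e : m + (n - m) = n := by omega
      rw [e] at this
      exact this hgap
  have h1 := Finset.card_le_card hsub
  have h2 := Finset.card_union_le G (G.image (fun m => n - m))
  have h3 := Finset.card_image_le (s := G) (f := fun m => n - m)
  rw [Nat.card_Icc] at h1
  omega

/-- the `l`-th gap is at most `2l - 1` -/
theorem gap_bound (hK : IsFunctionField k K) (P : Place k K) (hP : P.deg = 1) {l : ℕ}
    (hl : 1 ≤ l) (hlg : l ≤ genus k K) : l ≤ gapCount P (2 * l - 1) := by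
  classical
  by_contra hlt
  push Not at hlt
  -- total number of gaps up to `2g - 1` is `g`
  set g := genus k K with hg
  have htot : gapCount P (2 * g - 1) = g := by
    have h1 := ell_add_gapCount hK P hP (2 * g - 1)
    have h2 := ell_eq_of_deg_ge hK (D := (Finsupp.single P ((2 * g - 1 : ℕ) : ℤ) : Divisor k K)) (by
      rw [Divisor.deg_single, hP]
      push_cast
      omega)
    rw [Divisor.deg_single, hP] at h2
    have h3 : ((2 * g - 1 : ℕ) : ℤ) = 2 * (g : ℤ) - 1 := by omega
    rw [h3] at h2
    rw [← hg] at h2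
    have h4 : (ell (Finsupp.single P ((2 * g - 1 : ℕ) : ℤ) : Divisor k K) : ℤ) = g := by
      rw [h3, h2]; ring
    omega
  -- there is a gap beyond `2l - 1`
  have hex : ∃ n, 2 * l - 1 < n ∧ IsGap P n := by
    by_contra hno
    push Not at hno
    have : gapCount P (2 * g - 1) ≤ gapCount P (2 * l - 1) := by
      unfold gapCount
      apply Finset.card_le_card
      intro m hm
      rw [Finset.mem_filter, Finset.mem_Icc] at hm ⊢
      refine ⟨⟨hm.1.1, ?_⟩, hm.2⟩
      by_contra hgt
      exact hno m (by omega) hm.2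
    omega
  let n := Nat.find hex
  have hn : 2 * l - 1 < n ∧ IsGap P n := Nat.find_spec hex
  have hmin : ∀ m, m < n → ¬ (2 * l - 1 < m ∧ IsGap P m) := fun m hm => Nat.find_min hex hm
  have h1 := gap_half hK P hn.2
  have h2 : gapCount P (n - 1) ≤ gapCount P (2 * l - 1) := by
    unfold gapCount
    apply Finset.card_le_card
    intro m hm
    rw [Finset.mem_filter, Finset.mem_Icc] at hm ⊢
    refine ⟨⟨hm.1.1, ?_⟩, hm.2⟩
    by_contra hgt
    exact hmin m (by omega) ⟨by omega, hm.2⟩
  omega

/-- Clifford's bound for multiples of a point -/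
theorem two_mul_ell_single_le (hK : IsFunctionField k K) (P : Place k K) (hP : P.deg = 1) (n : ℕ)
    (hn : (n : ℤ) ≤ 2 * (genus k K : ℤ) - 2) :
    2 * ell (Finsupp.single P (n : ℤ) : Divisor k K) ≤ n + 2 := by
  have h1 := ell_add_gapCount hK P hP n
  rcases Nat.eq_zero_or_pos n with h0 | hpos
  · subst h0
    rw [gapCount_zero] at h1
    omega
  · set l := (n + 1) / 2 with hl
    have hl1 : 1 ≤ l := by omega
    have hlg : l ≤ genus k K := by omega
    have h2 := gap_bound hK P hP hl1 hlg
    have h3 : gapCount P (2 * l - 1) ≤ gapCount P n := gapCount_mono P (by omega)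
    omega

end GapCount

end Groth.Agent.Lib.Helper4.FF
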