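import Mathlib
import Groth.Agent.Lib.Helper4.FF.Gaps2

namespace Groth.Agent.Lib.Helper4.FF

open FunFld WithZero

section BPF

variable {k K : Type*} [Field k] [Field K] [Algebra k K] [IsAlgClosed k]

/-- in positive genus, `ℓ(P) = 1` -/
lemma ell_single_one_of_pos_genus (hK : IsFunctionField k K) (hg : 0 < genus k K) (P : Place k K) :
    ell (Finsupp.single P 1 : Divisor k K) = 1 := by
  have hP := Place.deg_eq_one hK P
  have h1 : 1 ≤ ell (Finsupp.single P 1 : Divisor k K) := by
    have := ell_mono hK (show (0 : Divisor k K) ≤ Finsupp.single P 1 by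
      rw [← Finsupp.single_zero P]; exact single_le_single P (by norm_num))
    rwa [ell_zero hK] at this
  by_contra hne
  have h2 : 2 ≤ ell (Finsupp.single P 1 : Divisor k K) := by omega
  obtain ⟨x, hx⟩ := exists_adjoin_eq_top_of_ell hK hP h2
  have := genus_eq_zero_of_adjoin_eq_top hK hx
  omega

theorem ell_sub_single_lt (hK : IsFunctionField k K) (hg : 0 < genus k K) (D : Divisor k K)
    (hD : 2 * (genus k K : ℤ) ≤ D.deg ∨ IsCanonical k K D) (P : Place k K) :
    ell (D - Finsupp.single P 1) < ell D := by
  have hP := Place.deg_eq_one hK P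
  rcases hD with hD | hD
  · have h1 := ell_eq_of_deg_ge hK (D := D) (by omega)
    have h2 := ell_eq_of_deg_ge hK (D := D - Finsupp.single P 1) (by
      rw [Divisor.deg_sub, Divisor.deg_single, hP]; push_cast; omega)
    rw [Divisor.deg_sub, Divisor.deg_single, hP] at h2
    push_cast at h2
    omega
  · have h1 := riemann_roch hK hD (D - Finsupp.single P 1)
    have h2 := ell_canonical hK hD
    have h3 := deg_canonical hK hD
    have e : D - (D - Finsupp.single P 1) = Finsupp.single P 1 := by abel
    rw [e, ell_single_one_of_pos_genus hK hg P, Divisor.deg_sub, Divisor.deg_single, hP, h3] at h1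
    push_cast at h1
    omega

end BPF

end Groth.Agent.Lib.Helper4.FF
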