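import Mathlib
import Groth.Agent.Lib.Helper4.FF.LLS

/-! # Chains of aspects (helper4) -/

namespace Groth.Agent.Lib.Helper4.FF

open FunFld WithZero

section Abstract

lemma chain_lower (n M c' : ℕ) (α β : ℕ → ℕ)
    (hnode : ∀ l, l < n → β l + α (l + 1) = M)
    (hinner : ∀ l, 0 < l → l < n → α l + β l ≤ M)
    (hstart : β 0 + c' ≤ M) :
    ∀ l, 0 < l → l ≤ n → c' ≤ α l := by
  intro l
  induction l with
  | zero => intro h; omega
  | succ m ih =>
    intro _ hm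
    rcases Nat.eq_zero_or_pos m with h0 | hpos
    · subst h0
      have := hnode 0 (by omega)
      omega
    · have h1 := ih hpos (by omega)
      have h2 := hinner m hpos (by omega)
      have h3 := hnode m (by omega)
      omega

end Abstract

section Chain

variable {k : Type*} [Field k] [IsAlgClosed k]

omit [IsAlgClosed k] in
lemma Svd_def {K : Type*} [Field K] [Algebra k K] (V : Submodule k K) (D : Divisor k K)
    (P : Place k K) (d : ℕ) :
    Svd V D P d = ∑ n ∈ Finset.range d, vd V D P ((n : ℤ) + 1) := rfl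

lemma Svd_two_point {K : Type*} [Field K] [Algebra k K] (hK : IsFunctionField k K)
    {V : Submodule k K} {D : Divisor k K} {r d : ℕ} (hG : IsGrd V D r d) {P Q : Place k K}
    (hPQ : P ≠ Q) : Svd V D P d + Svd V D Q d ≤ (r + 1) * d := by
  apply two_point_sum (vd V D P) (vd V D Q)
  intro n _
  exact hG.two_point hK hPQ (by omega)

theorem chain_weight_lower
    (n : ℕ) (U : Fin (n + 1) → Type*) [∀ l, Field (U l)] [∀ l, Algebra k (U l)]
    (hU : ∀ l, IsFunctionField k (U l))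
    (d r : ℕ) (D : ∀ l, Divisor k (U l)) (V : ∀ l, Submodule k (U l))
    (hG : ∀ l, IsGrd (V l) (D l) r d)
    (A B : ∀ l, Place k (U l))
    (hAB : ∀ l : Fin (n + 1), 0 < (l : ℕ) → (l : ℕ) < n → A l ≠ B l)
    (hcomp : ∀ (l : Fin n) (m : ℕ), m ≤ d + 1 →
      vd (V l.castSucc) (D l.castSucc) (B l.castSucc) (m : ℤ) +
        vd (V l.succ) (D l.succ) (A l.succ) ((d : ℤ) + 1 - m) = r + 1)
    (c' : ℕ) (hc : Svd (V 0) (D 0) (B 0) d + c' ≤ (r + 1) * d)
    (l : Fin (n + 1)) (hl : 0 < (l : ℕ)) : c' ≤ Svd (V l) (D l) (A l) d := by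
  let α : ℕ → ℕ := fun i => if h : i < n + 1 then Svd (V ⟨i, h⟩) (D ⟨i, h⟩) (A ⟨i, h⟩) d else 0
  let β : ℕ → ℕ := fun i => if h : i < n + 1 then Svd (V ⟨i, h⟩) (D ⟨i, h⟩) (B ⟨i, h⟩) d else 0
  have hα : ∀ (i : ℕ) (h : i < n + 1), α i = Svd (V ⟨i, h⟩) (D ⟨i, h⟩) (A ⟨i, h⟩) d :=
    fun i h => dif_pos h
  have hβ : ∀ (i : ℕ) (h : i < n + 1), β i = Svd (V ⟨i, h⟩) (D ⟨i, h⟩) (B ⟨i, h⟩) d :=
    fun i h => dif_pos h
  have key := chain_lower n ((r + 1) * d) c' α β ?_ ?_ ?_ l.1 hl (by have := l.2; omega)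
  · rw [hα l.1 l.2] at key
    exact key
  · intro i hi
    rw [hβ i (by omega), hα (i + 1) (by omega)]
    exact compat_sum (vd (V ⟨i, by omega⟩) (D ⟨i, by omega⟩) (B ⟨i, by omega⟩))
      (vd (V ⟨i + 1, by omega⟩) (D ⟨i + 1, by omega⟩) (A ⟨i + 1, by omega⟩))
      (fun m hm => hcomp ⟨i, hi⟩ m hm)
  · intro i hi0 hin
    rw [hα i (by omega), hβ i (by omega)]
    exact Svd_two_point (hU _) (hG _) (hAB ⟨i, by omega⟩ hi0 hin)
  · rw [hβ 0 (by omega)]
    exact hc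

end Chain

end Groth.Agent.Lib.Helper4.FF
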