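import Mathlib
import Groth.Agent.Lib.Helper4.FF.LLSChain

/-! # Genus zero: the cusp lemma (helper4) -/

namespace Groth.Agent.Lib.Helper4.FF

open FunFld WithZero

variable {k K : Type*} [Field k] [Field K] [Algebra k K]

section Basics

lemma const_of_div_eq_zero (hK : IsFunctionField k K) {t : K} (ht : t ≠ 0)
    (h : div k t = 0) : ∃ c : k, algebraMap k K c = t := by
  have : t ∈ L (0 : Divisor k K) := by
    intro R
    have h1 : R.ord t = 0 := by
      rw [← div_apply hK, h]; rfl
    rw [Place.val_eq_exp_neg_ord R ht, h1]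
    simp
  rw [L_zero hK, Submodule.mem_one] at this
  exact this

lemma div_pow (hK : IsFunctionField k K) (x : K) (m : ℕ) : div k (x ^ m) = m • div k x := by
  ext R
  rw [Finsupp.smul_apply, div_apply hK, div_apply hK, Place.ord_pow, nsmul_eq_mul]

lemma div_zero_eq (hK : IsFunctionField k K) : div k (0 : K) = 0 := by
  ext R
  rw [div_apply hK]
  simp [FunFld.Place.ord]

lemma div_div (hK : IsFunctionField k K) {y z : K} (hy : y ≠ 0) (hz : z ≠ 0) :
    div k (y / z) = div k y - div k z := by
  rw [div_eq_mul_inv, div_mul hK hy (inv_ne_zero hz), div_inv hK, sub_eq_add_neg]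

/-- if `s ∈ L(D - E)` is nonzero and `deg E = deg D` then `div s + D = E` -/
lemma div_add_eq_of_deg_eq (hK : IsFunctionField k K) {s : K} (hs0 : s ≠ 0) {D E : Divisor k K}
    (hs : s ∈ L (D - E)) (hdeg : E.deg = D.deg) : div k s + D = E := by
  have h1 := div_add_nonneg_of_mem_L hK hs0 hs
  have h2 : (div k s + (D - E)).deg ≤ 0 := by
    rw [Divisor.deg_add, deg_div hK, Divisor.deg_sub]; omega
  have h3 := Divisor.eq_zero_of_nonneg_of_deg_le hK h1 h2
  have : div k s + D = (div k s + (D - E)) + E := by abel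
  rw [this, h3, zero_add]

lemma single_apply_mul_deg_le {E : Divisor k K} (hE : 0 ≤ E) (Q : Place k K) :
    E Q * (Q.deg : ℤ) ≤ E.deg := by
  classical
  have h1 : (Finsupp.single Q (E Q) : Divisor k K) ≤ E := by
    intro R
    rw [Finsupp.single_apply]
    split_ifs with h
    · subst h; exact le_rfl
    · exact hE R
  have := Divisor.deg_mono h1
  rwa [Divisor.deg_single] at this

end Basics

section GenusZero

variable [IsAlgClosed k]

lemma exists_div_eq_sub (hK : IsFunctionField k K) (hg0 : genus k K = 0) (P P' : Place k K) :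
    ∃ x : K, x ≠ 0 ∧ div k x = Finsupp.single P 1 - Finsupp.single P' 1 := by
  have hdeg : (Finsupp.single P' 1 - Finsupp.single P 1 : Divisor k K).deg = 0 := by
    rw [Divisor.deg_sub, Divisor.deg_single, Divisor.deg_single, Place.deg_eq_one hK P,
      Place.deg_eq_one hK P']
    ring
  have h1 := ell_eq_of_deg_ge hK (D := (Finsupp.single P' 1 - Finsupp.single P 1 : Divisor k K))
    (by rw [hdeg, hg0]; norm_num)
  rw [hdeg, hg0] at h1
  have h2 : 0 < ell (Finsupp.single P' 1 - Finsupp.single P 1 : Divisor k K) := by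
    have : ((ell (Finsupp.single P' 1 - Finsupp.single P 1 : Divisor k K) : ℕ) : ℤ) = 1 := by
      rw [h1]; norm_num
    omega
  obtain ⟨x, hx, hx0⟩ := exists_ne_zero_of_ell_pos h2
  refine ⟨x, hx0, ?_⟩
  have h3 := div_add_nonneg_of_mem_L hK hx0 hx
  have h4 : (div k x + (Finsupp.single P' 1 - Finsupp.single P 1 : Divisor k K)).deg ≤ 0 := by
    rw [Divisor.deg_add, deg_div hK, hdeg]; norm_num
  have h5 := Divisor.eq_zero_of_nonneg_of_deg_le hK h3 h4
  have : div k x = (div k x + (Finsupp.single P' 1 - Finsupp.single P 1 : Divisor k K)) -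
      (Finsupp.single P' 1 - Finsupp.single P 1) := by abel
  rw [this, h5]; abel

/-- In characteristic zero `x^m - γ` has only simple zeros (for `div x = P - P'`, away from `P, P'`). -/
lemma val_pow_sub_const_ge [CharZero k] (hK : IsFunctionField k K) {x : K} {P P' Q : Place k K}
    (hx : div k x = Finsupp.single P 1 - Finsupp.single P' 1) (hPP' : P ≠ P') (hQ : Q ≠ P)
    (hQ' : Q ≠ P') {m : ℕ} (hm : 0 < m) {γ : k} (hγ : γ ≠ 0) :
    exp (-1 : ℤ) ≤ Q.1 (x ^ m - algebraMap k K γ) := by
  classical
  have hord : ∀ R : Place k K, R.ord x = (if P = R then 1 else 0) - (if P' = R then 1 else 0) := by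
    intro R
    have := DFunLike.congr_fun hx R
    rw [Finsupp.sub_apply, Finsupp.single_apply, Finsupp.single_apply, div_apply hK] at this
    exact this
  have hx0 : x ≠ 0 := by
    rintro rfl
    have := hord P
    rw [if_pos rfl, if_neg (Ne.symm hPP')] at this
    simp [FunFld.Place.ord] at this
  have hxQ : Q.1 x = 1 := by
    rw [Place.val_eq_exp_neg_ord Q hx0, hord Q, if_neg (Ne.symm hQ), if_neg (Ne.symm hQ')]
    simp
  obtain ⟨ξ, hξ⟩ := Place.exists_const_sub_lt Q (Place.deg_eq_one hK Q) (le_of_eq hxQ)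
  set z : K := x - algebraMap k K ξ with hz
  have hxk : x ∉ Set.range (algebraMap k K) := by
    rintro ⟨c, rfl⟩
    have := hord P
    rw [Place.ord_k, if_pos rfl, if_neg (Ne.symm hPP')] at this
    omega
  have hzk : z ∉ Set.range (algebraMap k K) := by
    rintro ⟨c, hc⟩
    apply hxk
    refine ⟨c + ξ, ?_⟩
    rw [map_add, hc, hz]; ring
  have hz0 : z ≠ 0 := by
    intro h0
    exact hzk ⟨0, by rw [map_zero, h0]⟩
  have hzL : z ∈ L (Finsupp.single P' 1 : Divisor k K) := by
    apply Submodule.sub_mem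
    · intro R
      rw [Place.val_eq_exp_neg_ord R hx0, exp_le_exp, hord R, Finsupp.single_apply]
      split_ifs <;> omega
    · intro R
      refine (Place.val_k_le R ξ).trans ?_
      rw [← exp_zero, exp_le_exp, Finsupp.single_apply]
      split_ifs <;> omega
  have htop := adjoin_eq_top_of_mem_L_single hK (Place.deg_eq_one hK P') hzL hzk
  have hzt := transcendental_of_notMem hK hzk
  have hdegz : (poleDiv z⁻¹ : Divisor k K).deg = 1 := by
    rw [deg_zeroDiv hK hzt, htop, IntermediateField.finrank_top]; rfl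
  have hordz : Q.ord z = 1 := by
    have h1 := single_apply_mul_deg_le (poleDiv_nonneg z⁻¹) Q
    rw [hdegz, poleDiv_apply hK, Place.ord_inv, neg_neg, Place.deg_eq_one hK Q] at h1
    have h2 : 0 < Q.ord z := (Place.ord_pos_iff Q hz0).mpr hξ
    have h3 : Q.ord z ≤ max (Q.ord z) 0 := le_max_left _ _
    push_cast at h1
    omega
  have hzv : Q.1 z = exp (-1 : ℤ) := by
    rw [Place.val_eq_exp_neg_ord Q hz0, hordz]
  -- binomial expansion in the valuation ring
  let x' : Q.O := ⟨x, (Place.mem_O_iff Q).mpr (le_of_eq hxQ)⟩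
  let ξ' : Q.O := ⟨algebraMap k K ξ, (Place.mem_O_iff Q).mpr (Place.val_k_le Q ξ)⟩
  obtain ⟨w, hw⟩ := Polynomial.binomExpansion (Polynomial.X ^ m : Polynomial Q.O) ξ' (x' - ξ')
  simp only [Polynomial.eval_pow, Polynomial.eval_X, Polynomial.derivative_X_pow,
    Polynomial.eval_mul, Polynomial.eval_C, add_sub_cancel] at hw
  have hw' : x ^ m = (algebraMap k K ξ) ^ m + (m : K) * (algebraMap k K ξ) ^ (m - 1) * z +
      (w : K) * z ^ 2 := by
    have := congrArg (fun y : Q.O => (y : K)) hw
    simpa [x', ξ', hz] using this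
  have hwv : Q.1 (w : K) ≤ 1 := (Place.mem_O_iff Q).mp w.2
  have hwz : Q.1 ((w : K) * z) < 1 := by
    rw [map_mul]
    calc Q.1 (w : K) * Q.1 z ≤ 1 * Q.1 z := mul_le_mul_left hwv _
      _ = Q.1 z := one_mul _
      _ < 1 := hξ
  by_cases hc : ξ ^ m = γ
  · -- the constant term vanishes
    have hξ0 : ξ ≠ 0 := by
      rintro rfl
      rw [zero_pow (by omega)] at hc
      exact hγ hc.symm
    have hcoef : (m : k) * ξ ^ (m - 1) ≠ 0 :=
      mul_ne_zero (by exact_mod_cast (by omega : m ≠ 0)) (pow_ne_zero _ hξ0)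
    have e1 : x ^ m - algebraMap k K γ =
        z * (algebraMap k K ((m : k) * ξ ^ (m - 1)) + (w : K) * z) := by
      rw [hw', ← hc]
      simp only [map_mul, map_pow, map_natCast]
      ring
    have h1 : Q.1 (algebraMap k K ((m : k) * ξ ^ (m - 1)) + (w : K) * z) = 1 := by
      have := Valuation.map_add_eq_of_lt_left Q.1
        (x := algebraMap k K ((m : k) * ξ ^ (m - 1))) (y := (w : K) * z)
        (by rw [Place.val_k Q hcoef]; exact hwz)
      rw [this, Place.val_k Q hcoef]
    rw [e1, map_mul, h1, mul_one, hzv]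
  · -- the constant term does not vanish
    have hcoef : ξ ^ m - γ ≠ 0 := sub_ne_zero.mpr hc
    have e1 : x ^ m - algebraMap k K γ = algebraMap k K (ξ ^ m - γ) +
        z * ((m : K) * (algebraMap k K ξ) ^ (m - 1) + (w : K) * z) := by
      rw [hw']
      simp only [map_sub, map_pow]
      ring
    have h2 : Q.1 ((m : K) * (algebraMap k K ξ) ^ (m - 1) + (w : K) * z) ≤ 1 := by
      refine (Q.1.map_add _ _).trans (max_le ?_ (le_of_lt hwz))
      have : (m : K) * (algebraMap k K ξ) ^ (m - 1) = algebraMap k K ((m : k) * ξ ^ (m - 1)) := by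
        simp
      rw [this]
      exact Place.val_k_le Q _
    have h3 : Q.1 (z * ((m : K) * (algebraMap k K ξ) ^ (m - 1) + (w : K) * z)) < 1 := by
      rw [map_mul]
      calc Q.1 z * _ ≤ Q.1 z * 1 := mul_le_mul_right h2 _
        _ = Q.1 z := mul_one _
        _ < 1 := hξ
    have h4 := Valuation.map_add_eq_of_lt_left Q.1
      (x := algebraMap k K (ξ ^ m - γ))
      (y := z * ((m : K) * (algebraMap k K ξ) ^ (m - 1) + (w : K) * z))
      (by rw [Place.val_k Q hcoef]; exact h3)
    rw [e1, h4, Place.val_k Q hcoef]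
    exact le_of_lt (lt_one_iff_le_exp_neg_one.mpr le_rfl)

end GenusZero

section CuspUnique

variable [IsAlgClosed k] [CharZero k]

/-- auxiliary: the case `0 < (div (g/f)) P` leads to a contradiction -/
lemma cusp_unique_aux (hK : IsFunctionField k K) (hg0 : genus k K = 0)
    {V : Submodule k K} {D : Divisor k K} {r d : ℕ} (hG : IsGrd V D r d)
    {Q : Place k K} (hcusp : r ≤ vd V D Q 2) {P P' : Place k K} (hPP' : P ≠ P')
    (hP : P ≠ Q) (hP' : P' ≠ Q)
    {f g : K} (hf : f ∈ V) (hg : g ∈ V) (hf0 : f ≠ 0) (hg0' : g ≠ 0)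
    (hfs : (div k f + D) Q = 0)
    {m : ℕ} (hm : 0 < m)
    (hdt : div k (g / f) = (m : ℤ) • (Finsupp.single P 1 - Finsupp.single P' 1 : Divisor k K)) :
    False := by
  classical
  have hfin := hG.finite hK
  obtain ⟨x, hx0, hx⟩ := exists_div_eq_sub hK hg0 P P'
  set t : K := g / f with ht
  have ht0 : t ≠ 0 := div_ne_zero hg0' hf0
  -- `t = c x^m`
  have hxm0 : x ^ m ≠ 0 := pow_ne_zero _ hx0
  obtain ⟨c', hc'⟩ := const_of_div_eq_zero hK (div_ne_zero ht0 hxm0) (by
    rw [div_div hK ht0 hxm0, hdt, div_pow hK, hx, natCast_zsmul, sub_self])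
  have hc'0 : c' ≠ 0 := by
    rintro rfl
    rw [map_zero] at hc'
    exact div_ne_zero ht0 hxm0 hc'.symm
  have htx : t = algebraMap k K c' * x ^ m := by
    rw [hc']; field_simp
  -- `f, g` independent
  have hindep : ∀ a b : k, a • f + b • g = 0 → a = 0 ∧ b = 0 := by
    intro a b hab
    by_cases hb : b = 0
    · subst hb
      rw [zero_smul, add_zero] at hab
      exact ⟨(smul_eq_zero.mp hab).resolve_right hf0, rfl⟩
    · exfalso
      -- then `t` is constant, so `div t = 0`, contradiction
      have h1 : g = (-a / b) • f := by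
        have : b • g = -(a • f) := eq_neg_of_add_eq_zero_right hab
        calc g = b⁻¹ • (b • g) := by rw [smul_smul, inv_mul_cancel₀ hb, one_smul]
          _ = b⁻¹ • (-(a • f)) := by rw [this]
          _ = (-a / b) • f := by rw [smul_neg, smul_smul, ← neg_smul]; congr 1; ring
      have h2 : t = algebraMap k K (-a / b) := by
        rw [ht, h1, Algebra.smul_def]; field_simp
      have h3 : div k t = 0 := by
        rw [h2]; exact div_eq_zero_of_mem_range hK ⟨_, rfl⟩
      rw [hdt] at h3
      have h4 := DFunLike.congr_fun h3 P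
      rw [Finsupp.smul_apply, Finsupp.sub_apply, Finsupp.single_eq_same, Finsupp.single_apply,
        if_neg (Ne.symm hPP')] at h4
      simp at h4
      omega
  have hli : LinearIndependent k ![f, g] := by
    rw [LinearIndependent.pair_iff]
    exact hindep
  have hrange : Set.range ![f, g] = {f, g} := by
    simp [Matrix.range_cons]
    exact Set.pair_comm _ _
  set W : Submodule k K := Submodule.span k {f, g} with hW
  have hWd : Module.finrank k W = 2 := by
    rw [hW, ← hrange, finrank_span_eq_card hli]; simp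
  have hWV : W ≤ V := by
    rw [hW, Submodule.span_le]
    rintro y hy
    rcases hy with rfl | rfl
    · exact hf
    · exact hg
  set V₂ : Submodule k K := V ⊓ L (D - Finsupp.single Q 2) with hV₂
  have hfW : Module.Finite k W := Module.Finite.of_injective (Submodule.inclusion hWV)
    (Submodule.inclusion_injective _)
  have hfV₂ := finite_inf_L hK V (D - Finsupp.single Q 2)
  have hinf : W ⊓ V₂ ≠ ⊥ := by
    intro hbot
    have h1 := Submodule.finrank_sup_add_finrank_inf_eq W V₂
    rw [hbot, finrank_bot, add_zero, hWd] at h1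
    have h2 : Module.finrank k ↥(W ⊔ V₂) ≤ Module.finrank k V :=
      Submodule.finrank_mono (sup_le hWV inf_le_left)
    rw [hG.rank] at h2
    have h3 : r ≤ Module.finrank k V₂ := hcusp
    omega
  obtain ⟨h, hh, hh0⟩ := Submodule.exists_mem_ne_zero_of_ne_bot hinf
  obtain ⟨hhW, hhV₂⟩ := Submodule.mem_inf.mp hh
  rw [hW, Submodule.mem_span_pair] at hhW
  obtain ⟨α, β, hαβ⟩ := hhW
  -- valuation of `h / f` at `Q`
  have hordf : Q.ord f = -(D Q) := by
    have := hfs
    rw [Finsupp.add_apply, div_apply hK] at this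
    omega
  have hQf : Q.1 f = exp (D Q) := by
    rw [Place.val_eq_exp_neg_ord Q hf0, hordf, neg_neg]
  have hQh : Q.1 h ≤ exp (D Q - 2) := by
    have := (Submodule.mem_inf.mp hhV₂).2 Q
    rwa [Finsupp.sub_apply, Finsupp.single_eq_same] at this
  have hu : Q.1 (h / f) ≤ exp (-2 : ℤ) := by
    rw [map_div₀, hQf, div_le_iff₀ (by exact exp_pos)]
    calc Q.1 h ≤ exp (D Q - 2) := hQh
      _ = exp (-2 : ℤ) * exp (D Q) := by rw [← exp_add]; congr 1; ring
  have hhf : h / f = algebraMap k K α + algebraMap k K β * t := by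
    rw [← hαβ, ht, Algebra.smul_def, Algebra.smul_def]; field_simp
  have hlt : (exp (-2 : ℤ) : WithZero (Multiplicative ℤ)) < exp (-1 : ℤ) := by
    rw [exp_lt_exp]; norm_num
  have hlt1 : (exp (-2 : ℤ) : WithZero (Multiplicative ℤ)) < 1 := by
    rw [← exp_zero, exp_lt_exp]; norm_num
  -- `x` is a unit at `Q`
  have hxQ : Q.1 x = 1 := by
    have h1 : Q.ord x = 0 := by
      rw [← div_apply hK, hx, Finsupp.sub_apply, Finsupp.single_apply, Finsupp.single_apply,
        if_neg hP, if_neg hP']
      norm_num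
    rw [Place.val_eq_exp_neg_ord Q hx0, h1]; simp
  by_cases hβ : β = 0
  · subst hβ
    rw [map_zero, zero_mul, add_zero] at hhf
    have hα : α ≠ 0 := by
      rintro rfl
      rw [zero_smul, zero_smul, add_zero] at hαβ
      exact hh0 hαβ.symm
    rw [hhf, Place.val_k Q hα] at hu
    exact absurd hu (not_le.mpr hlt1)
  · by_cases hα : α = 0
    · subst hα
      rw [map_zero, zero_add, htx] at hhf
      rw [hhf, map_mul, map_mul, map_pow, hxQ, one_pow, mul_one,
        Place.val_k Q hβ, Place.val_k Q hc'0, one_mul] at hu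
      exact absurd hu (not_le.mpr hlt1)
    · set γ : k := -α / (β * c') with hγ
      have hγ0 : γ ≠ 0 := div_ne_zero (neg_ne_zero.mpr hα) (mul_ne_zero hβ hc'0)
      have hfac : h / f = algebraMap k K (β * c') * (x ^ m - algebraMap k K γ) := by
        rw [hhf, htx, hγ, map_div₀, map_neg, map_mul]
        have h1 : algebraMap k K β ≠ 0 := by
          rw [Ne, map_eq_zero_iff _ (algebraMap k K).injective]; exact hβ
        have h2 : algebraMap k K c' ≠ 0 := by
          rw [Ne, map_eq_zero_iff _ (algebraMap k K).injective]; exact hc'0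
        field_simp
        ring
      have hCL := val_pow_sub_const_ge hK hx hPP' (Ne.symm hP) (Ne.symm hP') hm hγ0
      rw [hfac, map_mul, Place.val_k Q (mul_ne_zero hβ hc'0), one_mul] at hu
      exact absurd (hCL.trans hu) (not_le.mpr hlt)


/-- **Uniqueness of sections vanishing only at two points, given a cusp at a third** (genus `0`). -/
theorem cusp_unique (hK : IsFunctionField k K) (hg0 : genus k K = 0)
    {V : Submodule k K} {D : Divisor k K} {r d : ℕ} (hG : IsGrd V D r d)
    {Q : Place k K} (hcusp : r ≤ vd V D Q 2) {P P' : Place k K}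
    (hP : P ≠ Q) (hP' : P' ≠ Q)
    {f g : K} (hf : f ∈ V) (hg : g ∈ V) (hf0 : f ≠ 0) (hg0' : g ≠ 0)
    (hfs : ∀ R : Place k K, R ≠ P → R ≠ P' → (div k f + D) R = 0)
    (hgs : ∀ R : Place k K, R ≠ P → R ≠ P' → (div k g + D) R = 0) :
    ∃ c : k, g = c • f := by
  classical
  set t : K := g / f with ht
  have ht0 : t ≠ 0 := div_ne_zero hg0' hf0
  have hdt : div k t = div k g - div k f := div_div hK hg0' hf0
  have hsupp : ∀ R : Place k K, R ≠ P → R ≠ P' → div k t R = 0 := by
    intro R h1 h2
    have e1 := hfs R h1 h2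
    have e2 := hgs R h1 h2
    rw [Finsupp.add_apply] at e1 e2
    rw [hdt, Finsupp.sub_apply]
    omega
  have hconst : div k t = 0 → ∃ c : k, g = c • f := by
    intro h0
    obtain ⟨c, hc⟩ := const_of_div_eq_zero hK ht0 h0
    refine ⟨c, ?_⟩
    rw [Algebra.smul_def, hc, ht]; field_simp
  have hdeg : (div k t).deg = 0 := deg_div hK t
  have hS : (div k t).support ⊆ {P, P'} := by
    intro R hR
    rw [Finsupp.mem_support_iff] at hR
    by_contra hne
    simp only [Finset.mem_insert, Finset.mem_singleton, not_or] at hne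
    exact hR (hsupp R hne.1 hne.2)
  rw [Divisor.deg_eq_sum _ _ hS] at hdeg
  by_cases hPP' : P = P'
  · subst hPP'
    apply hconst
    simp only [Finset.mem_singleton, Finset.insert_eq_of_mem, Finset.sum_singleton,
      Place.deg_eq_one hK P] at hdeg
    ext R
    by_cases hR : R = P
    · subst hR
      simpa using hdeg
    · exact hsupp R hR hR
  · rw [Finset.sum_pair hPP', Place.deg_eq_one hK P, Place.deg_eq_one hK P'] at hdeg
    have hform : div k t = (div k t P) • (Finsupp.single P 1 - Finsupp.single P' 1 : Divisor k K) := by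
      ext R
      rw [Finsupp.smul_apply, Finsupp.sub_apply, Finsupp.single_apply, Finsupp.single_apply]
      by_cases h1 : R = P
      · subst h1
        rw [if_pos rfl, if_neg (Ne.symm hPP')]
        simp
      · by_cases h2 : R = P'
        · subst h2
          rw [if_neg (Ne.symm h1), if_pos rfl]
          simp only [Nat.cast_one, mul_one] at hdeg
          simp only [zero_sub, smul_eq_mul, mul_neg, mul_one]
          omega
        · rw [if_neg (Ne.symm h1), if_neg (Ne.symm h2), hsupp R h1 h2]
          simp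
    rcases lt_trichotomy (div k t P) 0 with hneg | hzero | hpos
    · exfalso
      have hm : 0 < (-(div k t P)).toNat := by omega
      refine cusp_unique_aux hK hg0 hG hcusp (Ne.symm hPP') hP' hP hf hg hf0 hg0'
        (hfs Q (Ne.symm hP) (Ne.symm hP')) hm ?_
      rw [← ht, Int.toNat_of_nonneg (by omega)]
      conv_lhs => rw [hform]
      rw [neg_smul, ← smul_neg, neg_sub]
    · apply hconst
      rw [hform, hzero, zero_smul]
    · exfalso
      have hm : 0 < (div k t P).toNat := by omega
      refine cusp_unique_aux hK hg0 hG hcusp hPP' hP hP' hf hg hf0 hg0'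
        (hfs Q (Ne.symm hP) (Ne.symm hP')) hm ?_
      rw [← ht, Int.toNat_of_nonneg (by omega)]
      exact hform

end CuspUnique

end Groth.Agent.Lib.Helper4.FF
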