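import Mathlib
import Groth.Agent.Lib.Helper4.FF.LLSCusp

/-! # Sections with prescribed divisors; three-point bound (helper4) -/

namespace Groth.Agent.Lib.Helper4.FF

open FunFld WithZero

variable {k K : Type*} [Field k] [Field K] [Algebra k K]

section Sections

lemma mem_L_sub_sub {D : Divisor k K} {P Q : Place k K} (hPQ : P ≠ Q) {a b : ℤ} {x : K}
    (hx1 : x ∈ L (D - Finsupp.single P a)) (hx2 : x ∈ L (D - Finsupp.single Q b)) :
    x ∈ L (D - (Finsupp.single P a + Finsupp.single Q b)) := by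
  classical
  intro R
  by_cases hR : R = Q
  · subst hR
    refine (hx2 R).trans (exp_le_exp.mpr ?_)
    rw [Finsupp.sub_apply, Finsupp.sub_apply, Finsupp.add_apply, Finsupp.single_eq_same,
      Finsupp.single_apply, if_neg hPQ]
    omega
  · refine (hx1 R).trans (exp_le_exp.mpr ?_)
    rw [Finsupp.sub_apply, Finsupp.sub_apply, Finsupp.add_apply,
      Finsupp.single_apply (a := Q), if_neg (Ne.symm hR)]
    omega

variable [IsAlgClosed k] {V : Submodule k K} {D : Divisor k K} {r d : ℕ}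

lemma IsGrd.diag_le (hK : IsFunctionField k K) (hG : IsGrd V D r d) {P Q : Place k K}
    (hPQ : P ≠ Q) (n : ℕ) : vd V D P (n : ℤ) + vd V D Q ((d : ℤ) - n) ≤ r + 2 := by
  have h1 := IsGrd.vd_succ_le (V := V) (D := D) hK Q ((d : ℤ) - n)
  have h2 := hG.two_point hK hPQ (a := (n : ℤ)) (b := (d : ℤ) - n + 1) (by omega)
  omega

lemma IsGrd.exists_section (hK : IsFunctionField k K) (hG : IsGrd V D r d) {P Q : Place k K}
    (hPQ : P ≠ Q) {n : ℕ} (_hn : n ≤ d)
    (h : r + 2 ≤ vd V D P (n : ℤ) + vd V D Q ((d : ℤ) - n)) :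
    ∃ s ∈ V, s ≠ 0 ∧
      div k s + D = Finsupp.single P (n : ℤ) + Finsupp.single Q ((d : ℤ) - n) := by
  have hfin := hG.finite hK
  set X := V ⊓ L (D - Finsupp.single P (n : ℤ)) with hX
  set Y := V ⊓ L (D - Finsupp.single Q ((d : ℤ) - n)) with hY
  have hfX := finite_inf_L hK V (D - Finsupp.single P (n : ℤ))
  have hfY := finite_inf_L hK V (D - Finsupp.single Q ((d : ℤ) - n))
  have hinf : X ⊓ Y ≠ ⊥ := by
    intro hbot
    have h1 := Submodule.finrank_sup_add_finrank_inf_eq X Y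
    rw [hbot, finrank_bot, add_zero] at h1
    have h2 : Module.finrank k ↥(X ⊔ Y) ≤ Module.finrank k V :=
      Submodule.finrank_mono (sup_le inf_le_left inf_le_left)
    rw [hG.rank] at h2
    have h3 : r + 2 ≤ Module.finrank k X + Module.finrank k Y := h
    omega
  obtain ⟨s, hs, hs0⟩ := Submodule.exists_mem_ne_zero_of_ne_bot hinf
  obtain ⟨hsX, hsY⟩ := Submodule.mem_inf.mp hs
  obtain ⟨hsV, hs1⟩ := Submodule.mem_inf.mp hsX
  obtain ⟨-, hs2⟩ := Submodule.mem_inf.mp hsY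
  refine ⟨s, hsV, hs0, ?_⟩
  apply div_add_eq_of_deg_eq hK hs0 (mem_L_sub_sub hPQ hs1 hs2)
  rw [Divisor.deg_add, Divisor.deg_single, Divisor.deg_single, Place.deg_eq_one hK P,
    Place.deg_eq_one hK Q, hG.deg]
  push_cast
  ring

omit [IsAlgClosed k] in
/-- the diagonal sum in terms of the weight sums -/
lemma IsGrd.diag_sum_eq (hG : IsGrd V D r d) (P Q : Place k K) :
    ∑ n ∈ Finset.range (d + 1), (vd V D P (n : ℤ) + vd V D Q ((d : ℤ) - n)) =
      Svd V D P d + Svd V D Q d + 2 * (r + 1) := by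
  rw [diag_sum d (vd V D P) (vd V D Q), hG.vd_zero P, hG.vd_zero Q, Svd_def, Svd_def]
  ring

/-- S18177: large weights at two points force a torsion relation -/
theorem IsGrd.exists_torsion (hK : IsFunctionField k K) (hG : IsGrd V D r d) {P Q : Place k K}
    (hPQ : P ≠ Q) (hw : (r + 1) * d + 1 ≤ Svd V D P d + Svd V D Q d + r) :
    ∃ m : ℕ, 1 ≤ m ∧ m ≤ d ∧ ∃ h : K, h ≠ 0 ∧
      div k h = Finsupp.single Q (m : ℤ) - Finsupp.single P (m : ℤ) := by
  classical
  set f : ℕ → ℕ := fun n => vd V D P (n : ℤ) + vd V D Q ((d : ℤ) - n) with hf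
  have h1 := sum_le_card_max d (r + 1) f (fun n _ => hG.diag_le hK hPQ n)
  have h2 : ∑ n ∈ Finset.range (d + 1), f n = Svd V D P d + Svd V D Q d + 2 * (r + 1) :=
    hG.diag_sum_eq P Q
  have h3 : 2 ≤ ((Finset.range (d + 1)).filter fun n => f n = r + 1 + 1).card := by
    rw [h2] at h1
    have : (d + 1) * (r + 1) = (r + 1) * d + (r + 1) := by ring
    omega
  obtain ⟨n₁, hn₁, n₂, hn₂, hne⟩ := Finset.one_lt_card.mp h3
  rw [Finset.mem_filter, Finset.mem_range] at hn₁ hn₂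
  -- WLOG `n₁ < n₂`
  have key : ∀ a b : ℕ, a < b → b ≤ d → f a = r + 2 → f b = r + 2 →
      ∃ m : ℕ, 1 ≤ m ∧ m ≤ d ∧ ∃ h : K, h ≠ 0 ∧
        div k h = Finsupp.single Q (m : ℤ) - Finsupp.single P (m : ℤ) := by
    intro a b hab hbd hfa hfb
    obtain ⟨s₁, -, hs₁0, hs₁⟩ := hG.exists_section hK hPQ (n := a) (by omega) (le_of_eq hfa.symm)
    obtain ⟨s₂, -, hs₂0, hs₂⟩ := hG.exists_section hK hPQ (n := b) hbd (le_of_eq hfb.symm)
    refine ⟨b - a, by omega, by omega, s₁ / s₂, div_ne_zero hs₁0 hs₂0, ?_⟩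
    rw [div_div hK hs₁0 hs₂0]
    have e1 : div k s₁ = Finsupp.single P (a : ℤ) + Finsupp.single Q ((d : ℤ) - a) - D := by
      rw [← hs₁]; abel
    have e2 : div k s₂ = Finsupp.single P (b : ℤ) + Finsupp.single Q ((d : ℤ) - b) - D := by
      rw [← hs₂]; abel
    rw [e1, e2]
    have e3 : ((b - a : ℕ) : ℤ) = (b : ℤ) - a := by omega
    rw [e3]
    ext R
    simp only [Finsupp.sub_apply, Finsupp.add_apply, Finsupp.single_apply]
    split_ifs <;> ring
  rcases lt_or_gt_of_ne hne with hlt | hgt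
  · exact key n₁ n₂ hlt (by omega) hn₁.2 hn₂.2
  · exact key n₂ n₁ hgt (by omega) hn₂.2 hn₁.2

/-- **three-point bound**: with a cusp at a third point (genus `0`, characteristic `0`). -/
theorem IsGrd.three_point [CharZero k] (hK : IsFunctionField k K) (hg0 : genus k K = 0)
    (hG : IsGrd V D r d) {A B Q : Place k K} (hAB : A ≠ B) (hQA : Q ≠ A) (hQB : Q ≠ B)
    (hcusp : r ≤ vd V D Q 2) : Svd V D A d + Svd V D B d + r ≤ (r + 1) * d := by
  classical
  set f : ℕ → ℕ := fun n => vd V D A (n : ℤ) + vd V D B ((d : ℤ) - n) with hf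
  have h1 := sum_le_card_max d (r + 1) f (fun n _ => hG.diag_le hK hAB n)
  have h2 : ∑ n ∈ Finset.range (d + 1), f n = Svd V D A d + Svd V D B d + 2 * (r + 1) :=
    hG.diag_sum_eq A B
  have h3 : ((Finset.range (d + 1)).filter fun n => f n = r + 1 + 1).card ≤ 1 := by
    rw [Finset.card_le_one]
    intro n₁ hn₁ n₂ hn₂
    rw [Finset.mem_filter, Finset.mem_range] at hn₁ hn₂
    obtain ⟨s₁, hs₁V, hs₁0, hs₁⟩ := hG.exists_section hK hAB (n := n₁) (by omega)
      (le_of_eq hn₁.2.symm)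
    obtain ⟨s₂, hs₂V, hs₂0, hs₂⟩ := hG.exists_section hK hAB (n := n₂) (by omega)
      (le_of_eq hn₂.2.symm)
    have hsupp : ∀ (n : ℕ) (R : Place k K), R ≠ A → R ≠ B →
        (Finsupp.single A (n : ℤ) + Finsupp.single B ((d : ℤ) - n) : Divisor k K) R = 0 := by
      intro n R hRA hRB
      rw [Finsupp.add_apply, Finsupp.single_apply, Finsupp.single_apply, if_neg (Ne.symm hRA),
        if_neg (Ne.symm hRB), add_zero]
    obtain ⟨c, hc⟩ := cusp_unique hK hg0 hG hcusp (Ne.symm hQA) (Ne.symm hQB) hs₁V hs₂V hs₁0 hs₂0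
      (fun R hRA hRB => by rw [hs₁]; exact hsupp n₁ R hRA hRB)
      (fun R hRA hRB => by rw [hs₂]; exact hsupp n₂ R hRA hRB)
    have hc0 : c ≠ 0 := by
      rintro rfl
      rw [zero_smul] at hc
      exact hs₂0 hc
    have hdiv : div k s₂ = div k s₁ := by
      rw [hc, Algebra.smul_def, div_mul hK (by
        rw [Ne, map_eq_zero_iff _ (algebraMap k K).injective]; exact hc0) hs₁0,
        div_eq_zero_of_mem_range hK ⟨c, rfl⟩, zero_add]
    have : (Finsupp.single A (n₁ : ℤ) + Finsupp.single B ((d : ℤ) - n₁) : Divisor k K) =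
        Finsupp.single A (n₂ : ℤ) + Finsupp.single B ((d : ℤ) - n₂) := by
      rw [← hs₁, ← hs₂, hdiv]
    have := DFunLike.congr_fun this A
    simp only [Finsupp.add_apply, Finsupp.single_eq_same, Finsupp.single_apply,
      if_neg (Ne.symm hAB), add_zero] at this
    omega
  rw [h2] at h1
  have : (d + 1) * (r + 1) = (r + 1) * d + (r + 1) := by ring
  omega

end Sections

end Groth.Agent.Lib.Helper4.FF
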