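import Mathlib
import Groth.Agent.Lib.Helper4.FF.LLSThree

/-! # Chains ending in a curve of positive genus (helper4) -/

namespace Groth.Agent.Lib.Helper4.FF

open FunFld WithZero

section PosGenus

variable {k K : Type*} [Field k] [Field K] [Algebra k K] [IsAlgClosed k]
  {V : Submodule k K} {D : Divisor k K} {r d : ℕ}

/-- on a curve of positive genus at most one member (up to scalars) vanishes to order `≥ d-1` -/
lemma IsGrd.vd_le_one_of_pos_genus (hK : IsFunctionField k K) (hg : 0 < genus k K)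
    (hG : IsGrd V D r d) (A : Place k K) : vd V D A ((d : ℤ) - 1) ≤ 1 := by
  unfold vd
  set X := V ⊓ L (D - Finsupp.single A ((d : ℤ) - 1)) with hX
  by_cases hbot : X = ⊥
  · rw [hbot, finrank_bot]; exact Nat.zero_le _
  obtain ⟨s, hs, hs0⟩ := Submodule.exists_mem_ne_zero_of_ne_bot hbot
  -- the residual place of a nonzero member
  have hres : ∀ w ∈ X, w ≠ 0 → ∃ R : Place k K,
      div k w + (D - Finsupp.single A ((d : ℤ) - 1)) = Finsupp.single R 1 := by
    intro w hw hw0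
    have h1 := div_add_nonneg_of_mem_L hK hw0 (Submodule.mem_inf.mp hw).2
    have h2 : (div k w + (D - Finsupp.single A ((d : ℤ) - 1))).deg = 1 := by
      rw [Divisor.deg_add, deg_div hK, Divisor.deg_sub, Divisor.deg_single, hG.deg,
        Place.deg_eq_one hK A]
      push_cast; ring
    obtain ⟨R, -, hR⟩ := Divisor.eq_single_of_deg_eq_one hK h1 h2
    exact ⟨R, hR⟩
  obtain ⟨Rs, hRs⟩ := hres s hs hs0
  apply finrank_le_one (⟨s, hs⟩ : X)
  rintro ⟨w, hw⟩
  by_cases hw0 : w = 0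
  · subst hw0
    exact ⟨0, by rw [zero_smul]; rfl⟩
  obtain ⟨Rw, hRw⟩ := hres w hw hw0
  have hdiv : (Finsupp.single Rw 1 - Finsupp.single Rs 1 : Divisor k K) = div k (w / s) := by
    rw [div_div hK hw0 hs0, ← hRw, ← hRs]; abel
  have hRR : Rw = Rs := place_eq_of_div hK hg (Place.deg_eq_one hK Rw) (Place.deg_eq_one hK Rs)
    (div_ne_zero hw0 hs0) hdiv
  rw [hRR, sub_self] at hdiv
  obtain ⟨c, hc⟩ := const_of_div_eq_zero hK (div_ne_zero hw0 hs0) hdiv.symm
  refine ⟨c, ?_⟩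
  apply Subtype.ext
  change c • s = w
  rw [Algebra.smul_def, hc]; field_simp

end PosGenus

section ChainCusp

variable {k : Type*} [Field k] [IsAlgClosed k]

/-- S18174 -/
theorem chain_cusp_Y
    {KY : Type*} [Field KY] [Algebra k KY] (hKY : IsFunctionField k KY)
    (n : ℕ) (hn : 0 < n)
    (W : Fin n → Type*) [∀ j, Field (W j)] [∀ j, Algebra k (W j)]
    (hW : ∀ j, IsFunctionField k (W j))
    (hpos : ∀ j : Fin n, (j : ℕ) + 1 = n → 0 < genus k (W j))
    (d r : ℕ) (DY : Divisor k KY) (VY : Submodule k KY) (hGY : IsGrd VY DY r d)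
    (D : ∀ j, Divisor k (W j)) (V : ∀ j, Submodule k (W j)) (hG : ∀ j, IsGrd (V j) (D j) r d)
    (P : Place k KY) (A B : ∀ j, Place k (W j))
    (hAB : ∀ j : Fin n, (j : ℕ) + 1 < n → A j ≠ B j)
    (hcomp0 : ∀ m : ℕ, m ≤ d + 1 →
      vd VY DY P (m : ℤ) + vd (V ⟨0, hn⟩) (D ⟨0, hn⟩) (A ⟨0, hn⟩) ((d : ℤ) + 1 - m) = r + 1)
    (hcomp : ∀ (j : Fin n) (hj : (j : ℕ) + 1 < n) (m : ℕ), m ≤ d + 1 →
      vd (V j) (D j) (B j) (m : ℤ) +
        vd (V ⟨(j : ℕ) + 1, hj⟩) (D ⟨(j : ℕ) + 1, hj⟩) (A ⟨(j : ℕ) + 1, hj⟩) ((d : ℤ) + 1 - m) =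
          r + 1) :
    r ≤ vd VY DY P 2 := by
  rcases Nat.eq_zero_or_pos d with hd0 | hdpos
  · have := hGY.r_le_d hKY P
    omega
  have claim : ∀ i : ℕ, ∀ j : Fin n, (j : ℕ) + i + 1 = n →
      vd (V j) (D j) (A j) ((d : ℤ) - 1) ≤ 1 := by
    intro i
    induction i with
    | zero =>
      intro j hj
      exact (hG j).vd_le_one_of_pos_genus (hW j) (hpos j (by omega)) (A j)
    | succ i ih =>
      intro j hj
      have hj' : (j : ℕ) + 1 < n := by omega
      have h1 := ih ⟨(j : ℕ) + 1, hj'⟩ (by simp only; omega)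
      have h2 := hcomp j hj' 2 (by omega)
      have e : (d : ℤ) + 1 - ((2 : ℕ) : ℤ) = (d : ℤ) - 1 := by push_cast; ring
      rw [e] at h2
      have h3 := (hG j).two_point (hW j) (hAB j hj') (a := (d : ℤ) - 1) (b := ((2 : ℕ) : ℤ))
        (by push_cast; omega)
      omega
  have h1 := claim (n - 1) ⟨0, hn⟩ (by simp only; omega)
  have h2 := hcomp0 2 (by omega)
  have e : (d : ℤ) + 1 - ((2 : ℕ) : ℤ) = (d : ℤ) - 1 := by push_cast; ring
  rw [e] at h2
  have e2 : ((2 : ℕ) : ℤ) = 2 := by norm_num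
  rw [e2] at h2
  omega

/-- cusps at the lower nodes of a chain ending in a curve of positive genus -/
theorem chain_cusp
    (n : ℕ) (U : Fin (n + 1) → Type*) [∀ l, Field (U l)] [∀ l, Algebra k (U l)]
    (hU : ∀ l, IsFunctionField k (U l))
    (d r : ℕ) (D : ∀ l, Divisor k (U l)) (V : ∀ l, Submodule k (U l))
    (hG : ∀ l, IsGrd (V l) (D l) r d)
    (A B : ∀ l, Place k (U l))
    (hAB : ∀ l : Fin (n + 1), 0 < (l : ℕ) → (l : ℕ) < n → A l ≠ B l)
    (hcomp : ∀ (l : Fin n) (m : ℕ), m ≤ d + 1 →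
      vd (V l.castSucc) (D l.castSucc) (B l.castSucc) (m : ℤ) +
        vd (V l.succ) (D l.succ) (A l.succ) ((d : ℤ) + 1 - m) = r + 1)
    (hpos : 0 < genus k (U (Fin.last n)))
    (l : Fin (n + 1)) (hln : (l : ℕ) < n) : r ≤ vd (V l) (D l) (B l) 2 := by
  rcases Nat.eq_zero_or_pos d with hd0 | hdpos
  · have := (hG l).r_le_d (hU l) (B l)
    omega
  have e : (d : ℤ) + 1 - ((2 : ℕ) : ℤ) = (d : ℤ) - 1 := by push_cast; ring
  have e2 : ((2 : ℕ) : ℤ) = 2 := by norm_num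
  have claim : ∀ i : ℕ, ∀ j : Fin (n + 1), 0 < (j : ℕ) → (j : ℕ) + i = n →
      vd (V j) (D j) (A j) ((d : ℤ) - 1) ≤ 1 := by
    intro i
    induction i with
    | zero =>
      intro j _ hj
      have : j = Fin.last n := Fin.ext (by simpa using hj)
      subst this
      exact (hG _).vd_le_one_of_pos_genus (hU _) hpos (A _)
    | succ i ih =>
      intro j hj0 hj
      have hjn : (j : ℕ) < n := by omega
      have h1 := ih (⟨(j : ℕ), hjn⟩ : Fin n).succ (by simp) (by simp; omega)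
      have h2 := hcomp ⟨(j : ℕ), hjn⟩ 2 (by omega)
      rw [e] at h2
      change vd (V j) (D j) (B j) ((2 : ℕ) : ℤ) + _ = r + 1 at h2
      have h3 := (hG j).two_point (hU j) (hAB j hj0 hjn) (a := (d : ℤ) - 1) (b := ((2 : ℕ) : ℤ))
        (by push_cast; omega)
      omega
  have h1 := claim (n - ((l : ℕ) + 1)) (⟨(l : ℕ), hln⟩ : Fin n).succ (by simp) (by simp; omega)
  have h2 := hcomp ⟨(l : ℕ), hln⟩ 2 (by omega)
  rw [e] at h2
  change vd (V l) (D l) (B l) ((2 : ℕ) : ℤ) + _ = r + 1 at h2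
  rw [e2] at h2
  omega

end ChainCusp

end Groth.Agent.Lib.Helper4.FF
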