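import Mathlib
import Groth.Agent.Lib.Helper4.FF.LLSPos

/-! # Backbones with tails (helper4) -/

namespace Groth.Agent.Lib.Helper4.FF

open FunFld WithZero

section Places

variable {k K : Type*} [Field k] [Field K] [Algebra k K]

/-- a function field over an infinite field has infinitely many places -/
lemma exists_place_notMem [Infinite k] (hK : IsFunctionField k K) (S : Finset (Place k K)) :
    ∃ R : Place k K, R ∉ S := by
  classical
  obtain ⟨x, hxt, -⟩ := hK.1
  have hz : ∀ c : k, ∃ P : Place k K, P.1 (x - algebraMap k K c) < 1 := by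
    intro c
    apply exists_zero hK
    intro halg
    apply hxt
    have : x = (x - algebraMap k K c) + algebraMap k K c := by ring
    rw [this]
    exact halg.add (isAlgebraic_algebraMap c)
  choose Z hZ using hz
  have hinj : Function.Injective Z := by
    intro c c' hcc
    by_contra hne
    have h1 := hZ c
    have h2 := hZ c'
    rw [← hcc] at h2
    have h3 : (Z c).1 (algebraMap k K (c' - c)) < 1 := by
      have : algebraMap k K (c' - c) = (x - algebraMap k K c) - (x - algebraMap k K c') := by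
        rw [map_sub]; ring
      rw [this]
      exact lt_of_le_of_lt (Valuation.map_sub _ _ _) (max_lt h1 h2)
    rw [Place.val_k (Z c) (sub_ne_zero.mpr (Ne.symm hne))] at h3
    exact lt_irrefl _ h3
  have : Infinite (Place k K) := Infinite.of_injective Z hinj
  exact Infinite.exists_notMem_finset S

lemma exists_place_ne [Infinite k] (hK : IsFunctionField k K) (P : Place k K) :
    ∃ R : Place k K, R ≠ P := by
  classical
  obtain ⟨R, hR⟩ := exists_place_notMem hK {P}
  exact ⟨R, by simpa using hR⟩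

end Places

section Lower

variable {k K : Type*} [Field k] [Field K] [Algebra k K] [IsAlgClosed k]
  {V : Submodule k K} {D : Divisor k K} {r d : ℕ}

lemma staircase_lower' {r d : ℕ} (hrd : r ≤ d) (a : ℕ → ℕ) (ha : ∀ n, 1 ≤ n → r + 1 ≤ a n + n) :
    r * (r + 1) ≤ 2 * ∑ n ∈ Finset.range d, a (n + 1) := by
  have h1 : ∑ n ∈ Finset.range r, (r - n) ≤ ∑ n ∈ Finset.range d, a (n + 1) := by
    calc ∑ n ∈ Finset.range r, (r - n) ≤ ∑ n ∈ Finset.range r, a (n + 1) := by
          apply Finset.sum_le_sum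
          intro n _
          have := ha (n + 1) (by omega)
          omega
      _ ≤ ∑ n ∈ Finset.range d, a (n + 1) := by
          apply Finset.sum_le_sum_of_subset
          exact Finset.range_subset_range.mpr hrd
  have h2 := sum_range_sub r
  omega

lemma IsGrd.Svd_lower (hK : IsFunctionField k K) (hG : IsGrd V D r d) (P : Place k K) :
    r * (r + 1) ≤ 2 * Svd V D P d := by
  rw [Svd_def]
  have := staircase_lower' (hG.r_le_d hK P) (fun n => vd V D P (n : ℤ))
    (fun n _ => hG.vd_ge hK P n)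
  simpa using this

lemma IsGrd.Svd_cusp_lower (hK : IsFunctionField k K) (hG : IsGrd V D r d) (Q : Place k K)
    (hcusp : r ≤ vd V D Q 2) : r * (r + 1) + 2 * r ≤ 2 * Svd V D Q d := by
  rcases Nat.eq_zero_or_pos r with hr0 | hrpos
  · subst hr0; simp
  -- `vd (n+1) + n ≥ r + 1` for `n ≥ 1`
  have hstep : ∀ n : ℕ, 1 ≤ n → r + 1 ≤ vd V D Q ((n : ℤ) + 1) + n := by
    intro n hn
    induction n with
    | zero => omega
    | succ m ih =>
      rcases Nat.eq_zero_or_pos m with hm0 | hmpos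
      · subst hm0
        have : ((0 + 1 : ℕ) : ℤ) + 1 = 2 := by norm_num
        rw [this]; omega
      · have h1 := ih hmpos
        have h2 := IsGrd.vd_succ_le (V := V) (D := D) hK Q ((m : ℤ) + 1)
        push_cast
        omega
  -- `d ≥ r + 1`
  have hd : r + 1 ≤ d := by
    have hdpos : 1 ≤ d := by
      have := hG.r_le_d hK Q; omega
    have h1 := hstep d hdpos
    have h2 := hG.vd_top hK Q (n := (d : ℤ) + 1) (by omega)
    omega
  obtain ⟨d', rfl⟩ : ∃ d', d = d' + 1 := ⟨d - 1, by omega⟩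
  rw [Svd_def, Finset.sum_range_succ']
  have h1 := staircase_lower' (r := r) (d := d') (by omega) (fun n => vd V D Q ((n : ℤ) + 1)) hstep
  have h2 : r ≤ vd V D Q (((0 : ℕ) : ℤ) + 1) := by
    have := vd_anti hK V D Q (n := (1 : ℤ)) (m := 2) (by norm_num)
    have e : ((0 : ℕ) : ℤ) + 1 = 1 := by norm_num
    rw [e]; omega
  have h3 : ∑ n ∈ Finset.range d', vd V D Q (((n + 1 : ℕ) : ℤ) + 1) =
      ∑ n ∈ Finset.range d', (fun n : ℕ => vd V D Q ((n : ℤ) + 1)) (n + 1) := rfl
  rw [h3]
  omega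

end Lower

section AbstractBackbone

/-- prefix sums -/
def psum (τ : ℕ → ℕ) (i : ℕ) : ℕ := ∑ j ∈ Finset.range i, τ j

lemma psum_succ (τ : ℕ → ℕ) (i : ℕ) : psum τ (i + 1) = psum τ i + τ i :=
  Finset.sum_range_succ _ _

lemma backbone_left (N M h r : ℕ) (α β τ : ℕ → ℕ)
    (hnode : ∀ l, l < N → β l + α (l + 1) = M)
    (hinner : ∀ i, 0 < i → i < N → α i + β i + r * τ i ≤ M)
    (hfirst : 0 < N → β 0 + h + r * τ 0 ≤ M) :
    ∀ i, 1 ≤ i → i ≤ N → h + r * psum τ i ≤ α i := by
  intro i
  induction i with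
  | zero => intro h; omega
  | succ m ih =>
    intro _ hm
    rcases Nat.eq_zero_or_pos m with h0 | hpos
    · subst h0
      have h1 := hnode 0 (by omega)
      have h2 := hfirst (by omega)
      have h3 : psum τ (0 + 1) = τ 0 := by simp [psum]
      rw [h3]
      omega
    · have h1 := ih hpos (by omega)
      have h2 := hinner m hpos (by omega)
      have h3 := hnode m (by omega)
      rw [psum_succ, mul_add]
      omega

lemma backbone_right (N M h r : ℕ) (α β τ : ℕ → ℕ)
    (hnode : ∀ l, l < N → β l + α (l + 1) = M)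
    (hinner : ∀ i, 0 < i → i < N → α i + β i + r * τ i ≤ M)
    (hlast : 0 < N → α N + h + r * τ N ≤ M) :
    ∀ j i, i + j + 1 = N → h + r * psum τ (N + 1) ≤ β i + r * psum τ (i + 1) := by
  intro j
  induction j with
  | zero =>
    intro i hi
    have h1 := hnode i (by omega)
    have h2 := hlast (by omega)
    have : i + 1 = N := by omega
    rw [← this] at h2 ⊢
    rw [psum_succ τ (i + 1), mul_add]
    omega
  | succ j ih =>
    intro i hi
    have h1 := ih (i + 1) (by omega)
    have h2 := hinner (i + 1) (by omega) (by omega)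
    have h3 := hnode i (by omega)
    rw [psum_succ τ (i + 1), mul_add] at h1
    omega

/-- S18179, abstractly -/
lemma backbone_total (N M h r : ℕ) (α β τ : ℕ → ℕ)
    (hnode : ∀ l, l < N → β l + α (l + 1) = M)
    (hinner : ∀ i, 0 < i → i < N → α i + β i + r * τ i ≤ M)
    (hfirst : 0 < N → β 0 + h + r * τ 0 ≤ M)
    (hlast : 0 < N → α N + h + r * τ N ≤ M)
    (hsingle : N = 0 → 2 * h + r * τ 0 ≤ M) :
    r * psum τ (N + 1) + 2 * h ≤ M := by
  rcases Nat.eq_zero_or_pos N with h0 | hpos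
  · subst h0
    have := hsingle rfl
    have h3 : psum τ (0 + 1) = τ 0 := by simp [psum]
    rw [h3]
    omega
  · have h1 := backbone_left N M h r α β τ hnode hinner hfirst N hpos le_rfl
    have h2 := hlast hpos
    rw [psum_succ, mul_add]
    omega

/-- S18180, abstractly -/
lemma backbone_inner (N M h r : ℕ) (α β τ : ℕ → ℕ)
    (hnode : ∀ l, l < N → β l + α (l + 1) = M)
    (hinner : ∀ i, 0 < i → i < N → α i + β i + r * τ i ≤ M)
    (hfirst : 0 < N → β 0 + h + r * τ 0 ≤ M)
    (hlast : 0 < N → α N + h + r * τ N ≤ M)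
    (i : ℕ) (hi0 : 0 < i) (hiN : i < N) :
    r * psum τ (N + 1) + 2 * h ≤ α i + β i + r * τ i := by
  have h1 := backbone_left N M h r α β τ hnode hinner hfirst i hi0 (by omega)
  have h2 := backbone_right N M h r α β τ hnode hinner hlast (N - i - 1) i (by omega)
  rw [psum_succ τ i, mul_add] at h2
  omega

end AbstractBackbone

section Backbone

variable {k : Type*} [Field k] [IsAlgClosed k] [CharZero k]

theorem backbone_facts
    (N : ℕ) (Z : Fin (N + 1) → Type*) [∀ i, Field (Z i)] [∀ i, Algebra k (Z i)]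
    (hZ : ∀ i, IsFunctionField k (Z i)) (hrat : ∀ i, genus k (Z i) = 0)
    (d r : ℕ) (D : ∀ i, Divisor k (Z i)) (V : ∀ i, Submodule k (Z i))
    (hG : ∀ i, IsGrd (V i) (D i) r d)
    (A B : ∀ i, Place k (Z i))
    (hAB : ∀ i : Fin (N + 1), 0 < (i : ℕ) → (i : ℕ) < N → A i ≠ B i)
    (hcomp : ∀ (l : Fin N) (m : ℕ), m ≤ d + 1 →
      vd (V l.castSucc) (D l.castSucc) (B l.castSucc) (m : ℤ) +
        vd (V l.succ) (D l.succ) (A l.succ) ((d : ℤ) + 1 - m) = r + 1)
    (T : Finset (Fin (N + 1))) (Q : ∀ i, Place k (Z i))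
    (hQA : ∀ i ∈ T, 0 < (i : ℕ) → Q i ≠ A i) (hQB : ∀ i ∈ T, (i : ℕ) < N → Q i ≠ B i)
    (hcusp : ∀ i ∈ T, r ≤ vd (V i) (D i) (Q i) 2) :
    (r * T.card + r * (r + 1) ≤ (r + 1) * d) ∧
    ∀ i : Fin (N + 1), 0 < (i : ℕ) → (i : ℕ) < N →
      r * T.card + r * (r + 1) ≤
        Svd (V i) (D i) (A i) d + Svd (V i) (D i) (B i) d + r * (if i ∈ T then 1 else 0) := by
  classical
  have : Infinite k := inferInstance
  set M := (r + 1) * d with hM
  set h := r * (r + 1) / 2 with hh
  have h2h : 2 * h = r * (r + 1) := by rw [hh, mul_comm]; exact half_mul_two r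
  let α : ℕ → ℕ := fun i => if hi : i < N + 1 then Svd (V ⟨i, hi⟩) (D ⟨i, hi⟩) (A ⟨i, hi⟩) d else 0
  let β : ℕ → ℕ := fun i => if hi : i < N + 1 then Svd (V ⟨i, hi⟩) (D ⟨i, hi⟩) (B ⟨i, hi⟩) d else 0
  let τ : ℕ → ℕ := fun i => if hi : i < N + 1 then (if (⟨i, hi⟩ : Fin (N + 1)) ∈ T then 1 else 0) else 0
  have hα : ∀ (i : ℕ) (hi : i < N + 1), α i = Svd (V ⟨i, hi⟩) (D ⟨i, hi⟩) (A ⟨i, hi⟩) d :=
    fun i hi => dif_pos hi
  have hβ : ∀ (i : ℕ) (hi : i < N + 1), β i = Svd (V ⟨i, hi⟩) (D ⟨i, hi⟩) (B ⟨i, hi⟩) d :=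
    fun i hi => dif_pos hi
  have hτ : ∀ (i : ℕ) (hi : i < N + 1), τ i = if (⟨i, hi⟩ : Fin (N + 1)) ∈ T then 1 else 0 :=
    fun i hi => dif_pos hi
  -- node equalities
  have hnode : ∀ l, l < N → β l + α (l + 1) = M := by
    intro i hi
    rw [hβ i (by omega), hα (i + 1) (by omega)]
    exact compat_sum (vd (V ⟨i, by omega⟩) (D ⟨i, by omega⟩) (B ⟨i, by omega⟩))
      (vd (V ⟨i + 1, by omega⟩) (D ⟨i + 1, by omega⟩) (A ⟨i + 1, by omega⟩))
      (fun m hm => hcomp ⟨i, hi⟩ m hm)
  -- inner components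
  have hinner : ∀ i, 0 < i → i < N → α i + β i + r * τ i ≤ M := by
    intro i hi0 hiN
    rw [hα i (by omega), hβ i (by omega), hτ i (by omega)]
    set j : Fin (N + 1) := ⟨i, by omega⟩ with hj
    by_cases hjT : j ∈ T
    · rw [if_pos hjT, mul_one]
      exact (hG j).three_point (hZ j) (hrat j) (hAB j hi0 hiN) (hQA j hjT hi0) (hQB j hjT hiN)
        (hcusp j hjT)
    · rw [if_neg hjT, mul_zero, add_zero]
      exact Svd_two_point (hZ j) (hG j) (hAB j hi0 hiN)
  -- end components: a bound `Svd P + h + r τ ≤ M` at a place `P ≠ Q`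
  have hend : ∀ (j : Fin (N + 1)) (P : Place k (Z j)), (j ∈ T → Q j ≠ P) →
      Svd (V j) (D j) P d + h + r * (if j ∈ T then 1 else 0) ≤ M := by
    intro j P hQP
    by_cases hjT : j ∈ T
    · rw [if_pos hjT, mul_one]
      have h1 := Svd_two_point (hZ j) (hG j) (Ne.symm (hQP hjT))
      have h2 := (hG j).Svd_cusp_lower (hZ j) (Q j) (hcusp j hjT)
      omega
    · rw [if_neg hjT, mul_zero, add_zero]
      obtain ⟨R, hR⟩ := exists_place_ne (hZ j) P
      have h1 := Svd_two_point (hZ j) (hG j) (Ne.symm hR)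
      have h2 := (hG j).Svd_lower (hZ j) R
      omega
  have hfirst : 0 < N → β 0 + h + r * τ 0 ≤ M := by
    intro hN
    rw [hβ 0 (by omega), hτ 0 (by omega)]
    exact hend ⟨0, by omega⟩ (B ⟨0, by omega⟩) (fun hT => hQB _ hT hN)
  have hlast : 0 < N → α N + h + r * τ N ≤ M := by
    intro hN
    rw [hα N (by omega), hτ N (by omega)]
    exact hend ⟨N, by omega⟩ (A ⟨N, by omega⟩) (fun hT => hQA _ hT hN)
  have hsingle : N = 0 → 2 * h + r * τ 0 ≤ M := by
    intro hN
    rw [hτ 0 (by omega)]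
    set j : Fin (N + 1) := ⟨0, by omega⟩ with hj
    by_cases hjT : j ∈ T
    · obtain ⟨R, hR⟩ := exists_place_ne (hZ j) (Q j)
      have h1 := hend j R (fun _ => Ne.symm hR)
      have h2 := (hG j).Svd_lower (hZ j) R
      omega
    · rw [if_neg hjT, mul_zero, add_zero, h2h, hM]
      have := (hG j).r_le_d (hZ j) (A j)
      rw [mul_comm]
      exact Nat.mul_le_mul_left _ this
  -- the prefix sum is the cardinality of `T`
  have hcard : psum τ (N + 1) = T.card := by
    unfold psum
    rw [← Fin.sum_univ_eq_sum_range τ (N + 1), Finset.card_eq_sum_ones]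
    have : ∀ i : Fin (N + 1), τ i = if i ∈ T then 1 else 0 := fun i => hτ i i.2
    simp only [this]
    rw [Finset.sum_ite_mem, Finset.univ_inter]
  refine ⟨?_, ?_⟩
  · have := backbone_total N M h r α β τ hnode hinner hfirst hlast hsingle
    rw [hcard, h2h] at this
    exact this
  · intro i hi0 hiN
    have := backbone_inner N M h r α β τ hnode hinner hfirst hlast i hi0 hiN
    rw [hcard, h2h, hα i i.2, hβ i i.2, hτ i i.2] at this
    exact this

end Backbone

end Groth.Agent.Lib.Helper4.FF
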