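import Mathlib
import Groth.Agent.Lib.Helper4.FF.Gaps3
import Groth.Agent.Lib.Helper4.FF.LLSBackbone

namespace Groth.Agent.Lib.Helper4.FF

open FunFld WithZero

section Aut

variable {k K : Type*} [Field k] [Field K] [Algebra k K]

/-- pull back a place along an automorphism -/
def comapPlace (σ : K ≃ₐ[k] K) (P : Place k K) : Place k K :=
  ⟨P.1.comap (σ : K →+* K), by
    refine ⟨fun c => ?_, fun γ => ?_⟩
    · change P.1 (σ (algebraMap k K c)) ≤ 1
      rw [σ.commutes]
      exact P.2.1 c
    · obtain ⟨x, hx⟩ := P.2.2 γ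
      refine ⟨σ.symm x, ?_⟩
      change P.1 (σ (σ.symm x)) = γ
      rw [σ.apply_symm_apply, hx]⟩

@[simp] lemma comapPlace_apply (σ : K ≃ₐ[k] K) (P : Place k K) (x : K) :
    (comapPlace σ P).1 x = P.1 (σ x) := rfl

lemma comapPlace_symm (σ : K ≃ₐ[k] K) (P : Place k K) :
    comapPlace σ (comapPlace σ.symm P) = P := by
  apply Subtype.ext
  ext x
  change P.1 (σ.symm (σ x)) = P.1 x
  rw [σ.symm_apply_apply]

/-- the fixed places of `σ` (as in the statement) are fixed as valuations -/
lemma comapPlace_eq_of_fixed (σ : K ≃ₐ[k] K) {P : Place k K}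
    (h : ∀ x : K, P.1 x < 1 → P.1 (σ x) < 1) : comapPlace σ P = P := by
  symm
  apply place_eq_of_forall
  intro z hz
  exact (h z hz).le

variable [IsAlgClosed k]

/-- at a fixed place, `σ x - x` vanishes whenever `x` is regular -/
lemma val_sub_lt_of_fixed (hK : IsFunctionField k K) (σ : K ≃ₐ[k] K) {P : Place k K}
    (h : comapPlace σ P = P) {x : K} (hx : P.1 x ≤ 1) : P.1 (σ x - x) < 1 := by
  obtain ⟨c, hc⟩ := Place.exists_const_sub_lt P (Place.deg_eq_one hK P) hx
  have h1 : P.1 (σ (x - algebraMap k K c)) < 1 := by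
    have := congrArg (fun Q : Place k K => Q.1 (x - algebraMap k K c)) h
    simp only [comapPlace_apply] at this
    rw [this]; exact hc
  rw [map_sub, σ.commutes] at h1
  have e : σ x - x = (σ x - algebraMap k K c) - (x - algebraMap k K c) := by ring
  rw [e]
  exact lt_of_le_of_lt (Valuation.map_sub _ _ _) (max_lt h1 hc)

theorem algEquiv_eq_one_of_fixed (hK : IsFunctionField k K) (σ : K ≃ₐ[k] K)
    (S : Finset (Place k K)) (hS : ∀ P ∈ S, comapPlace σ P = P)
    (hcard : 2 * genus k K + 2 < S.card) : σ = 1 := by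
  classical
  have hinf : Infinite k := inferInstance
  by_contra hne
  -- some element is moved
  obtain ⟨x₀, hx₀⟩ : ∃ x₀ : K, σ x₀ ≠ x₀ := by
    by_contra hall
    push Not at hall
    exact hne (AlgEquiv.ext hall)
  -- some place is not fixed
  obtain ⟨Q, hQ⟩ : ∃ Q : Place k K, comapPlace σ Q ≠ Q := by
    by_contra hall
    push Not at hall
    have hy0 : σ x₀ - x₀ ≠ 0 := sub_ne_zero.mpr hx₀
    have hx00 : x₀ ≠ 0 := by
      rintro rfl
      exact hx₀ (map_zero σ)
    have hfin1 := finite_zeros hK hy0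
    have hfin2 := finite_poles hK hx00
    obtain ⟨R, hR⟩ := exists_place_notMem hK (hfin1.toFinset ∪ hfin2.toFinset)
    rw [Finset.mem_union, Set.Finite.mem_toFinset, Set.Finite.mem_toFinset] at hR
    push Not at hR
    have h1 : R.1 x₀ ≤ 1 := not_lt.mp hR.2
    exact hR.1 (val_sub_lt_of_fixed hK σ (hall R) h1)
  set Q₁ : Place k K := comapPlace σ.symm Q with hQ₁
  have hQ₁Q : comapPlace σ Q₁ = Q := comapPlace_symm σ Q
  have hQQ₁ : Q ≠ Q₁ := by
    intro h
    rw [← h] at hQ₁Q
    exact hQ hQ₁Q
  set g := genus k K with hg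
  have hPQ := Place.deg_eq_one hK Q
  have hPQ₁ := Place.deg_eq_one hK Q₁
  -- a nonconstant function with poles only at `Q`
  have hell : 2 ≤ ell (Finsupp.single Q ((g : ℤ) + 1) : Divisor k K) := by
    have := le_genus hK (Finsupp.single Q ((g : ℤ) + 1) : Divisor k K)
    rw [Divisor.deg_single, hPQ] at this
    push_cast at this
    omega
  obtain ⟨x, hxL, hxk⟩ : ∃ x ∈ L (Finsupp.single Q ((g : ℤ) + 1) : Divisor k K),
      x ∉ L (0 : Divisor k K) := by
    apply exists_mem_not_mem_of_ell_lt hK
    rw [ell_zero hK]; omega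
  have hx0 : x ≠ 0 := by
    rintro rfl
    exact hxk (Submodule.zero_mem _)
  have hxreg : ∀ R : Place k K, R ≠ Q → R.1 x ≤ 1 := by
    intro R hR
    have := hxL R
    rwa [Finsupp.single_apply, if_neg (Ne.symm hR), exp_zero] at this
  have hσxreg : ∀ R : Place k K, R ≠ Q₁ → R.1 (σ x) ≤ 1 := by
    intro R hR
    have h1 : comapPlace σ R ≠ Q := by
      intro h
      apply hR
      rw [hQ₁, ← h]
      apply Subtype.ext
      ext z
      change R.1 z = R.1 (σ (σ.symm z))
      rw [σ.apply_symm_apply]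
    exact hxreg _ h1
  have hσxQ₁ : Q₁.1 (σ x) ≤ exp ((g : ℤ) + 1) := by
    have := hxL Q
    rw [Finsupp.single_apply, if_pos rfl] at this
    have e : Q₁.1 (σ x) = Q.1 x := by
      rw [hQ₁]
      change Q.1 (σ.symm (σ x)) = Q.1 x
      rw [σ.symm_apply_apply]
    rw [e]; exact this
  -- `y = σ x - x`
  set y : K := σ x - x with hy
  have hS' : ∀ P ∈ S, P ≠ Q ∧ P ≠ Q₁ := by
    intro P hP
    refine ⟨fun h => hQ (h ▸ hS P hP), fun h => ?_⟩
    have h1 := hS P hP
    rw [h, hQ₁Q] at h1
    exact hQQ₁ h1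
  set E : Divisor k K := Finsupp.single Q ((g : ℤ) + 1) + Finsupp.single Q₁ ((g : ℤ) + 1) -
    ∑ P ∈ S, Finsupp.single P 1 with hE
  have hsumS : ∀ R : Place k K, (∑ P ∈ S, (Finsupp.single P 1 : Divisor k K)) R =
      if R ∈ S then 1 else 0 := by
    intro R
    rw [Finsupp.finsetSum_apply]
    simp only [Finsupp.single_apply]
    rw [Finset.sum_ite_eq' S R]
  have hyE : y ∈ L E := by
    intro R
    rw [hE, Finsupp.sub_apply, Finsupp.add_apply, hsumS, Finsupp.single_apply, Finsupp.single_apply]
    by_cases hRS : R ∈ S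
    · obtain ⟨h1, h2⟩ := hS' R hRS
      rw [if_pos hRS, if_neg (Ne.symm h1), if_neg (Ne.symm h2)]
      have := val_sub_lt_of_fixed hK σ (hS R hRS) (hxreg R h1)
      rw [lt_one_iff_le_exp_neg_one] at this
      simpa using this
    · rw [if_neg hRS, sub_zero]
      by_cases hR1 : R = Q
      · subst hR1
        rw [if_pos rfl, if_neg (Ne.symm hQQ₁), add_zero]
        refine (Valuation.map_sub _ _ _).trans (max_le ?_ ?_)
        · refine (hσxreg R hQQ₁).trans ?_
          rw [← exp_zero, exp_le_exp]; omega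
        · have := hxL R
          rwa [Finsupp.single_apply, if_pos rfl] at this
      · rw [if_neg (Ne.symm hR1), zero_add]
        by_cases hR2 : R = Q₁
        · rw [if_pos hR2.symm, hR2]
          refine (Valuation.map_sub _ _ _).trans (max_le hσxQ₁ ?_)
          refine (hxreg Q₁ (Ne.symm hQQ₁)).trans ?_
          rw [← exp_zero, exp_le_exp]; omega
        · rw [if_neg (Ne.symm hR2), exp_zero]
          exact (Valuation.map_sub _ _ _).trans (max_le (hσxreg R hR2) (hxreg R hR1))
  have hdegE : E.deg < 0 := by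
    rw [hE, Divisor.deg_sub, Divisor.deg_add, Divisor.deg_single, Divisor.deg_single, hPQ, hPQ₁]
    have : Divisor.deg (∑ P ∈ S, (Finsupp.single P 1 : Divisor k K)) = S.card := by
      have hdegsum : ∀ T : Finset (Place k K),
          Divisor.deg (∑ P ∈ T, (Finsupp.single P 1 : Divisor k K)) = T.card := by
        intro T
        induction T using Finset.induction_on with
        | empty => simp [Divisor.deg_zero]
        | insert a T ha ih =>
          rw [Finset.sum_insert ha, Divisor.deg_add, ih, Divisor.deg_single,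
            Place.deg_eq_one hK a, Finset.card_insert_of_notMem ha]
          push_cast; ring
      exact hdegsum S
    rw [this]
    push_cast
    have : (2 * (g : ℤ) + 2) < S.card := by exact_mod_cast hcard
    linarith
  have hy0 : y = 0 := by
    have := L_eq_bot_of_deg_neg hK hdegE
    rw [this] at hyE
    exact (Submodule.mem_bot k).mp hyE
  -- hence `σ x = x`, and `x` has no pole at `Q`
  have hσx : σ x = x := sub_eq_zero.mp hy0
  apply hxk
  intro R
  rw [Finsupp.zero_apply, exp_zero]
  by_cases hR : R = Q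
  · subst hR
    rw [← hσx]
    exact hσxreg R hQQ₁
  · exact hxreg R hR

end Aut

end Groth.Agent.Lib.Helper4.FF
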