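import Mathlib

/-! # Plücker inequality for spaces of polynomials: basics (helper4) -/

namespace Groth.Agent.Lib.Helper4.FF

open Polynomial

section PolyPlucker

variable {k : Type*} [Field k]

/-- polynomials divisible by `(X - ξ)^n` -/
noncomputable def ordSub (ξ : k) (n : ℕ) : Submodule k k[X] :=
  (Ideal.span {(X - C ξ) ^ n}).restrictScalars k

lemma mem_ordSub {ξ : k} {n : ℕ} {p : k[X]} : p ∈ ordSub ξ n ↔ (X - C ξ) ^ n ∣ p := by
  unfold ordSub
  rw [Submodule.restrictScalars_mem, Ideal.mem_span_singleton]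

lemma ordSub_zero (ξ : k) : ordSub ξ 0 = ⊤ := by
  ext p
  simp [mem_ordSub]

lemma ordSub_anti (ξ : k) {n m : ℕ} (h : n ≤ m) : ordSub ξ m ≤ ordSub ξ n := by
  intro p hp
  rw [mem_ordSub] at hp ⊢
  exact (pow_dvd_pow _ h).trans hp

/-- number of vanishing orders `≥ n` -/
noncomputable def av (W : Submodule k k[X]) (ξ : k) (n : ℕ) : ℕ :=
  Module.finrank k ↥(W ⊓ ordSub ξ n)

noncomputable def Sw (W : Submodule k k[X]) (ξ : k) (B : ℕ) : ℕ :=
  ∑ n ∈ Finset.range B, av W ξ (n + 1)

lemma finite_of_natDegree_le {W : Submodule k k[X]} {d : ℕ} (hW : ∀ f ∈ W, natDegree f ≤ d) :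
    Module.Finite k W := by
  have hle : W ≤ degreeLT k (d + 1) := by
    intro f hf
    rw [mem_degreeLT]
    have := hW f hf
    calc degree f ≤ natDegree f := degree_le_natDegree
      _ < ((d + 1 : ℕ) : WithBot ℕ) := by exact_mod_cast Nat.lt_succ_of_le this
  exact Module.Finite.of_injective (Submodule.inclusion hle) (Submodule.inclusion_injective hle)

lemma av_zero (W : Submodule k k[X]) (ξ : k) : av W ξ 0 = Module.finrank k W := by
  unfold av
  rw [ordSub_zero, inf_top_eq]

lemma av_anti {W : Submodule k k[X]} [Module.Finite k W] (ξ : k) {n m : ℕ} (h : n ≤ m) :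
    av W ξ m ≤ av W ξ n := by
  unfold av
  have : Module.Finite k ↥(W ⊓ ordSub ξ n) :=
    Module.Finite.of_injective (Submodule.inclusion inf_le_left) (Submodule.inclusion_injective _)
  exact Submodule.finrank_mono (inf_le_inf_left W (ordSub_anti ξ h))

lemma av_eq_zero {W : Submodule k k[X]} {d : ℕ} (hW : ∀ f ∈ W, natDegree f ≤ d) (ξ : k) {n : ℕ}
    (h : d < n) : av W ξ n = 0 := by
  unfold av
  have : W ⊓ ordSub ξ n = ⊥ := by
    rw [eq_bot_iff]
    intro p hp
    rw [Submodule.mem_inf, mem_ordSub] at hp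
    rw [Submodule.mem_bot]
    apply Polynomial.eq_zero_of_dvd_of_natDegree_lt hp.2
    rw [natDegree_pow, natDegree_X_sub_C, mul_one]
    exact lt_of_le_of_lt (hW p hp.1) h
  rw [this]
  exact finrank_bot k k[X]

lemma Sw_eq_of_le {W : Submodule k k[X]} {d : ℕ} (hW : ∀ f ∈ W, natDegree f ≤ d) (ξ : k) {B : ℕ}
    (h : d ≤ B) : Sw W ξ B = Sw W ξ d := by
  unfold Sw
  obtain ⟨c, rfl⟩ := Nat.exists_eq_add_of_le h
  rw [Finset.sum_range_add]
  have : ∑ x ∈ Finset.range c, av W ξ (d + x + 1) = 0 := by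
    apply Finset.sum_eq_zero
    intro x _
    exact av_eq_zero hW ξ (by omega)
  rw [this, add_zero]

/-- first `n` Taylor coefficients at `ξ` -/
noncomputable def taylorCoeffs (ξ : k) (n : ℕ) : k[X] →ₗ[k] (Fin n → k) :=
  LinearMap.pi fun i => (lcoeff k i).comp (taylor ξ)

lemma ker_taylorCoeffs (ξ : k) (n : ℕ) : LinearMap.ker (taylorCoeffs ξ n) = ordSub ξ n := by
  ext p
  rw [LinearMap.mem_ker, mem_ordSub, X_sub_C_pow_dvd_iff, ← taylor_apply, X_pow_dvd_iff]
  constructor
  · intro h d hd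
    have := congrFun h ⟨d, hd⟩
    simpa [taylorCoeffs] using this
  · intro h
    ext i
    simpa [taylorCoeffs] using h i i.2

lemma av_add_ge (W : Submodule k k[X]) [Module.Finite k W] (ξ : k) (n : ℕ) :
    Module.finrank k W ≤ av W ξ n + n := by
  let g : W →ₗ[k] (Fin n → k) := (taylorCoeffs ξ n).domRestrict W
  have h1 := LinearMap.finrank_range_add_finrank_ker g
  have h2 : Module.finrank k (LinearMap.range g) ≤ n := by
    have := Submodule.finrank_le (LinearMap.range g)
    simpa using this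
  have h3 : Module.finrank k (LinearMap.ker g) = av W ξ n := by
    unfold av
    have hk : LinearMap.ker g = (W ⊓ ordSub ξ n).comap W.subtype := by
      ext w
      rw [LinearMap.mem_ker, Submodule.mem_comap, Submodule.mem_inf, ← ker_taylorCoeffs,
        LinearMap.mem_ker]
      simp [g]
    rw [hk]
    exact (Submodule.comapSubtypeEquivOfLe (inf_le_left : W ⊓ ordSub ξ n ≤ W)).finrank_eq
  omega

end PolyPlucker

section Wr

variable {k : Type*} [Field k]

/-- the Wronskian map `f ↦ f₀ f' - f₀' f` -/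
noncomputable def wr (f₀ : k[X]) : k[X] →ₗ[k] k[X] :=
  LinearMap.mulLeft k f₀ ∘ₗ derivative - LinearMap.mulLeft k (derivative f₀)

lemma wr_apply (f₀ f : k[X]) : wr f₀ f = f₀ * derivative f - derivative f₀ * f := by
  simp [wr]

lemma wr_self (f₀ : k[X]) : wr f₀ f₀ = 0 := by
  rw [wr_apply]; ring

lemma wr_dvd {ξ : k} {μ m : ℕ} {f₀ f : k[X]} (h₀ : (X - C ξ) ^ μ ∣ f₀) (h : (X - C ξ) ^ m ∣ f) :
    (X - C ξ) ^ (μ + m - 1) ∣ wr f₀ f := by
  obtain ⟨g₀, rfl⟩ := h₀
  obtain ⟨g, rfl⟩ := h
  rw [wr_apply]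
  simp only [derivative_mul, derivative_X_sub_C_pow]
  set t : k[X] := X - C ξ with ht
  have e : t ^ μ * g₀ * (C (m : k) * t ^ (m - 1) * g + t ^ m * derivative g) -
      (C (μ : k) * t ^ (μ - 1) * g₀ + t ^ μ * derivative g₀) * (t ^ m * g) =
      (C (m : k) * g₀ * g) * (t ^ μ * t ^ (m - 1)) - (C (μ : k) * g₀ * g) * (t ^ (μ - 1) * t ^ m)
      + (g₀ * derivative g - derivative g₀ * g) * (t ^ μ * t ^ m) := by ring
  rw [e]
  refine dvd_add (dvd_sub ?_ ?_) ?_
  · rcases Nat.eq_zero_or_pos m with hm | hm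
    · subst hm; simp
    · apply Dvd.dvd.mul_left
      rw [← pow_add]
      exact pow_dvd_pow _ (by omega)
  · rcases Nat.eq_zero_or_pos μ with hm | hm
    · subst hm; simp
    · apply Dvd.dvd.mul_left
      rw [← pow_add]
      exact pow_dvd_pow _ (by omega)
  · apply Dvd.dvd.mul_left
    rw [← pow_add]
    exact pow_dvd_pow _ (by omega)

/-- coefficient of the Wronskian in degree `m + n - 1` -/
lemma coeff_mul_derivative {a b : k[X]} {m n : ℕ} (ha : natDegree a ≤ m) (hb : natDegree b ≤ n)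
    (hn : 1 ≤ n) : (a * derivative b).coeff (m + n - 1) = a.coeff m * (b.coeff n * n) := by
  have h1 : natDegree (derivative b) ≤ n - 1 :=
    (natDegree_derivative_le b).trans (Nat.sub_le_sub_right hb 1)
  have h2 := coeff_mul_add_eq_of_natDegree_le ha h1
  have e : m + n - 1 = m + (n - 1) := by omega
  rw [e, h2, coeff_derivative]
  have : n - 1 + 1 = n := by omega
  rw [this]
  congr 2
  have : ((n - 1 : ℕ) : k) + 1 = n := by
    rw [← Nat.cast_add_one, this]
  rw [this]

lemma coeff_wr {a b : k[X]} {m n : ℕ} (ha : natDegree a ≤ m) (hb : natDegree b ≤ n)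
    (hmn : 1 ≤ m + n) : (wr a b).coeff (m + n - 1) = ((n : k) - m) * (a.coeff m * b.coeff n) := by
  rw [wr_apply, coeff_sub]
  have h1 : (a * derivative b).coeff (m + n - 1) = a.coeff m * (b.coeff n * n) := by
    rcases Nat.eq_zero_or_pos n with hn | hn
    · subst hn
      have : derivative b = 0 := by
        rw [natDegree_eq_zero.mp (Nat.le_zero.mp hb) |>.choose_spec.symm]
        simp
      rw [this]; simp
    · exact coeff_mul_derivative ha hb hn
  have h2 : (derivative a * b).coeff (m + n - 1) = a.coeff m * (b.coeff n * m) := by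
    rcases Nat.eq_zero_or_pos m with hm | hm
    · subst hm
      have : derivative a = 0 := by
        rw [natDegree_eq_zero.mp (Nat.le_zero.mp ha) |>.choose_spec.symm]
        simp
      rw [this]; simp
    · rw [mul_comm, add_comm m n, coeff_mul_derivative hb ha hm]
      ring
  rw [h1, h2]; ring

lemma wr_ne_zero [CharZero k] {a b : k[X]} (ha : a ≠ 0) (hb : b ≠ 0)
    (h : natDegree a ≠ natDegree b) : wr a b ≠ 0 := by
  intro h0
  have h1 := coeff_wr (le_refl (natDegree a)) (le_refl (natDegree b)) (by omega)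
  rw [h0, coeff_zero] at h1
  have h2 : ((natDegree b : k) - natDegree a) ≠ 0 := by
    rw [sub_ne_zero]
    exact fun h' => h (Nat.cast_injective h').symm
  have h3 : a.coeff (natDegree a) * b.coeff (natDegree b) ≠ 0 :=
    mul_ne_zero (leadingCoeff_ne_zero.mpr ha) (leadingCoeff_ne_zero.mpr hb)
  exact mul_ne_zero h2 h3 h1.symm

lemma wr_ker [CharZero k] {f₀ f : k[X]} (h₀ : f₀ ≠ 0) (h : wr f₀ f = 0) :
    ∃ c : k, f = c • f₀ := by
  set c : k := f.coeff (natDegree f₀) / leadingCoeff f₀ with hc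
  refine ⟨c, ?_⟩
  by_contra hne
  set g : k[X] := f - c • f₀ with hg
  have hg0 : g ≠ 0 := sub_ne_zero.mpr hne
  have hwg : wr f₀ g = 0 := by
    rw [hg, map_sub, map_smul, h, wr_self, smul_zero, sub_zero]
  have hcoef : g.coeff (natDegree f₀) = 0 := by
    rw [hg, coeff_sub, coeff_smul, smul_eq_mul, hc, coeff_natDegree,
      div_mul_cancel₀ _ (leadingCoeff_ne_zero.mpr h₀), sub_self]
  have hdeg : natDegree f₀ ≠ natDegree g := by
    intro hd
    rw [hd, coeff_natDegree, leadingCoeff_eq_zero] at hcoef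
    exact hg0 hcoef
  exact wr_ne_zero h₀ hg0 hdeg hwg

lemma natDegree_wr_le {a b : k[X]} {d : ℕ} (ha : natDegree a ≤ d) (hb : natDegree b ≤ d) :
    natDegree (wr a b) ≤ 2 * d - 2 := by
  rcases Nat.eq_zero_or_pos d with hd | hd
  · subst hd
    have h1 : derivative a = 0 := by
      rw [natDegree_eq_zero.mp (Nat.le_zero.mp ha) |>.choose_spec.symm]; simp
    have h2 : derivative b = 0 := by
      rw [natDegree_eq_zero.mp (Nat.le_zero.mp hb) |>.choose_spec.symm]; simp
    rw [wr_apply, h1, h2]; simp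
  rw [natDegree_le_iff_coeff_eq_zero]
  intro N hN
  rcases Nat.lt_or_ge (2 * d - 1) N with h | h
  · -- degree bound
    apply coeff_eq_zero_of_natDegree_lt
    rw [wr_apply]
    have h1 : natDegree (a * derivative b) ≤ d + (d - 1) :=
      natDegree_mul_le.trans (add_le_add ha ((natDegree_derivative_le b).trans (Nat.sub_le_sub_right hb 1)))
    have h2 : natDegree (derivative a * b) ≤ (d - 1) + d :=
      natDegree_mul_le.trans (add_le_add ((natDegree_derivative_le a).trans (Nat.sub_le_sub_right ha 1)) hb)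
    have := natDegree_sub_le (a * derivative b) (derivative a * b)
    have : natDegree (a * derivative b - derivative a * b) ≤ 2 * d - 1 := by
      refine this.trans (max_le ?_ ?_) <;> omega
    omega
  · have hN' : N = d + d - 1 := by omega
    rw [hN', coeff_wr ha hb (by omega)]
    ring

end Wr

end Groth.Agent.Lib.Helper4.FF
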