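import Mathlib
import Groth.Agent.Lib.Helper4.FF.PolyBasic

namespace Groth.Agent.Lib.Helper4.FF

open Polynomial

section Local

variable {k : Type*} [Field k]

/-- the local comparison between `W` and its Wronskian image -/
lemma av_le_av_map_wr [CharZero k] {W : Submodule k k[X]} [Module.Finite k W] {f₀ : k[X]}
    (h₀ : f₀ ≠ 0) (ξ : k) (m : ℕ) :
    av W ξ m ≤ av (W.map (wr f₀)) ξ (rootMultiplicity ξ f₀ + m - 1) +
      (if m ≤ rootMultiplicity ξ f₀ then 1 else 0) := by
  set μ := rootMultiplicity ξ f₀ with hμ
  set U : Submodule k k[X] := W ⊓ ordSub ξ m with hU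
  have hUfin : Module.Finite k U :=
    Module.Finite.of_injective (Submodule.inclusion inf_le_left) (Submodule.inclusion_injective _)
  let g : U →ₗ[k] k[X] := (wr f₀).domRestrict U
  have h1 := LinearMap.finrank_range_add_finrank_ker g
  have hW''fin : Module.Finite k (W.map (wr f₀)) := by
    have : W.map (wr f₀) = LinearMap.range ((wr f₀).domRestrict W) := by
      rw [LinearMap.range_domRestrict]
    rw [this]
    infer_instance
  have hT : Module.Finite k ↥(W.map (wr f₀) ⊓ ordSub ξ (μ + m - 1)) :=
    Module.Finite.of_injective (Submodule.inclusion inf_le_left) (Submodule.inclusion_injective _)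
  have h2 : Module.finrank k (LinearMap.range g) ≤ av (W.map (wr f₀)) ξ (μ + m - 1) := by
    unfold av
    apply Submodule.finrank_mono
    rintro _ ⟨u, rfl⟩
    have hu : (u : k[X]) ∈ W ∧ (u : k[X]) ∈ ordSub ξ m := Submodule.mem_inf.mp u.2
    rw [Submodule.mem_inf]
    refine ⟨Submodule.mem_map_of_mem hu.1, ?_⟩
    rw [mem_ordSub]
    exact wr_dvd (pow_rootMultiplicity_dvd f₀ ξ) (mem_ordSub.mp hu.2)
  have h3 : Module.finrank k (LinearMap.ker g) ≤ (if m ≤ μ then 1 else 0) := by
    -- the kernel embeds in `span {f₀}`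
    have hker : ∀ u : LinearMap.ker g, ∃ c : k, (u : U).1 = c • f₀ := by
      intro u
      have : wr f₀ (u : U).1 = 0 := u.2
      exact wr_ker h₀ this
    split_ifs with hm
    · let ι : LinearMap.ker g →ₗ[k] (Submodule.span k {f₀} : Submodule k k[X]) :=
        LinearMap.codRestrict _ (U.subtype ∘ₗ (LinearMap.ker g).subtype) (by
          intro u
          obtain ⟨c, hc⟩ := hker u
          change (u : U).1 ∈ _
          rw [hc]
          exact Submodule.smul_mem _ _ (Submodule.mem_span_singleton_self f₀))
      have hι : Function.Injective ι := by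
        intro u v huv
        have : (u : U).1 = (v : U).1 :=
          congrArg (fun z : (Submodule.span k {f₀} : Submodule k k[X]) => (z : k[X])) huv
        exact Subtype.ext (Subtype.ext this)
      have := LinearMap.finrank_le_finrank_of_injective hι
      exact this.trans (finrank_span_singleton h₀).le
    · have : LinearMap.ker g = ⊥ := by
        rw [eq_bot_iff]
        intro u hu
        obtain ⟨c, hc⟩ := hker ⟨u, hu⟩
        rw [Submodule.mem_bot]
        have hu2 : (X - C ξ) ^ m ∣ u.1 := by
          have : (u : k[X]) ∈ W ∧ (u : k[X]) ∈ ordSub ξ m := Submodule.mem_inf.mp u.2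
          exact mem_ordSub.mp this.2
        by_cases hc0 : c = 0
        · apply Subtype.ext
          change u.1 = 0
          change u.1 = c • f₀ at hc
          rw [hc, hc0, zero_smul]
        · exfalso
          apply hm
          rw [hμ, le_rootMultiplicity_iff h₀]
          change u.1 = c • f₀ at hc
          rw [hc] at hu2
          have : f₀ = c⁻¹ • (c • f₀) := by rw [smul_smul, inv_mul_cancel₀ hc0, one_smul]
          rw [this, smul_eq_C_mul]
          exact Dvd.dvd.mul_left hu2 _
      rw [this]
      simp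
  have h4 : Module.finrank k U = av W ξ m := rfl
  omega

end Local

section Seq

lemma sum_ite_succ_le (d μ : ℕ) (h : μ ≤ d) :
    ∑ n ∈ Finset.range d, (if n + 1 ≤ μ then 1 else 0) = μ := by
  induction d generalizing μ with
  | zero =>
    have : μ = 0 := by omega
    subst this; simp
  | succ e ih =>
    rw [Finset.sum_range_succ]
    rcases Nat.lt_or_ge μ (e + 1) with h1 | h1
    · rw [ih μ (by omega), if_neg (by omega), add_zero]
    · have : μ = e + 1 := by omega
      subst this
      rw [if_pos le_rfl]
      have : ∑ n ∈ Finset.range e, (if n + 1 ≤ e + 1 then 1 else 0) = e := by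
        rw [Finset.sum_congr rfl (g := fun _ => 1)]
        · simp
        · intro x hx
          rw [Finset.mem_range] at hx
          rw [if_pos (by omega)]
      rw [this]

lemma seq_step (r μ d₀ B : ℕ) (a a'' : ℕ → ℕ) (hμ : μ ≤ d₀) (hB : 2 * d₀ ≤ B)
    (ha0 : a 0 = r + 1) (ha''0 : a'' 0 = r) (hanti : Antitone a'')
    (hcomp : ∀ m, a m ≤ a'' (μ + m - 1) + if m ≤ μ then 1 else 0) :
    ∑ n ∈ Finset.range d₀, a (n + 1) + (r + 1) * μ ≤
      ∑ n ∈ Finset.range B, a'' (n + 1) + r + 2 * μ := by
  rcases Nat.eq_zero_or_pos μ with h0 | hpos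
  · subst h0
    rcases Nat.eq_zero_or_pos d₀ with hd | hd
    · subst hd; simp
    obtain ⟨e, rfl⟩ : ∃ e, d₀ = e + 1 := ⟨d₀ - 1, by omega⟩
    rw [Finset.sum_range_succ']
    have h1 : a (0 + 1) ≤ r := by
      have := hcomp 1
      simp only [zero_add, Nat.sub_self, ha''0] at this
      simpa using this
    have h2 : ∑ n ∈ Finset.range e, a (n + 1 + 1) ≤ ∑ n ∈ Finset.range e, a'' (n + 1) := by
      apply Finset.sum_le_sum
      intro n _
      have := hcomp (n + 1 + 1)
      have e1 : 0 + (n + 1 + 1) - 1 = n + 1 := by omega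
      rw [e1, if_neg (by omega)] at this
      simpa using this
    have h3 : ∑ n ∈ Finset.range e, a'' (n + 1) ≤ ∑ n ∈ Finset.range B, a'' (n + 1) := by
      apply Finset.sum_le_sum_of_subset
      exact Finset.range_subset_range.mpr (by omega)
    omega
  · obtain ⟨μ', rfl⟩ : ∃ e, μ = e + 1 := ⟨μ - 1, by omega⟩
    have h1 : ∑ n ∈ Finset.range (μ' + d₀), a'' (n + 1) ≤ ∑ n ∈ Finset.range B, a'' (n + 1) := by
      apply Finset.sum_le_sum_of_subset
      exact Finset.range_subset_range.mpr (by omega)
    rw [Finset.sum_range_add] at h1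
    have h2 : μ' * r ≤ ∑ n ∈ Finset.range μ', a'' (n + 1) := by
      have hc := hcomp 0
      have e1 : μ' + 1 + 0 - 1 = μ' := by omega
      rw [e1, if_pos (by omega), ha0] at hc
      calc μ' * r = ∑ _n ∈ Finset.range μ', r := by simp
        _ ≤ ∑ n ∈ Finset.range μ', a'' (n + 1) := by
          apply Finset.sum_le_sum
          intro n hn
          rw [Finset.mem_range] at hn
          have := hanti (show n + 1 ≤ μ' by omega)
          omega
    have h3 : ∑ n ∈ Finset.range d₀, a (n + 1) ≤
        ∑ n ∈ Finset.range d₀, a'' (μ' + n + 1) + (μ' + 1) := by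
      have := sum_ite_succ_le d₀ (μ' + 1) hμ
      rw [← this, ← Finset.sum_add_distrib]
      apply Finset.sum_le_sum
      intro n _
      have hc := hcomp (n + 1)
      have e1 : μ' + 1 + (n + 1) - 1 = μ' + n + 1 := by omega
      rw [e1] at hc
      exact hc
    have e2 : (r + 1) * (μ' + 1) = μ' * r + r + μ' + 1 := by ring
    rw [e2]
    omega

end Seq

end Groth.Agent.Lib.Helper4.FF
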