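import Mathlib
import Groth.Agent.Lib.Helper4.FF.PolyBasic
import Groth.Agent.Lib.Helper4.FF.PolyLocal
import Groth.Agent.Lib.Helper4.FF.LLSBackbone

namespace Groth.Agent.Lib.Helper4.FF

open Polynomial

section Global

variable {k : Type*} [Field k]

lemma rootMultiplicity_le_natDegree' {p : k[X]} (hp : p ≠ 0) (ξ : k) :
    rootMultiplicity ξ p ≤ natDegree p := by
  have h1 := pow_rootMultiplicity_dvd p ξ
  have h2 := natDegree_le_of_dvd h1 hp
  rwa [natDegree_pow, natDegree_X_sub_C, mul_one] at h2

lemma sum_rootMultiplicity [IsAlgClosed k] {p : k[X]} (S : Finset k) [DecidableEq k]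
    (hS : p.roots.toFinset ⊆ S) : ∑ ξ ∈ S, rootMultiplicity ξ p = natDegree p := by
  rw [(IsAlgClosed.splits p).natDegree_eq_card_roots, ← Multiset.toFinset_sum_count_eq]
  symm
  simp only [count_roots]
  apply Finset.sum_subset hS
  intro ξ _ hξ
  rw [← count_roots]
  exact Multiset.count_eq_zero_of_notMem (fun h => hξ (Multiset.mem_toFinset.mpr h))

lemma finrank_le_of_natDegree_le {W : Submodule k k[X]} {d : ℕ} (hW : ∀ f ∈ W, natDegree f ≤ d) :
    Module.finrank k W ≤ d + 1 := by
  have := finite_of_natDegree_le hW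
  have h1 := av_add_ge W (0 : k) (d + 1)
  rw [av_eq_zero hW 0 (by omega)] at h1
  omega

lemma two_mul_Sw_ge {W : Submodule k k[X]} {d ρ : ℕ} (hW : ∀ f ∈ W, natDegree f ≤ d)
    (hdim : Module.finrank k W = ρ + 1) (ξ : k) : ρ * (ρ + 1) ≤ 2 * Sw W ξ d := by
  have := finite_of_natDegree_le hW
  have h1 := finrank_le_of_natDegree_le hW
  unfold Sw
  apply staircase_lower' (by omega) (fun n => av W ξ n)
  intro n _
  have := av_add_ge W ξ n
  omega

/-- the inductive statement -/
def PluckerAt (k : Type*) [Field k] (ρ : ℕ) : Prop :=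
  ∀ (d : ℕ) (W : Submodule k k[X]), (∀ f ∈ W, natDegree f ≤ d) → Module.finrank k W = ρ →
    ∀ S : Finset k, 2 * ∑ ξ ∈ S, Sw W ξ d + 2 * (ρ * (ρ - 1)) ≤
      2 * (ρ * d) + S.card * (ρ * (ρ - 1))

lemma finrank_map_wr [CharZero k] {W : Submodule k k[X]} [Module.Finite k W] {f₀ : k[X]}
    (h₀ : f₀ ≠ 0) (hf₀ : f₀ ∈ W) {ρ : ℕ} (hdim : Module.finrank k W = ρ + 1) :
    Module.finrank k (W.map (wr f₀)) = ρ := by
  let g : W →ₗ[k] k[X] := (wr f₀).domRestrict W
  have h1 := LinearMap.finrank_range_add_finrank_ker g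
  have h2 : LinearMap.range g = W.map (wr f₀) := LinearMap.range_domRestrict _ _
  have h3 : Module.finrank k (LinearMap.ker g) = 1 := by
    apply le_antisymm
    · let ι : LinearMap.ker g →ₗ[k] (Submodule.span k {f₀} : Submodule k k[X]) :=
        LinearMap.codRestrict _ (W.subtype ∘ₗ (LinearMap.ker g).subtype) (by
          intro u
          have : wr f₀ (u : W).1 = 0 := u.2
          obtain ⟨c, hc⟩ := wr_ker h₀ this
          change (u : W).1 ∈ _
          rw [hc]
          exact Submodule.smul_mem _ _ (Submodule.mem_span_singleton_self f₀))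
      have hι : Function.Injective ι := by
        intro u v huv
        have : (u : W).1 = (v : W).1 :=
          congrArg (fun z : (Submodule.span k {f₀} : Submodule k k[X]) => (z : k[X])) huv
        exact Subtype.ext (Subtype.ext this)
      exact (LinearMap.finrank_le_finrank_of_injective hι).trans (finrank_span_singleton h₀).le
    · rw [Submodule.one_le_finrank_iff]
      intro hbot
      have hmem : (⟨f₀, hf₀⟩ : W) ∈ LinearMap.ker g := by
        rw [LinearMap.mem_ker]
        exact wr_self f₀
      rw [hbot, Submodule.mem_bot] at hmem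
      exact h₀ (congrArg Subtype.val hmem)
  rw [h2] at h1
  omega

end Global

end Groth.Agent.Lib.Helper4.FF
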