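import Mathlib
import Groth.Agent.Lib.Helper4.FF.PolyGlobal

namespace Groth.Agent.Lib.Helper4.FF

open Polynomial

section Step

variable {k : Type*} [Field k] [CharZero k] [IsAlgClosed k]

omit [IsAlgClosed k] in
lemma local_step {W : Submodule k k[X]} {d ρ : ℕ} (hW : ∀ f ∈ W, natDegree f ≤ d)
    (hdim : Module.finrank k W = ρ + 1) {f₀ : k[X]} (hf₀ : f₀ ∈ W) (h₀ : f₀ ≠ 0)
    (hdeg : natDegree f₀ = d) (ξ : k) :
    Sw W ξ d + (ρ + 1) * rootMultiplicity ξ f₀ ≤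
      Sw (W.map (wr f₀)) ξ (2 * d - 2) + ρ + 2 * rootMultiplicity ξ f₀ := by
  have hfin := finite_of_natDegree_le hW
  have hW'' : ∀ g ∈ W.map (wr f₀), natDegree g ≤ 2 * d - 2 := by
    rintro _ ⟨f, hf, rfl⟩
    exact natDegree_wr_le (le_of_eq hdeg) (hW f hf)
  have hfin'' := finite_of_natDegree_le hW''
  have h1 := seq_step ρ (rootMultiplicity ξ f₀) d (2 * d) (av W ξ) (av (W.map (wr f₀)) ξ)
    (by rw [← hdeg]; exact rootMultiplicity_le_natDegree' h₀ ξ) le_rfl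
    (by rw [av_zero, hdim]) (by rw [av_zero, finrank_map_wr h₀ hf₀ hdim])
    (fun n m h => av_anti ξ h) (fun m => av_le_av_map_wr h₀ ξ m)
  have h2 : Sw (W.map (wr f₀)) ξ (2 * d) = Sw (W.map (wr f₀)) ξ (2 * d - 2) :=
    Sw_eq_of_le hW'' ξ (by omega)
  unfold Sw at h2 ⊢
  rw [h2] at h1
  exact h1

lemma plucker_step {ρ : ℕ} (hIH : PluckerAt k ρ) {W : Submodule k k[X]} {d : ℕ}
    (hW : ∀ f ∈ W, natDegree f ≤ d)
    (hdim : Module.finrank k W = ρ + 1) {f₀ : k[X]} (hf₀ : f₀ ∈ W) (h₀ : f₀ ≠ 0)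
    (hdeg : natDegree f₀ = d) (S : Finset k) :
    2 * ∑ ξ ∈ S, Sw W ξ d + 2 * ((ρ + 1) * ρ) ≤ 2 * ((ρ + 1) * d) + S.card * ((ρ + 1) * ρ) := by
  classical
  have hfin := finite_of_natDegree_le hW
  have hW'' : ∀ g ∈ W.map (wr f₀), natDegree g ≤ 2 * d - 2 := by
    rintro _ ⟨f, hf, rfl⟩
    exact natDegree_wr_le (le_of_eq hdeg) (hW f hf)
  have hdim'' := finrank_map_wr h₀ hf₀ hdim
  set S'' : Finset k := S ∪ f₀.roots.toFinset with hS''
  have hμ : ∑ ξ ∈ S'', rootMultiplicity ξ f₀ = d := by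
    rw [sum_rootMultiplicity S'' Finset.subset_union_right, hdeg]
  have hIH' := hIH (2 * d - 2) (W.map (wr f₀)) hW'' hdim'' S''
  -- sum of the local inequalities
  have hL : ∑ ξ ∈ S'', Sw W ξ d + (ρ + 1) * d ≤
      ∑ ξ ∈ S'', Sw (W.map (wr f₀)) ξ (2 * d - 2) + S''.card * ρ + 2 * d := by
    have := Finset.sum_le_sum (s := S'') (fun ξ _ => local_step hW hdim hf₀ h₀ hdeg ξ)
    simp only [Finset.sum_add_distrib, ← Finset.mul_sum, hμ, Finset.sum_const, smul_eq_mul] at this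
    exact this
  -- the inequality for `S''`
  have hS''ineq : 2 * ∑ ξ ∈ S'', Sw W ξ d + 2 * ((ρ + 1) * ρ) ≤
      2 * ((ρ + 1) * d) + S''.card * ((ρ + 1) * ρ) := by
    set A := ∑ ξ ∈ S'', Sw W ξ d
    set A'' := ∑ ξ ∈ S'', Sw (W.map (wr f₀)) ξ (2 * d - 2)
    set s := S''.card
    rcases Nat.eq_zero_or_pos ρ with hρ | hρ
    · subst hρ
      simp only [zero_mul, mul_zero, add_zero, Nat.zero_sub] at hIH' hL ⊢
      omega
    · obtain ⟨r, rfl⟩ : ∃ r, ρ = r + 1 := ⟨ρ - 1, by omega⟩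
      have hd : r + 1 ≤ d := by
        have := finrank_le_of_natDegree_le hW
        omega
      obtain ⟨e, rfl⟩ : ∃ e, d = e + 1 := ⟨d - 1, by omega⟩
      have e1 : 2 * (e + 1) - 2 = 2 * e := by omega
      have e2 : r + 1 - 1 = r := by omega
      rw [e1, e2] at hIH'
      nlinarith [hIH', hL]
  -- drop the extra points
  have hsplit : ∑ ξ ∈ S'', Sw W ξ d = ∑ ξ ∈ S, Sw W ξ d + ∑ ξ ∈ S'' \ S, Sw W ξ d := by
    rw [add_comm]
    exact (Finset.sum_sdiff Finset.subset_union_left).symm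
  have hcard : S''.card = S.card + (S'' \ S).card := by
    rw [add_comm]
    exact (Finset.card_sdiff_add_card_eq_card Finset.subset_union_left).symm
  have hextra : (S'' \ S).card * (ρ * (ρ + 1)) ≤ 2 * ∑ ξ ∈ S'' \ S, Sw W ξ d := by
    rw [Finset.mul_sum, ← smul_eq_mul, ← Finset.sum_const]
    apply Finset.sum_le_sum
    intro ξ _
    exact two_mul_Sw_ge hW hdim ξ
  rw [hsplit, hcard] at hS''ineq
  have e3 : (ρ + 1) * ρ = ρ * (ρ + 1) := mul_comm _ _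
  rw [e3] at hS''ineq ⊢
  nlinarith [hS''ineq, hextra]

end Step

end Groth.Agent.Lib.Helper4.FF
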