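import Mathlib
import Groth.Agent.Lib.Helper4.FF.PolyStep

namespace Groth.Agent.Lib.Helper4.FF

open Polynomial

section Main

variable {k : Type*} [Field k] [CharZero k] [IsAlgClosed k]

theorem pluckerAt (ρ : ℕ) : PluckerAt k ρ := by
  induction ρ with
  | zero =>
    intro d W hW hdim S
    have hfin := finite_of_natDegree_le hW
    have hbot : W = ⊥ := Submodule.finrank_eq_zero.mp hdim
    have : ∀ ξ : k, Sw W ξ d = 0 := by
      intro ξ
      unfold Sw
      apply Finset.sum_eq_zero
      intro n _
      unfold av
      rw [hbot, bot_inf_eq]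
      exact finrank_bot k k[X]
    simp [this]
  | succ ρ ih =>
    intro d
    induction d with
    | zero =>
      intro W hW hdim S
      have hfin := finite_of_natDegree_le hW
      have hne : W ≠ ⊥ := by
        intro h
        rw [h, finrank_bot] at hdim
        omega
      obtain ⟨f₀, hf₀, h₀⟩ := Submodule.exists_mem_ne_zero_of_ne_bot hne
      have := plucker_step ih hW hdim hf₀ h₀ (Nat.le_zero.mp (hW f₀ hf₀)) S
      simpa using this
    | succ e ihd =>
      intro W hW hdim S
      by_cases hex : ∃ f₀ ∈ W, f₀ ≠ 0 ∧ natDegree f₀ = e + 1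
      · obtain ⟨f₀, hf₀, h₀, hdeg⟩ := hex
        have := plucker_step ih hW hdim hf₀ h₀ hdeg S
        simpa using this
      · push Not at hex
        have hW' : ∀ f ∈ W, natDegree f ≤ e := by
          intro f hf
          by_cases hf0 : f = 0
          · subst hf0; simp
          · have h1 := hW f hf
            have h2 := hex f hf hf0
            omega
        have h1 := ihd W hW' hdim S
        have h2 : ∀ ξ : k, Sw W ξ (e + 1) = Sw W ξ e := fun ξ => Sw_eq_of_le hW' ξ (by omega)
        simp only [h2]
        have h3 : 2 * ((ρ + 1) * e) ≤ 2 * ((ρ + 1) * (e + 1)) := by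
          apply Nat.mul_le_mul_left
          apply Nat.mul_le_mul_left
          omega
        omega

/-- **Plücker inequality** for a `(r+1)`-dimensional space of polynomials of degree `≤ d` over an
algebraically closed field of characteristic zero. -/
theorem plucker_poly {W : Submodule k k[X]} {d r : ℕ} (hW : ∀ f ∈ W, natDegree f ≤ d)
    (hdim : Module.finrank k W = r + 1) (S : Finset k) :
    2 * ∑ ξ ∈ S, Sw W ξ d + 2 * (r * (r + 1)) ≤ 2 * ((r + 1) * d) + S.card * (r * (r + 1)) := by
  have := pluckerAt (k := k) (r + 1) d W hW hdim S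
  simp only [Nat.add_sub_cancel] at this
  rw [mul_comm (r + 1) r] at this
  exact this

end Main

end Groth.Agent.Lib.Helper4.FF
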