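import Mathlib
import Groth.Agent.Lib.Helper4.FF.LLSBackbone
import Groth.Agent.Lib.Helper4.FF.PolyPlucker

namespace Groth.Agent.Lib.Helper4.FF

open FunFld WithZero Polynomial

section Coord

variable {k K : Type*} [Field k] [Field K] [Algebra k K]

/-- `x` is a coordinate with its only pole, a simple one, at `P∞` -/
structure IsCoord (x : K) (Pinf : Place k K) : Prop where
  pole : Pinf.1 x = exp (1 : ℤ)
  reg : ∀ P : Place k K, P ≠ Pinf → P.1 x ≤ 1

lemma IsCoord.notMem_range {x : K} {Pinf : Place k K} (hx : IsCoord x Pinf) :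
    x ∉ Set.range (algebraMap k K) := by
  rintro ⟨c, rfl⟩
  have h1 := hx.pole
  have h2 := Pinf.2.1 c
  rw [h1] at h2
  have : (exp (1 : ℤ) : WithZero (Multiplicative ℤ)) ≤ exp (0 : ℤ) := by rwa [exp_zero]
  rw [exp_le_exp] at this
  omega

variable [IsAlgClosed k]

lemma IsCoord.exists_value (hK : IsFunctionField k K) {x : K} {Pinf : Place k K}
    (hx : IsCoord x Pinf) (P : Place k K) (hP : P ≠ Pinf) :
    ∃ ξ : k, P.1 (x - algebraMap k K ξ) = exp (-1 : ℤ) ∧
      div k (x - algebraMap k K ξ) + Finsupp.single Pinf 1 = Finsupp.single P 1 := by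
  classical
  obtain ⟨ξ, hξ⟩ := Place.exists_const_sub_lt P (Place.deg_eq_one hK P) (hx.reg P hP)
  set z : K := x - algebraMap k K ξ with hz
  have hz0 : z ≠ 0 := by
    intro h0
    apply hx.notMem_range
    exact ⟨ξ, (sub_eq_zero.mp h0).symm⟩
  have hzL : z ∈ L (Finsupp.single Pinf 1 - Finsupp.single P 1 : Divisor k K) := by
    intro R
    rw [Finsupp.sub_apply, Finsupp.single_apply, Finsupp.single_apply]
    by_cases hR1 : R = Pinf
    · subst hR1
      rw [if_pos rfl, if_neg hP, sub_zero]
      refine (Valuation.map_sub _ _ _).trans (max_le (le_of_eq hx.pole) ?_)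
      refine (R.2.1 ξ).trans ?_
      rw [← exp_zero, exp_le_exp]; norm_num
    · rw [if_neg (Ne.symm hR1)]
      by_cases hR2 : R = P
      · subst hR2
        rw [if_pos rfl]
        have : 0 < R.ord z := (Place.ord_pos_iff R hz0).mpr hξ
        rw [Place.val_eq_exp_neg_ord R hz0, exp_le_exp]
        omega
      · rw [if_neg (Ne.symm hR2), sub_zero, exp_zero]
        exact (Valuation.map_sub _ _ _).trans (max_le (hx.reg R hR1) (R.2.1 ξ))
  have hdiv := div_add_eq_of_deg_eq hK hz0 hzL (by
    rw [Divisor.deg_single, Divisor.deg_single, Place.deg_eq_one hK P, Place.deg_eq_one hK Pinf])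
  refine ⟨ξ, ?_, hdiv⟩
  have h1 := DFunLike.congr_fun hdiv P
  rw [Finsupp.add_apply, div_apply hK, Finsupp.single_apply, Finsupp.single_apply,
    if_neg (Ne.symm hP), if_pos rfl, add_zero] at h1
  rw [Place.val_eq_exp_neg_ord P hz0, h1]

end Coord

end Groth.Agent.Lib.Helper4.FF
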