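import Mathlib
import Groth.Agent.Lib.Helper4.FF.Coord

namespace Groth.Agent.Lib.Helper4.FF

open FunFld WithZero Polynomial

section Coord2

variable {k K : Type*} [Field k] [Field K] [Algebra k K]

/-- the order of `p(x)` at `P` is the multiplicity of the root `ξ = x(P)` -/
lemma val_aeval_le_iff {x : K} {P : Place k K} (hPx : P.1 x ≤ 1) {ξ : k}
    (hξ : P.1 (x - algebraMap k K ξ) = exp (-1 : ℤ)) (p : k[X]) (n : ℕ) :
    P.1 (aeval x p) ≤ exp (-(n : ℤ)) ↔ (X - C ξ) ^ n ∣ p := by
  have hpow : ∀ m : ℕ, P.1 ((x - algebraMap k K ξ) ^ m) = exp (-(m : ℤ)) := by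
    intro m
    rw [map_pow, hξ, ← exp_nsmul]
    simp
  have haev : ∀ (m : ℕ) (q : k[X]), aeval x ((X - C ξ) ^ m * q) =
      (x - algebraMap k K ξ) ^ m * aeval x q := by
    intro m q
    simp [map_mul, map_pow, map_sub, aeval_X, aeval_C]
  constructor
  · intro h
    by_contra hnd
    have hp : p ≠ 0 := by
      rintro rfl
      exact hnd (dvd_zero _)
    set m := rootMultiplicity ξ p with hm
    have hmn : m < n := by
      by_contra hge
      exact hnd ((le_rootMultiplicity_iff hp).mp (not_lt.mp hge))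
    obtain ⟨q, hpq, hq⟩ := exists_eq_pow_rootMultiplicity_mul_and_not_dvd p hp ξ
    have hqξ : q.eval ξ ≠ 0 := by
      intro h0
      exact hq (dvd_iff_isRoot.mpr h0)
    obtain ⟨q₁, hq₁⟩ : (X - C ξ) ∣ q - C (q.eval ξ) := X_sub_C_dvd_sub_C_eval
    have hq2 : aeval x q = (x - algebraMap k K ξ) * aeval x q₁ + algebraMap k K (q.eval ξ) := by
      have : q = (X - C ξ) * q₁ + C (q.eval ξ) := by rw [← hq₁]; ring
      conv_lhs => rw [this]
      simp [map_mul, map_add, map_sub, aeval_X, aeval_C]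
    have hv1 : P.1 ((x - algebraMap k K ξ) * aeval x q₁) < 1 := by
      rw [map_mul, hξ]
      calc exp (-1 : ℤ) * P.1 (aeval x q₁) ≤ exp (-1 : ℤ) * 1 :=
            mul_le_mul_right (val_aeval_le_one P.1 P.2.1 hPx q₁) _
        _ < 1 := by rw [mul_one, ← exp_zero, exp_lt_exp]; norm_num
    have hv2 : P.1 (aeval x q) = 1 := by
      rw [hq2, Valuation.map_add_eq_of_lt_right]
      · exact Place.val_k P hqξ
      · rw [Place.val_k P hqξ]; exact hv1
    have hv3 : P.1 (aeval x p) = exp (-(m : ℤ)) := by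
      rw [hpq, haev, map_mul, hpow, hv2, mul_one]
    rw [hv3, exp_le_exp] at h
    omega
  · rintro ⟨q, rfl⟩
    rw [haev, map_mul, hpow]
    calc exp (-(n : ℤ)) * P.1 (aeval x q) ≤ exp (-(n : ℤ)) * 1 :=
          mul_le_mul_right (val_aeval_le_one P.1 P.2.1 hPx q) _
      _ = exp (-(n : ℤ)) := mul_one _

/-- membership of `p(x)` in `L(d P∞ - n P)` -/
lemma aeval_mem_L_iff {x : K} {Pinf : Place k K} (hx : IsCoord x Pinf) {P : Place k K}
    (hP : P ≠ Pinf) {ξ : k} (hξ : P.1 (x - algebraMap k K ξ) = exp (-1 : ℤ)) {p : k[X]} {d : ℕ}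
    (hp : natDegree p ≤ d) (n : ℕ) :
    aeval x p ∈ L (Finsupp.single Pinf (d : ℤ) - Finsupp.single P (n : ℤ) : Divisor k K) ↔
      (X - C ξ) ^ n ∣ p := by
  classical
  rw [← val_aeval_le_iff (hx.reg P hP) hξ p n]
  constructor
  · intro h
    have := h P
    rwa [Finsupp.sub_apply, Finsupp.single_apply, Finsupp.single_apply, if_neg (Ne.symm hP),
      if_pos rfl, zero_sub] at this
  · intro h R
    rw [Finsupp.sub_apply, Finsupp.single_apply, Finsupp.single_apply]
    by_cases hR1 : R = Pinf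
    · subst hR1
      rw [if_pos rfl, if_neg hP, sub_zero]
      have := val_aeval_le_exp R (b := 1) (by norm_num) (le_of_eq hx.pole) d p hp
      rwa [mul_one] at this
    · rw [if_neg (Ne.symm hR1)]
      by_cases hR2 : R = P
      · subst hR2
        rw [if_pos rfl, zero_sub]
        exact h
      · rw [if_neg (Ne.symm hR2), sub_zero, exp_zero]
        exact val_aeval_le_one R.1 R.2.1 (hx.reg R hR1) p

end Coord2

end Groth.Agent.Lib.Helper4.FF
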