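import Mathlib
import Groth.Agent.Lib.Helper4.FF.Weil

/-! # Miscellaneous consequences (helper4) -/

namespace Groth.Agent.Lib.Helper4.FF

open FunFld WithZero

variable {k K : Type*} [Field k] [Field K] [Algebra k K]

theorem mul_mem_L_iff (hK : IsFunctionField k K) (D : Divisor k K) {x : K} (y : K) (hx : x ≠ 0) :
    x * y ∈ L D ↔ y ∈ L (D + div k x) := by
  have key : ∀ P : Place k K, P.1 (x * y) ≤ exp (D P) ↔ P.1 y ≤ exp ((D + div k x) P) := by
    intro P
    rw [map_mul, Finsupp.add_apply, div_apply hK, Place.val_eq_exp_neg_ord P hx, exp_add]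
    have h1 : (exp (-(P.ord x)) : WithZero (Multiplicative ℤ)) * exp (P.ord x) = 1 := by
      rw [← exp_add, neg_add_cancel, exp_zero]
    have h0 : (exp (-(P.ord x)) : WithZero (Multiplicative ℤ)) ≠ 0 := exp_ne_zero
    constructor
    · intro h
      calc P.1 y = exp (P.ord x) * (exp (-(P.ord x)) * P.1 y) := by
            rw [← mul_assoc, mul_comm (exp (P.ord x)), h1, one_mul]
        _ ≤ exp (P.ord x) * exp (D P) := mul_le_mul_right h _
        _ = exp (D P) * exp (P.ord x) := mul_comm _ _
    · intro h
      calc exp (-(P.ord x)) * P.1 y ≤ exp (-(P.ord x)) * (exp (D P) * exp (P.ord x)) :=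
            mul_le_mul_right h _
        _ = exp (D P) := by
            rw [mul_comm (exp (D P)), ← mul_assoc, h1, one_mul]
  exact ⟨fun h P => (key P).mp (h P), fun h P => (key P).mpr (h P)⟩

theorem L_ne_bot_iff (hK : IsFunctionField k K) (D : Divisor k K) :
    L D ≠ ⊥ ↔ ∃ x : K, x ≠ 0 ∧ 0 ≤ D + div k x := by
  constructor
  · intro h
    obtain ⟨x, hx, hx0⟩ := Submodule.exists_mem_ne_zero_of_ne_bot h
    refine ⟨x, hx0, ?_⟩
    rw [add_comm]
    exact div_add_nonneg_of_mem_L hK hx0 hx
  · rintro ⟨x, hx0, hx⟩
    intro hbot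
    apply hx0
    have hxL : x ∈ L D := by
      intro P
      rw [Place.val_eq_exp_neg_ord P hx0, exp_le_exp]
      have := hx P
      rw [Finsupp.coe_zero, Pi.zero_apply, Finsupp.add_apply, div_apply hK] at this
      omega
    rw [hbot] at hxL
    exact (Submodule.mem_bot k).mp hxL

theorem le_isDivOf_apply_iff {ω : Module.Dual k (adele k K)} {C : Divisor k K}
    (hω : IsDivOf ω C) (P : Place k K) (e : ℤ) :
    e ≤ C P ↔ ∀ (a : Place k K → K) (ha : a ∈ adele k K),
      (∀ Q, Q ≠ P → a Q = 0) → P.1 (a P) ≤ exp e → ω ⟨a, ha⟩ = 0 := by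
  classical
  constructor
  · intro he a ha haQ haP
    have hC : ω ∈ WD C := (hω C).mpr le_rfl
    rw [mem_WD] at hC
    apply hC
    apply Submodule.mem_sup_left
    intro Q
    by_cases hQ : Q = P
    · subst hQ
      exact haP.trans (exp_le_exp.mpr he)
    · change Q.1 (a Q) ≤ _
      rw [haQ Q hQ, map_zero]
      exact zero_le
  · intro h
    by_contra hlt
    push Not at hlt
    set E : Divisor k K := C + Finsupp.single P (e - C P) with hE
    have hEP : E P = e := by
      rw [hE, Finsupp.add_apply, Finsupp.single_eq_same]; ring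
    have hEQ : ∀ Q, Q ≠ P → E Q = C Q := by
      intro Q hQ
      rw [hE, Finsupp.add_apply, Finsupp.single_apply, if_neg (Ne.symm hQ), add_zero]
    have hC : ω ∈ WD C := (hω C).mpr le_rfl
    rw [mem_WD] at hC
    have hωE : ω ∈ WD E := by
      rw [mem_WD]
      intro a ha
      obtain ⟨b, hb, c, hc, hbc⟩ := Submodule.mem_sup.mp ha
      let b'' : Place k K → K := fun Q => if Q = P then b P else 0
      let b' : Place k K → K := fun Q => if Q = P then 0 else b Q
      have hb''ad : b'' ∈ adele k K := by
        rw [mem_adele]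
        refine (Set.finite_singleton P).subset ?_
        intro Q hQ
        by_contra hQP
        apply hQ
        have : b'' Q = 0 := if_neg hQP
        rw [this, map_zero]
        exact zero_le
      have hb' : b' ∈ AD C := by
        intro Q
        by_cases hQ : Q = P
        · have : b' Q = 0 := if_pos hQ
          change Q.1 (b' Q) ≤ _
          rw [this, map_zero]
          exact zero_le
        · have : b' Q = b Q := if_neg hQ
          change Q.1 (b' Q) ≤ _
          rw [this, ← hEQ Q hQ]
          exact hb Q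
      have hsum : (a : Place k K → K) = (b' + c) + b'' := by
        rw [← hbc]
        ext Q
        by_cases hQ : Q = P
        · subst hQ; simp [b', b'', add_comm]
        · simp [b', b'', hQ]
      have hb'c : b' + c ∈ adele k K := by
        have : b' + c = (a : Place k K → K) - b'' := by rw [hsum]; abel
        rw [this]
        exact Submodule.sub_mem _ a.2 hb''ad
      have ha' : a = ⟨b' + c, hb'c⟩ + ⟨b'', hb''ad⟩ := Subtype.ext hsum
      rw [ha', map_add]
      have h1 : ω ⟨b' + c, hb'c⟩ = 0 := hC _ (Submodule.add_mem_sup hb' hc)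
      have h2 : ω ⟨b'', hb''ad⟩ = 0 := by
        apply h b'' hb''ad
        · intro Q hQ
          exact if_neg hQ
        · have : b'' P = b P := if_pos rfl
          rw [this, ← hEP]
          exact hb P
      rw [h1, h2, add_zero]
    have := (hω E).mp hωE P
    rw [hEP] at this
    omega

theorem exists_ne_zero_mem_WD (hK : IsFunctionField k K) {D : Divisor k K} (hD : 0 ≤ D)
    (hdeg : D.deg < genus k K) : ∃ ω : Module.Dual k (adele k K), ω ≠ 0 ∧ ω ∈ WD D := by
  obtain ⟨hf, hd⟩ := finrank_WD hK D
  have h1 : ell (0 : Divisor k K) ≤ ell D := ell_mono hK hD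
  rw [ell_zero hK] at h1
  have hne : WD D ≠ ⊥ := by
    intro hbot
    rw [hbot, finrank_bot] at hd
    push_cast at hd
    have : (1 : ℤ) ≤ ell D := by exact_mod_cast h1
    omega
  obtain ⟨ω, hω, hω0⟩ := Submodule.exists_mem_ne_zero_of_ne_bot hne
  exact ⟨ω, hω0, hω⟩

end Groth.Agent.Lib.Helper4.FF
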