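import Mathlib
import Groth.Agent.Lib.Helper4.FF.Coord2
import Groth.Agent.Lib.Helper4.FF.Misc

namespace Groth.Agent.Lib.Helper4.FF

open FunFld WithZero Polynomial

section Plucker

variable {k K : Type*} [Field k] [Field K] [Algebra k K] [IsAlgClosed k]

/-- on a rational function field there is a coordinate with pole at any given place -/
lemma exists_isCoord (hK : IsFunctionField k K) (hg0 : genus k K = 0) (Pinf : Place k K) :
    ∃ x : K, IsCoord x Pinf := by
  classical
  obtain ⟨P₀, hP₀⟩ := exists_place_ne hK Pinf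
  obtain ⟨x, hx0, hx⟩ := exists_div_eq_sub hK hg0 P₀ Pinf
  have hord : ∀ R : Place k K, R.ord x = (if P₀ = R then 1 else 0) - (if Pinf = R then 1 else 0) := by
    intro R
    have := DFunLike.congr_fun hx R
    rw [Finsupp.sub_apply, Finsupp.single_apply, Finsupp.single_apply, div_apply hK] at this
    exact this
  refine ⟨x, ?_, ?_⟩
  · rw [Place.val_eq_exp_neg_ord Pinf hx0, hord Pinf, if_neg hP₀, if_pos rfl]
    norm_num
  · intro P hP
    rw [← Place.ord_nonneg_iff P hx0, hord P, if_neg (Ne.symm hP)]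
    split_ifs <;> norm_num

variable [CharZero k]

/-- **Plücker inequality on a rational curve**: for a `g^r_d` `(V, D)` on a function field of genus
zero over an algebraically closed field of characteristic zero and finitely many places, the
weights `∑ₙ dim V(-nP) - r(r+1)/2` add up to at most `(r+1)(d-r)`. -/
theorem IsGrd.plucker (hK : IsFunctionField k K) (hg0 : genus k K = 0)
    {V : Submodule k K} {D : Divisor k K} {r d : ℕ} (hG : IsGrd V D r d)
    (S : Finset (Place k K)) :
    2 * ∑ P ∈ S, Svd V D P d + 2 * (r * (r + 1)) ≤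
      2 * ((r + 1) * d) + S.card * (r * (r + 1)) := by
  classical
  have hinf : Infinite k := inferInstance
  obtain ⟨Pinf, hPinf⟩ := exists_place_notMem hK S
  obtain ⟨x, hx⟩ := exists_isCoord hK hg0 Pinf
  have hxt : Transcendental k x := transcendental_of_notMem hK hx.notMem_range
  -- the values of `x`
  have hval : ∀ P : Place k K, ∃ ξ : k, P ≠ Pinf → (P.1 (x - algebraMap k K ξ) = exp (-1 : ℤ) ∧
      div k (x - algebraMap k K ξ) + Finsupp.single Pinf 1 = Finsupp.single P 1) := by
    intro P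
    by_cases hP : P = Pinf
    · exact ⟨0, fun h => absurd hP h⟩
    · obtain ⟨ξ, h1, h2⟩ := hx.exists_value hK P hP
      exact ⟨ξ, fun _ => ⟨h1, h2⟩⟩
  choose ξ hξ using hval
  have hSne : ∀ P ∈ S, P ≠ Pinf := fun P hP h => hPinf (h ▸ hP)
  have hinj : Set.InjOn ξ (S : Set (Place k K)) := by
    intro P hP P' hP' h
    have h1 := (hξ P (hSne P hP)).2
    have h2 := (hξ P' (hSne P' hP')).2
    rw [h] at h1
    rw [h1] at h2
    exact Finsupp.single_left_injective (by norm_num : (1 : ℤ) ≠ 0) h2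
  -- the function `s` with `div s + D = d P∞`
  obtain ⟨s, hs0, hs⟩ : ∃ s : K, s ≠ 0 ∧ div k s + D = Finsupp.single Pinf (d : ℤ) := by
    have hdeg : (D - Finsupp.single Pinf (d : ℤ)).deg = 0 := by
      rw [Divisor.deg_sub, Divisor.deg_single, Place.deg_eq_one hK Pinf, hG.deg]; simp
    have h1 := ell_eq_of_deg_ge hK (D := D - Finsupp.single Pinf (d : ℤ)) (by
      rw [hdeg, hg0]; norm_num)
    rw [hdeg, hg0] at h1
    have h2 : 0 < ell (D - Finsupp.single Pinf (d : ℤ)) := by
      have : ((ell (D - Finsupp.single Pinf (d : ℤ)) : ℕ) : ℤ) = 1 := by rw [h1]; norm_num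
      omega
    obtain ⟨s, hsL, hs0⟩ := exists_ne_zero_of_ell_pos h2
    refine ⟨s, hs0, div_add_eq_of_deg_eq hK hs0 hsL ?_⟩
    rw [Divisor.deg_single, Place.deg_eq_one hK Pinf, hG.deg]; simp
  -- the parametrisation
  let Ψ : k[X] →ₗ[k] K := LinearMap.mulLeft k s ∘ₗ (aeval x).toLinearMap
  have hΨ : ∀ p, Ψ p = s * aeval x p := fun p => rfl
  have hΨinj : Function.Injective Ψ := by
    rw [← LinearMap.ker_eq_bot, LinearMap.ker_eq_bot']
    intro p hp
    rw [hΨ, mul_eq_zero] at hp
    rcases hp with hp | hp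
    · exact absurd hp hs0
    · by_contra hne
      exact hxt ⟨p, hne, hp⟩
  -- `Ψ p ∈ L(D - nP)` iff `(X - ξ_P)^n ∣ p`
  have hmem : ∀ P : Place k K, P ≠ Pinf → ∀ (p : k[X]), natDegree p ≤ d → ∀ n : ℕ,
      (Ψ p ∈ L (D - Finsupp.single P (n : ℤ)) ↔ (X - C (ξ P)) ^ n ∣ p) := by
    intro P hP p hp n
    rw [hΨ, mul_mem_L_iff hK _ _ hs0, ← aeval_mem_L_iff hx hP (hξ P hP).1 hp n]
    have : D - Finsupp.single P (n : ℤ) + div k s =
        Finsupp.single Pinf (d : ℤ) - Finsupp.single P (n : ℤ) := by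
      rw [← hs]; abel
    rw [this]
  have hmem0 : ∀ (p : k[X]), natDegree p ≤ d → Ψ p ∈ L D := by
    intro p hp
    obtain ⟨P₀, hP₀⟩ := exists_place_ne hK Pinf
    have := (hmem P₀ hP₀ p hp 0).mpr (by simp)
    simpa using this
  -- `Ψ` maps polynomials of degree `≤ d` onto `L(D)`
  have hdegLT : ∀ p : k[X], p ∈ degreeLT k (d + 1) ↔ natDegree p ≤ d := by
    intro p
    rw [mem_degreeLT]
    by_cases hp : p = 0
    · subst hp; simp
    · rw [← natDegree_lt_iff_degree_lt hp]
      omega
  have hmap : (degreeLT k (d + 1)).map Ψ = L D := by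
    have := L_finite hK D
    apply Submodule.eq_of_le_of_finrank_eq
    · rintro _ ⟨p, hp, rfl⟩
      exact hmem0 p ((hdegLT p).mp hp)
    · rw [(Submodule.equivMapOfInjective Ψ hΨinj _).symm.finrank_eq,
        (degreeLTEquiv k (d + 1)).finrank_eq, Module.finrank_fin_fun]
      have h1 := ell_eq_of_deg_ge hK (D := D) (by rw [hG.deg, hg0]; omega)
      rw [hG.deg, hg0] at h1
      have : ((ell D : ℕ) : ℤ) = d + 1 := by rw [h1]; ring
      unfold FunFld.ell at this
      omega
  -- the space of polynomials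
  set W : Submodule k k[X] := degreeLT k (d + 1) ⊓ V.comap Ψ with hWdef
  have hW : ∀ f ∈ W, natDegree f ≤ d := fun f hf => (hdegLT f).mp hf.1
  have hWV : W.map Ψ = V := by
    apply le_antisymm
    · rintro _ ⟨p, hp, rfl⟩
      exact hp.2
    · intro v hv
      have : v ∈ (degreeLT k (d + 1)).map Ψ := by rw [hmap]; exact hG.le hv
      obtain ⟨p, hp, rfl⟩ := this
      exact ⟨p, ⟨hp, hv⟩, rfl⟩
  have hdim : Module.finrank k W = r + 1 := by
    rw [← hG.rank, (Submodule.equivMapOfInjective Ψ hΨinj W).finrank_eq, hWV]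
  -- the vanishing orders agree
  have hav : ∀ P ∈ S, ∀ n : ℕ, av W (ξ P) n = vd V D P (n : ℤ) := by
    intro P hP n
    have hmapeq : (W ⊓ ordSub (ξ P) n).map Ψ = V ⊓ L (D - Finsupp.single P (n : ℤ)) := by
      apply le_antisymm
      · rintro _ ⟨p, hp, rfl⟩
        refine ⟨hWV ▸ Submodule.mem_map_of_mem hp.1, ?_⟩
        exact (hmem P (hSne P hP) p (hW p hp.1) n).mpr (mem_ordSub.mp hp.2)
      · rintro v ⟨hv1, hv2⟩
        have : v ∈ W.map Ψ := by rw [hWV]; exact hv1
        obtain ⟨p, hp, rfl⟩ := this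
        refine ⟨p, ⟨hp, ?_⟩, rfl⟩
        exact mem_ordSub.mpr ((hmem P (hSne P hP) p (hW p hp) n).mp hv2)
    unfold av vd
    rw [(Submodule.equivMapOfInjective Ψ hΨinj (W ⊓ ordSub (ξ P) n)).finrank_eq, hmapeq]
  -- apply the polynomial inequality
  have := plucker_poly hW hdim (S.image ξ)
  rw [Finset.sum_image hinj, Finset.card_image_of_injOn hinj] at this
  have hsum : ∑ P ∈ S, Sw W (ξ P) d = ∑ P ∈ S, Svd V D P d := by
    apply Finset.sum_congr rfl
    intro P hP
    unfold Sw
    rw [Svd_def]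
    apply Finset.sum_congr rfl
    intro n _
    rw [hav P hP (n + 1)]
    push_cast
    rfl
  rw [hsum] at this
  exact this

end Plucker

end Groth.Agent.Lib.Helper4.FF
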