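import Mathlib
import Groth.Agent.Lib.Helper4.FF.Plucker

namespace Groth.Agent.Lib.Helper4.FF

open FunFld WithZero

section Backbone2

variable {k : Type*} [Field k] [IsAlgClosed k] [CharZero k]

/-- bounds at the node places of the two end components of a backbone -/
theorem backbone_ends
    (N : ℕ) (Z : Fin (N + 1) → Type*) [∀ i, Field (Z i)] [∀ i, Algebra k (Z i)]
    (hZ : ∀ i, IsFunctionField k (Z i)) (hrat : ∀ i, genus k (Z i) = 0)
    (d r : ℕ) (D : ∀ i, Divisor k (Z i)) (V : ∀ i, Submodule k (Z i))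
    (hG : ∀ i, IsGrd (V i) (D i) r d)
    (A B : ∀ i, Place k (Z i))
    (hAB : ∀ i : Fin (N + 1), 0 < (i : ℕ) → (i : ℕ) < N → A i ≠ B i)
    (hcomp : ∀ (l : Fin N) (m : ℕ), m ≤ d + 1 →
      vd (V l.castSucc) (D l.castSucc) (B l.castSucc) (m : ℤ) +
        vd (V l.succ) (D l.succ) (A l.succ) ((d : ℤ) + 1 - m) = r + 1)
    (T : Finset (Fin (N + 1))) (Q : ∀ i, Place k (Z i))
    (hQA : ∀ i ∈ T, 0 < (i : ℕ) → Q i ≠ A i) (hQB : ∀ i ∈ T, (i : ℕ) < N → Q i ≠ B i)
    (hcusp : ∀ i ∈ T, r ≤ vd (V i) (D i) (Q i) 2) (hN : 0 < N) :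
    (∀ i : Fin (N + 1), (i : ℕ) = 0 →
      2 * (r * T.card) + r * (r + 1) ≤
        2 * Svd (V i) (D i) (B i) d + 2 * (r * (if i ∈ T then 1 else 0))) ∧
    (∀ i : Fin (N + 1), (i : ℕ) = N →
      2 * (r * T.card) + r * (r + 1) ≤
        2 * Svd (V i) (D i) (A i) d + 2 * (r * (if i ∈ T then 1 else 0))) := by
  classical
  have : Infinite k := inferInstance
  set M := (r + 1) * d with hM
  set h := r * (r + 1) / 2 with hh
  have h2h : 2 * h = r * (r + 1) := by rw [hh, mul_comm]; exact half_mul_two r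
  let α : ℕ → ℕ := fun i => if hi : i < N + 1 then Svd (V ⟨i, hi⟩) (D ⟨i, hi⟩) (A ⟨i, hi⟩) d else 0
  let β : ℕ → ℕ := fun i => if hi : i < N + 1 then Svd (V ⟨i, hi⟩) (D ⟨i, hi⟩) (B ⟨i, hi⟩) d else 0
  let τ : ℕ → ℕ := fun i => if hi : i < N + 1 then (if (⟨i, hi⟩ : Fin (N + 1)) ∈ T then 1 else 0) else 0
  have hα : ∀ (i : ℕ) (hi : i < N + 1), α i = Svd (V ⟨i, hi⟩) (D ⟨i, hi⟩) (A ⟨i, hi⟩) d :=
    fun i hi => dif_pos hi
  have hβ : ∀ (i : ℕ) (hi : i < N + 1), β i = Svd (V ⟨i, hi⟩) (D ⟨i, hi⟩) (B ⟨i, hi⟩) d :=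
    fun i hi => dif_pos hi
  have hτ : ∀ (i : ℕ) (hi : i < N + 1), τ i = if (⟨i, hi⟩ : Fin (N + 1)) ∈ T then 1 else 0 :=
    fun i hi => dif_pos hi
  have hnode : ∀ l, l < N → β l + α (l + 1) = M := by
    intro i hi
    rw [hβ i (by omega), hα (i + 1) (by omega)]
    exact compat_sum (vd (V ⟨i, by omega⟩) (D ⟨i, by omega⟩) (B ⟨i, by omega⟩))
      (vd (V ⟨i + 1, by omega⟩) (D ⟨i + 1, by omega⟩) (A ⟨i + 1, by omega⟩))
      (fun m hm => hcomp ⟨i, hi⟩ m hm)
  have hinner : ∀ i, 0 < i → i < N → α i + β i + r * τ i ≤ M := by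
    intro i hi0 hiN
    rw [hα i (by omega), hβ i (by omega), hτ i (by omega)]
    set j : Fin (N + 1) := ⟨i, by omega⟩ with hj
    by_cases hjT : j ∈ T
    · rw [if_pos hjT, mul_one]
      exact (hG j).three_point (hZ j) (hrat j) (hAB j hi0 hiN) (hQA j hjT hi0) (hQB j hjT hiN)
        (hcusp j hjT)
    · rw [if_neg hjT, mul_zero, add_zero]
      exact Svd_two_point (hZ j) (hG j) (hAB j hi0 hiN)
  have hend : ∀ (j : Fin (N + 1)) (P : Place k (Z j)), (j ∈ T → Q j ≠ P) →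
      Svd (V j) (D j) P d + h + r * (if j ∈ T then 1 else 0) ≤ M := by
    intro j P hQP
    by_cases hjT : j ∈ T
    · rw [if_pos hjT, mul_one]
      have h1 := Svd_two_point (hZ j) (hG j) (Ne.symm (hQP hjT))
      have h2 := (hG j).Svd_cusp_lower (hZ j) (Q j) (hcusp j hjT)
      omega
    · rw [if_neg hjT, mul_zero, add_zero]
      obtain ⟨R, hR⟩ := exists_place_ne (hZ j) P
      have h1 := Svd_two_point (hZ j) (hG j) (Ne.symm hR)
      have h2 := (hG j).Svd_lower (hZ j) R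
      omega
  have hfirst : 0 < N → β 0 + h + r * τ 0 ≤ M := by
    intro hN
    rw [hβ 0 (by omega), hτ 0 (by omega)]
    exact hend ⟨0, by omega⟩ (B ⟨0, by omega⟩) (fun hT => hQB _ hT hN)
  have hlast : 0 < N → α N + h + r * τ N ≤ M := by
    intro hN
    rw [hα N (by omega), hτ N (by omega)]
    exact hend ⟨N, by omega⟩ (A ⟨N, by omega⟩) (fun hT => hQA _ hT hN)
  have hcard : psum τ (N + 1) = T.card := by
    unfold psum
    rw [← Fin.sum_univ_eq_sum_range τ (N + 1), Finset.card_eq_sum_ones]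
    have : ∀ i : Fin (N + 1), τ i = if i ∈ T then 1 else 0 := fun i => hτ i i.2
    simp only [this]
    rw [Finset.sum_ite_mem, Finset.univ_inter]
  refine ⟨?_, ?_⟩
  · intro i hi
    have h1 := backbone_right N M h r α β τ hnode hinner hlast (N - 1) 0 (by omega)
    have h3 : psum τ (0 + 1) = τ 0 := by simp [psum]
    rw [hcard, h3, hβ 0 (by omega), hτ 0 (by omega)] at h1
    obtain ⟨iv, hiv⟩ := i
    change iv = 0 at hi
    subst hi
    omega
  · intro i hi
    have h1 := backbone_left N M h r α β τ hnode hinner hfirst N hN le_rfl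
    have h3 := psum_succ τ N
    rw [hcard] at h3
    rw [hα N (by omega)] at h1
    have hτN := hτ N (by omega)
    obtain ⟨iv, hiv⟩ := i
    change iv = N at hi
    subst hi
    rw [h3, mul_add]
    rw [← hτN]
    omega

end Backbone2

end Groth.Agent.Lib.Helper4.FF
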