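import Mathlib
import Groth.Agent.Lib.Helper4.FF.Backbone2

namespace Groth.Agent.Lib.Helper4.FF

open FunFld WithZero

section Few

variable {k K : Type*} [Field k] [Field K] [Algebra k K] [IsAlgClosed k] [CharZero k]
variable {V : Submodule k K} {D : Divisor k K} {r d : ℕ}

theorem IsGrd.plucker_three (hK : IsFunctionField k K) (hg0 : genus k K = 0)
    (hG : IsGrd V D r d) {P₁ P₂ P₃ : Place k K} (h12 : P₁ ≠ P₂) (h13 : P₁ ≠ P₃) (h23 : P₂ ≠ P₃) :
    2 * (Svd V D P₁ d + Svd V D P₂ d + Svd V D P₃ d) + 2 * (r * (r + 1)) ≤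
      2 * ((r + 1) * d) + 3 * (r * (r + 1)) := by
  classical
  have := hG.plucker hK hg0 {P₁, P₂, P₃}
  rw [Finset.sum_insert (by simp [h12, h13]), Finset.sum_insert (by simp [h23]),
    Finset.sum_singleton, Finset.card_insert_of_notMem (by simp [h12, h13]),
    Finset.card_insert_of_notMem (by simp [h23]), Finset.card_singleton] at this
  omega

theorem IsGrd.plucker_four (hK : IsFunctionField k K) (hg0 : genus k K = 0)
    (hG : IsGrd V D r d) {P₁ P₂ P₃ P₄ : Place k K} (h12 : P₁ ≠ P₂) (h13 : P₁ ≠ P₃) (h14 : P₁ ≠ P₄)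
    (h23 : P₂ ≠ P₃) (h24 : P₂ ≠ P₄) (h34 : P₃ ≠ P₄) :
    2 * (Svd V D P₁ d + Svd V D P₂ d + Svd V D P₃ d + Svd V D P₄ d) + 2 * (r * (r + 1)) ≤
      2 * ((r + 1) * d) + 4 * (r * (r + 1)) := by
  classical
  have := hG.plucker hK hg0 {P₁, P₂, P₃, P₄}
  rw [Finset.sum_insert (by simp [h12, h13, h14]), Finset.sum_insert (by simp [h23, h24]),
    Finset.sum_insert (by simp [h34]),
    Finset.sum_singleton, Finset.card_insert_of_notMem (by simp [h12, h13, h14]),
    Finset.card_insert_of_notMem (by simp [h23, h24]),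
    Finset.card_insert_of_notMem (by simp [h34]), Finset.card_singleton] at this
  omega

end Few

section Final

variable {k : Type*} [Field k] [IsAlgClosed k] [CharZero k]

/-- S18181 -/
theorem backbone_tail_weight
    (N : ℕ) (Z : Fin (N + 1) → Type*) [∀ i, Field (Z i)] [∀ i, Algebra k (Z i)]
    (hZ : ∀ i, IsFunctionField k (Z i)) (hrat : ∀ i, genus k (Z i) = 0)
    (d r : ℕ) (D : ∀ i, Divisor k (Z i)) (V : ∀ i, Submodule k (Z i))
    (hG : ∀ i, IsGrd (V i) (D i) r d)
    (A B : ∀ i, Place k (Z i))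
    (hAB : ∀ i : Fin (N + 1), 0 < (i : ℕ) → (i : ℕ) < N → A i ≠ B i)
    (hcomp : ∀ (l : Fin N) (m : ℕ), m ≤ d + 1 →
      vd (V l.castSucc) (D l.castSucc) (B l.castSucc) (m : ℤ) +
        vd (V l.succ) (D l.succ) (A l.succ) ((d : ℤ) + 1 - m) = r + 1)
    (T : Finset (Fin (N + 1))) (Q : ∀ i, Place k (Z i))
    (hQA : ∀ i ∈ T, 0 < (i : ℕ) → Q i ≠ A i) (hQB : ∀ i ∈ T, (i : ℕ) < N → Q i ≠ B i)
    (hcusp : ∀ i ∈ T, r ≤ vd (V i) (D i) (Q i) 2)
    (i : Fin (N + 1)) (hiT : i ∈ T) (hi0 : 0 < (i : ℕ)) (hiN : (i : ℕ) < N) :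
    Svd (V i) (D i) (Q i) d + r * (T.erase i).card + r * (r + 1) / 2 ≤ (r + 1) * d := by
  classical
  have h1 := (backbone_facts N Z hZ hrat d r D V hG A B hAB hcomp T Q hQA hQB hcusp).2 i hi0 hiN
  rw [if_pos hiT, mul_one] at h1
  have h2 := (hG i).plucker_three (hZ i) (hrat i) (hAB i hi0 hiN) (hQA i hiT hi0).symm
    (hQB i hiT hiN).symm
  have h3 : (T.erase i).card + 1 = T.card := Finset.card_erase_add_one hiT
  rw [← h3, mul_add, mul_one] at h1
  have h4 := half_mul_two r
  omega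

/-- S18183 -/
theorem backbone_other_weight
    (N : ℕ) (Z : Fin (N + 1) → Type*) [∀ i, Field (Z i)] [∀ i, Algebra k (Z i)]
    (hZ : ∀ i, IsFunctionField k (Z i)) (hrat : ∀ i, genus k (Z i) = 0)
    (d r : ℕ) (D : ∀ i, Divisor k (Z i)) (V : ∀ i, Submodule k (Z i))
    (hG : ∀ i, IsGrd (V i) (D i) r d)
    (A B : ∀ i, Place k (Z i))
    (hAB : ∀ i : Fin (N + 1), 0 < (i : ℕ) → (i : ℕ) < N → A i ≠ B i)
    (hcomp : ∀ (l : Fin N) (m : ℕ), m ≤ d + 1 →
      vd (V l.castSucc) (D l.castSucc) (B l.castSucc) (m : ℤ) +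
        vd (V l.succ) (D l.succ) (A l.succ) ((d : ℤ) + 1 - m) = r + 1)
    (T : Finset (Fin (N + 1))) (Q : ∀ i, Place k (Z i))
    (hQA : ∀ i ∈ T, 0 < (i : ℕ) → Q i ≠ A i) (hQB : ∀ i ∈ T, (i : ℕ) < N → Q i ≠ B i)
    (hcusp : ∀ i ∈ T, r ≤ vd (V i) (D i) (Q i) 2)
    (i : Fin (N + 1)) (Q' : Place k (Z i)) (hQ'A : 0 < (i : ℕ) → Q' ≠ A i)
    (hQ'B : (i : ℕ) < N → Q' ≠ B i) (hQ'Q : i ∈ T → Q' ≠ Q i) :
    Svd (V i) (D i) Q' d + r * T.card + r * (r + 1) ≤ (r + 1) * d + r * (r + 1) / 2 := by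
  classical
  have : Infinite k := inferInstance
  have h4 := half_mul_two r
  rcases Nat.eq_zero_or_pos N with hN0 | hNpos
  · -- a single component
    have hall : ∀ j : Fin (N + 1), j = i := by
      intro j
      apply Fin.ext
      have := j.2
      have := i.2
      omega
    have hcard : T.card ≤ 1 :=
      Finset.card_le_one.mpr (fun a _ b _ => (hall a).trans (hall b).symm)
    by_cases hiT : i ∈ T
    · have hcard' : T.card = 1 := by
        have := Finset.card_pos.mpr ⟨i, hiT⟩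
        omega
      have h1 := Svd_two_point (hZ i) (hG i) (hQ'Q hiT)
      have h2 := (hG i).Svd_cusp_lower (hZ i) (Q i) (hcusp i hiT)
      rw [hcard', mul_one]
      omega
    · have hcard' : T.card = 0 := by
        rw [Finset.card_eq_zero, Finset.eq_empty_iff_forall_notMem]
        intro j hj
        exact hiT (hall j ▸ hj)
      obtain ⟨R, hR⟩ := exists_place_ne (hZ i) Q'
      have h1 := Svd_two_point (hZ i) (hG i) (Ne.symm hR)
      have h2 := (hG i).Svd_lower (hZ i) R
      rw [hcard', mul_zero]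
      omega
  · obtain ⟨hE0, hEN⟩ := backbone_ends N Z hZ hrat d r D V hG A B hAB hcomp T Q hQA hQB hcusp hNpos
    rcases Nat.eq_zero_or_pos (i : ℕ) with hi0 | hi0
    · -- first component
      have hiN : (i : ℕ) < N := by omega
      have h1 := hE0 i hi0
      by_cases hiT : i ∈ T
      · rw [if_pos hiT, mul_one] at h1
        have h2 := (hG i).plucker_three (hZ i) (hrat i) (hQB i hiT hiN).symm (hQ'B hiN).symm
          (hQ'Q hiT).symm
        have h3 := (hG i).Svd_cusp_lower (hZ i) (Q i) (hcusp i hiT)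
        omega
      · rw [if_neg hiT, mul_zero, mul_zero, add_zero] at h1
        have h2 := Svd_two_point (hZ i) (hG i) (hQ'B hiN)
        omega
    · rcases Nat.lt_or_ge (i : ℕ) N with hiN | hiN
      · -- inner component
        have h1 := (backbone_facts N Z hZ hrat d r D V hG A B hAB hcomp T Q hQA hQB hcusp).2 i
          hi0 hiN
        by_cases hiT : i ∈ T
        · rw [if_pos hiT, mul_one] at h1
          have h2 := (hG i).plucker_four (hZ i) (hrat i) (hAB i hi0 hiN) (hQA i hiT hi0).symm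
            (hQ'A hi0).symm (hQB i hiT hiN).symm (hQ'B hiN).symm (hQ'Q hiT).symm
          have h3 := (hG i).Svd_cusp_lower (hZ i) (Q i) (hcusp i hiT)
          omega
        · rw [if_neg hiT, mul_zero, add_zero] at h1
          have h2 := (hG i).plucker_three (hZ i) (hrat i) (hAB i hi0 hiN) (hQ'A hi0).symm
            (hQ'B hiN).symm
          omega
      · -- last component
        have hiN' : (i : ℕ) = N := by have := i.2; omega
        have h1 := hEN i hiN'
        by_cases hiT : i ∈ T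
        · rw [if_pos hiT, mul_one] at h1
          have h2 := (hG i).plucker_three (hZ i) (hrat i) (hQA i hiT hi0).symm (hQ'A hi0).symm
            (hQ'Q hiT).symm
          have h3 := (hG i).Svd_cusp_lower (hZ i) (Q i) (hcusp i hiT)
          omega
        · rw [if_neg hiT, mul_zero, mul_zero, add_zero] at h1
          have h2 := Svd_two_point (hZ i) (hG i) (hQ'A hi0)
          omega

end Final

end Groth.Agent.Lib.Helper4.FF
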