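import Mathlib
import Groth.Agent.Lib.Helper4.FF.Rational

/-! # Strong approximation (helper4) -/

namespace Groth.Agent.Lib.Helper4.FF

open FunFld WithZero

variable {k K : Type*} [Field k] [Field K] [Algebra k K]

section StrongApprox

lemma strong_approx_le (hK : IsFunctionField k K) (Pinf : Place k K) (S : Finset (Place k K))
    (hS : Pinf ∉ S) (x : Place k K → K) (r : Place k K → ℤ) :
    ∃ z : K, (∀ Q ∈ S, Q.1 (z - x Q) ≤ exp (-(r Q))) ∧
      ∀ Q : Place k K, Q ∉ S → Q ≠ Pinf → Q.1 z ≤ 1 := by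
  classical
  obtain ⟨N, hN⟩ := eq_genus_of_deg_ge hK
  let D₀ : Divisor k K := Finsupp.onFinset S (fun Q => if Q ∈ S then -(r Q) else 0) (by
    intro Q hQ
    by_contra h
    exact hQ (if_neg h))
  have hD₀ : ∀ Q, D₀ Q = if Q ∈ S then -(r Q) else 0 := fun Q => rfl
  set m : ℕ := (N - D₀.deg).toNat with hm
  have hmN : N - D₀.deg ≤ m := Int.self_le_toNat _
  set D : Divisor k K := D₀ + Finsupp.single Pinf (m : ℤ) with hD
  have hdP : (1 : ℤ) ≤ Pinf.deg := by exact_mod_cast Place.deg_pos hK Pinf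
  have hDdeg : N ≤ D.deg := by
    rw [hD, Divisor.deg_add, Divisor.deg_single]
    have : (0 : ℤ) ≤ m := by positivity
    nlinarith
  have hadele := adele_eq_of_delta_eq_genus hK (hN D hDdeg)
  let a : Place k K → K := fun Q => if Q ∈ S then x Q else 0
  have ha : a ∈ adele k K := by
    rw [mem_adele]
    refine S.finite_toSet.subset ?_
    intro Q hQ
    by_contra hQS
    apply hQ
    have : a Q = 0 := if_neg hQS
    rw [this, map_zero]
    exact zero_le
  rw [hadele] at ha
  obtain ⟨b, hb, c, ⟨z, rfl⟩, hbc⟩ := Submodule.mem_sup.mp ha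
  refine ⟨z, ?_, ?_⟩
  · intro Q hQ
    have h1 := hb Q
    have h2 : b Q = a Q - z := by
      have := congrFun hbc Q
      rw [Pi.add_apply, diag_apply] at this
      rw [← this]; ring
    have hQP : Pinf ≠ Q := fun h => hS (h ▸ hQ)
    have h3 : D Q = -(r Q) := by
      rw [hD, Finsupp.add_apply, hD₀, if_pos hQ, Finsupp.single_apply, if_neg hQP, add_zero]
    have h4 : a Q = x Q := if_pos hQ
    rw [h2, h3, h4, Valuation.map_sub_swap] at h1
    exact h1
  · intro Q hQ hQP
    have h1 := hb Q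
    have h2 : b Q = a Q - z := by
      have := congrFun hbc Q
      rw [Pi.add_apply, diag_apply] at this
      rw [← this]; ring
    have h3 : D Q = 0 := by
      rw [hD, Finsupp.add_apply, hD₀, if_neg hQ, Finsupp.single_apply, if_neg (Ne.symm hQP),
        add_zero]
    have h4 : a Q = 0 := if_neg hQ
    rw [h2, h3, h4, zero_sub, Valuation.map_neg, exp_zero] at h1
    exact h1

/-- **Strong approximation.** -/
theorem strong_approximation (hK : IsFunctionField k K) (Pinf : Place k K)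
    (S : Finset (Place k K)) (hS : Pinf ∉ S) (x : Place k K → K) (r : Place k K → ℤ) :
    ∃ y : K, (∀ Q ∈ S, Q.1 (y - x Q) = exp (-(r Q))) ∧
      ∀ Q : Place k K, Q ∉ S → Q ≠ Pinf → Q.1 y ≤ 1 := by
  obtain ⟨z, hz1, hz2⟩ := strong_approx_le hK Pinf S hS x (fun Q => r Q + 1)
  have hu : ∀ Q : Place k K, ∃ u : K, Q.1 u = exp (-(r Q)) := fun Q => Q.2.2 _
  choose u hu using hu
  obtain ⟨z', hz'1, hz'2⟩ := strong_approx_le hK Pinf S hS u (fun Q => r Q + 1)
  have hlt : ∀ Q : Place k K, (exp (-(r Q + 1)) : WithZero (Multiplicative ℤ)) < exp (-(r Q)) := by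
    intro Q
    rw [exp_lt_exp]; omega
  have hz'v : ∀ Q ∈ S, Q.1 z' = exp (-(r Q)) := by
    intro Q hQ
    have h1 : Q.1 (z' - u Q) < Q.1 (u Q) := by
      rw [hu Q]; exact lt_of_le_of_lt (hz'1 Q hQ) (hlt Q)
    have h2 := Valuation.map_add_eq_of_lt_left Q.1 h1
    rw [add_sub_cancel, hu Q] at h2
    exact h2
  refine ⟨z + z', ?_, ?_⟩
  · intro Q hQ
    have h1 : Q.1 (z - x Q) < Q.1 z' := by
      rw [hz'v Q hQ]; exact lt_of_le_of_lt (hz1 Q hQ) (hlt Q)
    have h2 := Valuation.map_add_eq_of_lt_left Q.1 h1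
    rw [hz'v Q hQ] at h2
    rw [← h2]
    congr 1
    ring
  · intro Q hQ hQP
    exact (Q.1.map_add _ _).trans (max_le (hz2 Q hQ hQP) (hz'2 Q hQ hQP))

theorem strong_approximation_fin (hK : IsFunctionField k K) (Pinf : Place k K) (n : ℕ)
    (P : Fin n → Place k K) (hP : Function.Injective P)
    (hinf : Pinf ∉ Set.range P) (x : Fin n → K) (m : Fin n → ℤ) :
    ∃ y : K, (∀ i, (P i).1 (y - x i) = exp (-(m i))) ∧
      ∀ Q : Place k K, Q ≠ Pinf → Q ∉ Set.range P → Q.1 y ≤ 1 := by
  classical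
  let S : Finset (Place k K) := Finset.univ.image P
  have hS : Pinf ∉ S := by
    intro h
    obtain ⟨i, -, hi⟩ := Finset.mem_image.mp h
    exact hinf ⟨i, hi⟩
  let x' : Place k K → K := fun Q => if h : ∃ i, P i = Q then x h.choose else 0
  let m' : Place k K → ℤ := fun Q => if h : ∃ i, P i = Q then m h.choose else 0
  have hch : ∀ i, ∀ h : ∃ j, P j = P i, h.choose = i := fun i h => hP h.choose_spec
  have hx' : ∀ i, x' (P i) = x i := by
    intro i
    have h : ∃ j, P j = P i := ⟨i, rfl⟩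
    change (if h : ∃ j, P j = P i then x h.choose else 0) = x i
    rw [dif_pos h, hch i h]
  have hm' : ∀ i, m' (P i) = m i := by
    intro i
    have h : ∃ j, P j = P i := ⟨i, rfl⟩
    change (if h : ∃ j, P j = P i then m h.choose else 0) = m i
    rw [dif_pos h, hch i h]
  obtain ⟨y, hy1, hy2⟩ := strong_approximation hK Pinf S hS x' m'
  refine ⟨y, ?_, ?_⟩
  · intro i
    have := hy1 (P i) (Finset.mem_image.mpr ⟨i, Finset.mem_univ _, rfl⟩)
    rwa [hx', hm'] at this
  · intro Q hQP hQ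
    apply hy2 Q _ hQP
    intro h
    obtain ⟨i, -, hi⟩ := Finset.mem_image.mp h
    exact hQ ⟨i, hi⟩

end StrongApprox

end Groth.Agent.Lib.Helper4.FF
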