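import Mathlib
import Groth.Prelude.Def_AdFn
import Groth.Agent.Lib.Helper4.FF.StrongApprox

namespace Groth.Agent.Lib.Helper4.FF

open FunFld WithZero

universe u
variable {k K : Type u} [Field k] [Field K] [Algebra k K]

/-- the adele concentrated at `P` -/
noncomputable def concAt (P : Place k K) : K →ₗ[k] (Place k K → K) := by
  classical
  exact LinearMap.single k (fun _ : Place k K => K) P

lemma concAt_apply_same (P : Place k K) (x : K) : concAt P x P = x := by
  classical
  simp [concAt]

lemma concAt_apply_ne (P : Place k K) (x : K) {Q : Place k K} (h : Q ≠ P) : concAt P x Q = 0 := by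
  classical
  simp [concAt, Pi.single_apply, h]

lemma concAt_mem_adele (P : Place k K) (x : K) : concAt P x ∈ adele k K := by
  rw [mem_adele]
  refine (Set.finite_singleton P).subset ?_
  intro Q hQ
  by_contra hQP
  apply hQ
  rw [concAt_apply_ne P x hQP, map_zero]
  exact zero_le

/-- the map `K → A / (A(0) + K)` -/
noncomputable def gapMap (P : Place k K) : K →ₗ[k] (↥(adele k K) ⧸ ADK (0 : Divisor k K)) :=
  (Submodule.mkQ _) ∘ₗ ((concAt P).codRestrict (adele k K) (concAt_mem_adele P))

lemma gapMap_ker (P : Place k K) :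
    LinearMap.ker (gapMap P) = Subalgebra.toSubmodule (AdFn.SInt ({P} : Set (Place k K))) ⊔
      Subalgebra.toSubmodule (AdFn.SInt (({P} : Set (Place k K))ᶜ)) := by
  ext x
  rw [LinearMap.mem_ker]
  change Submodule.Quotient.mk _ = 0 ↔ _
  rw [Submodule.Quotient.mk_eq_zero]
  change concAt P x ∈ AD (0 : Divisor k K) ⊔ LinearMap.range (diag k K) ↔ _
  constructor
  · intro h
    obtain ⟨b, hb, c, ⟨f, rfl⟩, hbc⟩ := Submodule.mem_sup.mp h
    rw [Submodule.mem_sup]
    refine ⟨f, ?_, x - f, ?_, by ring⟩
    · intro v hv
      have hvP : v ≠ P := by simpa using hv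
      have h1 := congrFun hbc v
      rw [Pi.add_apply, diag_apply, concAt_apply_ne P x hvP] at h1
      have h2 := hb v
      have : f = -(b v) := by rw [← sub_eq_zero]; rw [← h1]; ring
      rw [this, Valuation.map_neg]
      simpa using h2
    · intro v hv
      have hvP : v = P := by simpa using hv
      subst hvP
      have h1 := congrFun hbc v
      rw [Pi.add_apply, diag_apply, concAt_apply_same] at h1
      have h2 := hb v
      have : x - f = b v := by rw [← h1]; ring
      rw [this]
      simpa using h2
  · intro h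
    obtain ⟨f, hf, y, hy, rfl⟩ := Submodule.mem_sup.mp h
    rw [Submodule.mem_sup]
    refine ⟨concAt P (f + y) - diag k K f, ?_, diag k K f, ⟨f, rfl⟩, by abel⟩
    intro v
    by_cases hvP : v = P
    · subst hvP
      rw [Pi.sub_apply, concAt_apply_same, diag_apply, add_sub_cancel_left]
      have := hy v (by simp)
      simpa using this
    · rw [Pi.sub_apply, concAt_apply_ne _ _ hvP, diag_apply, zero_sub, Valuation.map_neg]
      have := hf v (by simpa using hvP)
      simpa using this

lemma gapMap_surjective (hK : IsFunctionField k K) (P : Place k K) :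
    Function.Surjective (gapMap P) := by
  classical
  intro q
  obtain ⟨a, rfl⟩ := Submodule.mkQ_surjective _ q
  have ha := a.2
  rw [mem_adele] at ha
  set S : Finset (Place k K) := ha.toFinset.erase P with hS
  obtain ⟨f, hf1, hf2⟩ := strong_approx_le hK P S (by simp [hS]) (a : Place k K → K) (fun _ => 0)
  refine ⟨(a : Place k K → K) P - f, ?_⟩
  change Submodule.Quotient.mk _ = Submodule.Quotient.mk _
  rw [Submodule.Quotient.eq]
  change concAt P ((a : Place k K → K) P - f) - (a : Place k K → K) ∈
    AD (0 : Divisor k K) ⊔ LinearMap.range (diag k K)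
  rw [Submodule.mem_sup]
  refine ⟨concAt P ((a : Place k K → K) P - f) - (a : Place k K → K) + diag k K f, ?_,
    -(diag k K f), Submodule.neg_mem _ ⟨f, rfl⟩, by abel⟩
  intro v
  by_cases hvP : v = P
  · subst hvP
    rw [Pi.add_apply, Pi.sub_apply, concAt_apply_same, diag_apply]
    simp
  · rw [Pi.add_apply, Pi.sub_apply, concAt_apply_ne _ _ hvP, diag_apply, zero_sub, neg_add_eq_sub]
    by_cases hvS : v ∈ S
    · have := hf1 v hvS
      simpa using this
    · have h1 := hf2 v hvS hvP
      have h2 : v.1 ((a : Place k K → K) v) ≤ 1 := by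
        by_contra hcon
        apply hvS
        rw [hS, Finset.mem_erase]
        exact ⟨hvP, by rw [Set.Finite.mem_toFinset]; exact hcon⟩
      refine (Valuation.map_sub _ _ _).trans ?_
      simpa using max_le h1 h2

theorem gap_finrank (hK : IsFunctionField k K) (P : Place k K) :
    FiniteDimensional k (K ⧸ (Subalgebra.toSubmodule (AdFn.SInt ({P} : Set (Place k K))) ⊔
        Subalgebra.toSubmodule (AdFn.SInt (({P} : Set (Place k K))ᶜ)))) ∧
    Module.finrank k (K ⧸ (Subalgebra.toSubmodule (AdFn.SInt ({P} : Set (Place k K))) ⊔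
        Subalgebra.toSubmodule (AdFn.SInt (({P} : Set (Place k K))ᶜ)))) = genus k K := by
  obtain ⟨e, he, hrel⟩ := isRelDim_adele hK (0 : Divisor k K)
  obtain ⟨hf, hd⟩ := hrel.quotient
  change Module.Finite k (↥(adele k K) ⧸ ADK (0 : Divisor k K)) at hf
  change Module.finrank k (↥(adele k K) ⧸ ADK (0 : Divisor k K)) = e at hd
  rw [Divisor.deg_zero, ell_zero hK] at he
  have he' : e = genus k K := by
    have : (e : ℤ) = genus k K := by rw [he]; push_cast; ring
    exact_mod_cast this
  let φ := (gapMap P).quotKerEquivOfSurjective (gapMap_surjective hK P)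
  let ψ := Submodule.quotEquivOfEq _ _ (gapMap_ker P)
  let χ := ψ.symm.trans φ
  exact ⟨Module.Finite.equiv χ.symm, by rw [χ.finrank_eq, hd, he']⟩

end Groth.Agent.Lib.Helper4.FF
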