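import Mathlib
import Groth.Agent.Lib.Helper4.FF.Weierstrass
import Groth.Agent.Lib.Helper4.FF.LLS

namespace Groth.Agent.Lib.Helper4.FF

open FunFld WithZero

section OrdIndep

variable {k K : Type*} [Field k] [Field K] [Algebra k K]

/-- nonzero elements with pairwise distinct orders at a place are linearly independent -/
lemma linearIndependent_of_ord_injective (P : Place k K) {ι : Type*} (v : ι → K)
    (hv0 : ∀ i, v i ≠ 0) (hinj : Function.Injective (fun i => P.ord (v i))) :
    LinearIndependent k v := by
  classical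
  rw [linearIndependent_iff']
  intro s c hsum i hi
  by_contra hci
  set T := s.filter (fun j => c j ≠ 0) with hT
  have hTne : T.Nonempty := ⟨i, by rw [hT, Finset.mem_filter]; exact ⟨hi, hci⟩⟩
  have hsum' : ∑ j ∈ T, c j • v j = 0 := by
    rw [← hsum, hT, Finset.sum_filter]
    apply Finset.sum_congr rfl
    intro j _
    split_ifs with h
    · rfl
    · push Not at h
      rw [h, zero_smul]
  have hne : ∀ j ∈ T, c j • v j ≠ 0 := by
    intro j hj
    rw [hT, Finset.mem_filter] at hj
    exact smul_ne_zero hj.2 (hv0 j)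
  obtain ⟨i₀, hi₀, h⟩ := exists_val_sum_eq P.1 T hTne (fun j => c j • v j) (by
    intro a ha b hb hab
    rw [hT, Finset.mem_filter] at ha hb
    apply hinj
    simp only
    rw [Algebra.smul_def, Algebra.smul_def, map_mul, map_mul, Place.val_k P ha.2,
      Place.val_k P hb.2, one_mul, one_mul] at hab
    rw [Place.val_eq_exp_neg_ord P (hv0 a), Place.val_eq_exp_neg_ord P (hv0 b)] at hab
    have := exp_injective hab
    omega)
  rw [hsum', map_zero] at h
  exact hne i₀ hi₀ ((map_eq_zero P.1).mp h.symm)

end OrdIndep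

section Genus1Basis

variable {k K : Type*} [Field k] [Field K] [Algebra k K]

theorem basis_L_genus_one (hK : IsFunctionField k K) (hgen : genus k K = 1)
    (P : Place k K) (hP : P.deg = 1) (f g : K)
    (hf : f ∈ L (Finsupp.single P 2 : Divisor k K)) (hf2 : P.ord f = -2)
    (hg : g ∈ L (Finsupp.single P 3 : Divisor k K)) (hg3 : P.ord g = -3) (n : ℕ) (hn : 2 ≤ n) :
    LinearIndependent k
        (Sum.elim (fun i : Fin (n / 2 + 1) => f ^ (i : ℕ)) (fun i : Fin ((n - 1) / 2) => f ^ (i : ℕ) * g)) ∧
      Submodule.span k (Set.range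
        (Sum.elim (fun i : Fin (n / 2 + 1) => f ^ (i : ℕ)) (fun i : Fin ((n - 1) / 2) => f ^ (i : ℕ) * g))) =
        L (Finsupp.single P (n : ℤ) : Divisor k K) := by
  classical
  set b : Fin (n / 2 + 1) ⊕ Fin ((n - 1) / 2) → K :=
    Sum.elim (fun i : Fin (n / 2 + 1) => f ^ (i : ℕ)) (fun i : Fin ((n - 1) / 2) => f ^ (i : ℕ) * g)
    with hb
  have hf0 : f ≠ 0 := by
    rintro rfl
    simp [FunFld.Place.ord] at hf2
  have hg0 : g ≠ 0 := by
    rintro rfl
    simp [FunFld.Place.ord] at hg3
  have hb0 : ∀ i, b i ≠ 0 := by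
    rintro (i | i)
    · exact pow_ne_zero _ hf0
    · exact mul_ne_zero (pow_ne_zero _ hf0) hg0
  have hord : ∀ i, P.ord (b i) = Sum.elim (fun i : Fin (n / 2 + 1) => -(2 * (i : ℤ)))
      (fun i : Fin ((n - 1) / 2) => -(2 * (i : ℤ) + 3)) i := by
    rintro (i | i)
    · simp only [hb, Sum.elim_inl]
      rw [Place.ord_pow, hf2]; ring
    · simp only [hb, Sum.elim_inr]
      rw [Place.ord_mul P (pow_ne_zero _ hf0) hg0, Place.ord_pow, hf2, hg3]; ring
  have hinj : Function.Injective (fun i => P.ord (b i)) := by
    intro i j hij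
    simp only [hord] at hij
    rcases i with i | i <;> rcases j with j | j <;> simp only [Sum.elim_inl, Sum.elim_inr] at hij
    · congr 1; apply Fin.ext; omega
    · omega
    · omega
    · congr 1; apply Fin.ext; omega
  have hli := linearIndependent_of_ord_injective P b hb0 hinj
  refine ⟨hli, ?_⟩
  -- members of `L(nP)`
  have hmemf : ∀ i : ℕ, f ^ i ∈ L (Finsupp.single P ((2 * i : ℕ) : ℤ) : Divisor k K) := by
    intro i
    induction i with
    | zero =>
      simp only [pow_zero, Nat.mul_zero, Nat.cast_zero, Finsupp.single_zero]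
      rw [L_zero hK]
      exact Submodule.one_le.mp le_rfl
    | succ i ih =>
      rw [pow_succ]
      have := mul_mem_L_add ih hf
      rw [← Finsupp.single_add] at this
      have e : ((2 * (i + 1) : ℕ) : ℤ) = ((2 * i : ℕ) : ℤ) + 2 := by push_cast; ring
      rw [e]
      exact this
  have hmem : ∀ i, b i ∈ L (Finsupp.single P (n : ℤ) : Divisor k K) := by
    rintro (i | i)
    · simp only [hb, Sum.elim_inl]
      refine L_mono (single_le_single P ?_) (hmemf i)
      have := i.2
      push_cast
      omega
    · simp only [hb, Sum.elim_inr]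
      have := mul_mem_L_add (hmemf i) hg
      rw [← Finsupp.single_add] at this
      refine L_mono (single_le_single P ?_) this
      have := i.2
      push_cast
      omega
  have hfin := L_finite hK (Finsupp.single P (n : ℤ) : Divisor k K)
  apply Submodule.eq_of_le_of_finrank_eq
  · rw [Submodule.span_le]
    rintro _ ⟨i, rfl⟩
    exact hmem i
  · rw [finrank_span_eq_card hli]
    have h1 := ell_eq_of_deg_ge hK (D := (Finsupp.single P (n : ℤ) : Divisor k K)) (by
      rw [Divisor.deg_single, hP, hgen]; push_cast; omega)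
    rw [Divisor.deg_single, hP, hgen] at h1
    have h2 : ell (Finsupp.single P (n : ℤ) : Divisor k K) = n := by
      have : ((ell (Finsupp.single P (n : ℤ) : Divisor k K) : ℕ) : ℤ) = n := by rw [h1]; push_cast; ring
      exact_mod_cast this
    unfold FunFld.ell at h2
    rw [h2, Fintype.card_sum, Fintype.card_fin, Fintype.card_fin]
    omega

end Genus1Basis

end Groth.Agent.Lib.Helper4.FF
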