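import Mathlib
import Groth.Agent.Lib.Helper4.FF.Genus1Basis

namespace Groth.Agent.Lib.Helper4.FF

open FunFld WithZero

section S17248

variable {k K : Type*} [Field k] [Field K] [Algebra k K] [IsAlgClosed k]

lemma ell_single_genus_one (hK : IsFunctionField k K) (hg1 : genus k K = 1) (A : Place k K)
    {m : ℕ} (hm : 1 ≤ m) : ell (Finsupp.single A (m : ℤ) : Divisor k K) = m := by
  have hP := Place.deg_eq_one hK A
  have h1 := ell_eq_of_deg_ge hK (D := (Finsupp.single A (m : ℤ) : Divisor k K)) (by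
    rw [Divisor.deg_single, hP, hg1]; push_cast; omega)
  rw [Divisor.deg_single, hP, hg1] at h1
  have : ((ell (Finsupp.single A (m : ℤ) : Divisor k K) : ℕ) : ℤ) = m := by rw [h1]; push_cast; ring
  exact_mod_cast this

theorem weight_at_pole_genus_one (hK : IsFunctionField k K) (hg1 : genus k K = 1)
    (g : ℕ) (h3 : 3 ≤ g) (A : Place k K)
    (V₁ : Submodule k K) (hlo : L (Finsupp.single A ((g : ℤ) - 2) : Divisor k K) ≤ V₁)
    (hhi : V₁ ≤ L (Finsupp.single A (g : ℤ))) (hdim : Module.finrank k ↥V₁ + 1 = g) :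
    ∃ ε : ℕ, ε ≤ 1 ∧
      (∑ n ∈ Finset.range (2 * g - 2), Module.finrank k
        ↥(V₁ ⊓ L (Finsupp.single A (2 * (g : ℤ) - 2) - Finsupp.single A ((n : ℤ) + 1)))) =
      (g - 1).choose 2 + (g - 1) ^ 2 + ε := by
  classical
  obtain ⟨e, rfl⟩ : ∃ e, g = e + 3 := ⟨g - 3, by omega⟩
  set F : ℕ → ℕ := fun m => Module.finrank k ↥(V₁ ⊓ L (Finsupp.single A (m : ℤ) : Divisor k K)) with hF
  have hfinV : Module.Finite k V₁ := by
    have := L_finite hK (Finsupp.single A ((e + 3 : ℕ) : ℤ) : Divisor k K)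
    exact Module.Finite.of_injective (Submodule.inclusion hhi) (Submodule.inclusion_injective hhi)
  -- reindex the sum
  have hsum : (∑ n ∈ Finset.range (2 * (e + 3) - 2), Module.finrank k
        ↥(V₁ ⊓ L (Finsupp.single A (2 * ((e + 3 : ℕ) : ℤ) - 2) - Finsupp.single A ((n : ℤ) + 1)))) =
      ∑ m ∈ Finset.range (2 * e + 4), F m := by
    have e1 : 2 * (e + 3) - 2 = 2 * e + 4 := by omega
    rw [e1, ← Finset.sum_range_reflect]
    apply Finset.sum_congr rfl
    intro n hn
    rw [Finset.mem_range] at hn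
    simp only [hF]
    rw [← Finsupp.single_sub]
    have e5 : 2 * ((e + 3 : ℕ) : ℤ) - 2 - (((2 * e + 4 - 1 - n : ℕ) : ℤ) + 1) = (n : ℤ) := by omega
    rw [e5]
  rw [hsum]
  -- the three ranges
  have hlow : ∀ m, m ≤ e + 1 → F m = if m = 0 then 1 else m := by
    intro m hm
    have hle : L (Finsupp.single A (m : ℤ) : Divisor k K) ≤ V₁ := by
      refine le_trans (L_mono (single_le_single A ?_)) hlo
      push_cast; omega
    simp only [hF]
    rw [inf_eq_right.mpr hle]
    split_ifs with h0
    · subst h0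
      have : (Finsupp.single A ((0 : ℕ) : ℤ) : Divisor k K) = 0 := by simp
      rw [this]
      exact ell_zero hK
    · exact ell_single_genus_one hK hg1 A (by omega)
  have hhigh : ∀ m, e + 3 ≤ m → F m = e + 2 := by
    intro m hm
    have hle : V₁ ≤ L (Finsupp.single A (m : ℤ) : Divisor k K) := by
      refine le_trans hhi (L_mono (single_le_single A ?_))
      push_cast; omega
    simp only [hF]
    rw [inf_eq_left.mpr hle]
    omega
  have hmid1 : e + 1 ≤ F (e + 2) := by
    have h1 := hlow (e + 1) le_rfl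
    rw [if_neg (by omega)] at h1
    rw [← h1]
    simp only [hF]
    have := finite_inf_L hK V₁ (Finsupp.single A ((e + 2 : ℕ) : ℤ) : Divisor k K)
    apply Submodule.finrank_mono
    apply inf_le_inf_left
    exact L_mono (single_le_single A (by push_cast; omega))
  have hmid2 : F (e + 2) ≤ e + 2 := by
    simp only [hF]
    have : Module.finrank k ↥(V₁ ⊓ L (Finsupp.single A ((e + 2 : ℕ) : ℤ) : Divisor k K)) ≤
        Module.finrank k V₁ := Submodule.finrank_mono inf_le_left
    omega
  refine ⟨F (e + 2) - (e + 1), by omega, ?_⟩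
  have e2 : 2 * e + 4 = (e + 2) + 1 + (e + 1) := by ring
  rw [e2, Finset.sum_range_add, Finset.sum_range_succ]
  have hA : ∑ m ∈ Finset.range (e + 2), F m = 1 + (e + 2).choose 2 := by
    have : ∀ m ∈ Finset.range (e + 2), F m = m + (if m = 0 then 1 else 0) := by
      intro m hm
      rw [Finset.mem_range] at hm
      rw [hlow m (by omega)]
      split_ifs <;> omega
    rw [Finset.sum_congr rfl this, Finset.sum_add_distrib, Finset.sum_ite_eq' (Finset.range (e + 2)) 0,
      if_pos (by simp), Finset.sum_range_id, Nat.choose_two_right]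
    ring
  have hC : ∑ j ∈ Finset.range (e + 1), F (e + 2 + 1 + j) = (e + 1) * (e + 2) := by
    rw [Finset.sum_congr rfl (fun j _ => hhigh (e + 2 + 1 + j) (by omega))]
    simp
  rw [hA, hC]
  have e3 : e + 3 - 1 = e + 2 := by omega
  rw [e3]
  have : (e + 2) ^ 2 = (e + 1) * (e + 2) + e + 2 := by ring
  rw [this]
  omega

end S17248

end Groth.Agent.Lib.Helper4.FF
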