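import Mathlib
import Groth.Agent.Lib.Helper4.FF.Gaps3

namespace Groth.Agent.Lib.Helper4.FF

open FunFld WithZero

section Genus2

variable {k K : Type*} [Field k] [Field K] [Algebra k K]

lemma exists_div_of_deg_zero (hK : IsFunctionField k K) {D : Divisor k K} (hdeg : D.deg = 0)
    (hell : 1 ≤ ell D) : ∃ u : K, u ≠ 0 ∧ div k u + D = 0 := by
  obtain ⟨u, hu, hu0⟩ := exists_ne_zero_of_ell_pos (D := D) (by omega)
  refine ⟨u, hu0, ?_⟩
  apply Divisor.eq_zero_of_nonneg_of_deg_le hK (div_add_nonneg_of_mem_L hK hu0 hu)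
  rw [Divisor.deg_add, deg_div hK, hdeg]; norm_num

lemma deg_single_single [IsAlgClosed k] (hK : IsFunctionField k K) (P : Place k K) (n : ℤ) :
    Divisor.deg (Finsupp.single P n : Divisor k K) = n := by
  rw [Divisor.deg_single, Place.deg_eq_one hK P]; simp

variable [IsAlgClosed k]

/-- S17249 -/
theorem genus_two_no_weight_three_a (hK : IsFunctionField k K) (hg : genus k K = 2)
    (C : Divisor k K) (hC : IsCanonical k K C)
    (A P Q : Place k K) (hA : ell (Finsupp.single A (2 : ℤ) : Divisor k K) = 1) (hQ : Q ≠ A) :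
    ell (C + Finsupp.single A (2 : ℤ) - Finsupp.single P (1 : ℤ) - Finsupp.single Q (1 : ℤ)) ≠ 2 := by
  classical
  intro h2
  have hdC := deg_canonical hK hC
  rw [hg] at hdC
  have hrr := riemann_roch hK hC
    (C + Finsupp.single A (2 : ℤ) - Finsupp.single P (1 : ℤ) - Finsupp.single Q (1 : ℤ))
  rw [h2, hg] at hrr
  simp only [Divisor.deg_sub, Divisor.deg_add, deg_single_single hK, hdC] at hrr
  set E : Divisor k K := C - (C + Finsupp.single A (2 : ℤ) - Finsupp.single P (1 : ℤ) -
    Finsupp.single Q (1 : ℤ)) with hE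
  have hEl : 1 ≤ ell E := by push_cast at hrr; omega
  have hEdeg : E.deg = 0 := by
    rw [hE]
    simp only [Divisor.deg_sub, Divisor.deg_add, deg_single_single hK, hdC]
    norm_num
  obtain ⟨u, hu0, hu⟩ := exists_div_of_deg_zero hK hEdeg hEl
  -- `u⁻¹ ∈ L(2A)`, hence constant
  have hdivu : div k u⁻¹ + Finsupp.single A (2 : ℤ) =
      Finsupp.single P (1 : ℤ) + Finsupp.single Q (1 : ℤ) := by
    rw [div_inv hK]
    have : -div k u = E := by
      rw [← sub_eq_zero, ← neg_eq_zero]
      rw [← hu]; abel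
    rw [this, hE]; abel
  have hui0 : u⁻¹ ≠ 0 := inv_ne_zero hu0
  have huL : u⁻¹ ∈ L (Finsupp.single A (2 : ℤ) : Divisor k K) := by
    intro R
    rw [Place.val_eq_exp_neg_ord R hui0, exp_le_exp]
    have := DFunLike.congr_fun hdivu R
    rw [Finsupp.add_apply, div_apply hK, Finsupp.add_apply] at this
    have hp : (0 : ℤ) ≤ (Finsupp.single P (1 : ℤ) : Divisor k K) R := by
      rw [Finsupp.single_apply]; split_ifs <;> norm_num
    have hq : (0 : ℤ) ≤ (Finsupp.single Q (1 : ℤ) : Divisor k K) R := by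
      rw [Finsupp.single_apply]; split_ifs <;> norm_num
    omega
  have hconst : u⁻¹ ∈ L (0 : Divisor k K) := by
    have hle : L (0 : Divisor k K) ≤ L (Finsupp.single A (2 : ℤ) : Divisor k K) :=
      L_mono (by rw [← Finsupp.single_zero A]; exact single_le_single A (by norm_num))
    have hfin := L_finite hK (Finsupp.single A (2 : ℤ) : Divisor k K)
    have heq := Submodule.eq_of_le_of_finrank_eq hle (by
      change ell (0 : Divisor k K) = ell (Finsupp.single A (2 : ℤ) : Divisor k K)
      rw [ell_zero hK, hA])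
    rw [heq]; exact huL
  rw [L_zero hK, Submodule.mem_one] at hconst
  obtain ⟨c, hc⟩ := hconst
  rw [← hc, div_eq_zero_of_mem_range hK ⟨c, rfl⟩, zero_add] at hdivu
  have := DFunLike.congr_fun hdivu Q
  simp only [Finsupp.add_apply, Finsupp.single_apply, if_neg (Ne.symm hQ), if_true] at this
  split_ifs at this <;> omega

end Genus2

end Groth.Agent.Lib.Helper4.FF
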