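import Mathlib
import Groth.Agent.Lib.Helper4.FF.Genus2a
import Groth.Agent.Lib.Helper4.FF.Misc

namespace Groth.Agent.Lib.Helper4.FF

open FunFld WithZero

section Genus2b

variable {k K : Type*} [Field k] [Field K] [Algebra k K] [IsAlgClosed k]

omit [IsAlgClosed k] in
/-- `L(C) = L(C + F)` for an effective `F` of degree one (genus two) -/
lemma L_canonical_add_eq (hK : IsFunctionField k K) (hg : genus k K = 2)
    {C : Divisor k K} (hC : IsCanonical k K C) {F : Divisor k K} (hF : 0 ≤ F) (hFd : F.deg = 1) :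
    L C = L (C + F) := by
  have hdC := deg_canonical hK hC
  rw [hg] at hdC
  have hle : L C ≤ L (C + F) := L_mono (le_add_of_nonneg_right hF)
  have hfin := L_finite hK (C + F)
  apply Submodule.eq_of_le_of_finrank_eq hle
  change ell C = ell (C + F)
  rw [ell_canonical hK hC, hg]
  have h1 := ell_eq_of_deg_ge hK (D := C + F) (by
    rw [Divisor.deg_add, hdC, hFd, hg]; norm_num)
  rw [Divisor.deg_add, hdC, hFd, hg] at h1
  have : ((ell (C + F) : ℕ) : ℤ) = 2 := by rw [h1]; norm_num
  exact_mod_cast this.symm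

/-- S17250 -/
theorem genus_two_no_weight_three_b (hK : IsFunctionField k K) (hg : genus k K = 2)
    (C : Divisor k K) (hC : IsCanonical k K C)
    (A P Q : Place k K) (hP : P ≠ A) :
    ¬ (ell (C + Finsupp.single A (3 : ℤ) - Finsupp.single P (1 : ℤ) - Finsupp.single Q (4 : ℤ)) = 1 ∧
       ell (C + Finsupp.single A (3 : ℤ) - Finsupp.single P (1 : ℤ) - Finsupp.single Q (2 : ℤ)) = 2) := by
  classical
  rintro ⟨h1, h2⟩
  have hdC := deg_canonical hK hC
  rw [hg] at hdC
  set E : Divisor k K :=
    C + Finsupp.single A (3 : ℤ) - Finsupp.single P (1 : ℤ) - Finsupp.single Q (2 : ℤ) with hE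
  have hrr := riemann_roch hK hC E
  have hEdeg : E.deg = 2 := by
    rw [hE]
    simp only [Divisor.deg_sub, Divisor.deg_add, deg_single_single hK, hdC]
    norm_num
  rw [h2, hg, hEdeg] at hrr
  have hCE : 1 ≤ ell (C - E) := by push_cast at hrr; omega
  obtain ⟨u, hu0, hu⟩ := exists_div_of_deg_zero hK (D := C - E) (by
    rw [Divisor.deg_sub, hdC, hEdeg]; norm_num) hCE
  have hdivu : div k u = E - C := by
    have : div k u = (div k u + (C - E)) + (E - C) := by abel
    rw [this, hu, zero_add]
  -- the second condition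
  have hE' : C + Finsupp.single A (3 : ℤ) - Finsupp.single P (1 : ℤ) - Finsupp.single Q (4 : ℤ) =
      (C - Finsupp.single Q (2 : ℤ)) + div k u := by
    rw [hdivu, hE]
    have : (Finsupp.single Q (4 : ℤ) : Divisor k K) =
        Finsupp.single Q (2 : ℤ) + Finsupp.single Q (2 : ℤ) := by
      rw [← Finsupp.single_add]; norm_num
    rw [this]; abel
  rw [hE', ell_add_div hK _ hu0] at h1
  obtain ⟨w, hw0, hw⟩ := exists_div_of_deg_zero hK (D := C - Finsupp.single Q (2 : ℤ)) (by
    rw [Divisor.deg_sub, hdC, deg_single_single hK]; norm_num) (by omega)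
  -- `3A - P = C + div (u w)`
  have hmain : (Finsupp.single A (3 : ℤ) - Finsupp.single P (1 : ℤ) : Divisor k K) =
      C + div k (u * w) := by
    rw [div_mul hK hu0 hw0, hdivu, hE]
    have : div k w = (div k w + (C - Finsupp.single Q (2 : ℤ))) - (C - Finsupp.single Q (2 : ℤ)) := by
      abel
    rw [this, hw]; abel
  have huw0 : u * w ≠ 0 := mul_ne_zero hu0 hw0
  -- `1 ∈ L(3A)`
  have h1mem : (1 : K) ∈ L (Finsupp.single A (3 : ℤ) : Divisor k K) := by
    have : (1 : K) ∈ L (0 : Divisor k K) := by
      rw [L_zero hK]; exact Submodule.one_le.mp le_rfl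
    refine L_mono ?_ this
    rw [← Finsupp.single_zero A]; exact single_le_single A (by norm_num)
  have e3A : (Finsupp.single A (3 : ℤ) : Divisor k K) =
      (C + Finsupp.single P (1 : ℤ)) + div k (u * w) := by
    have : (Finsupp.single A (3 : ℤ) : Divisor k K) =
        (Finsupp.single A (3 : ℤ) - Finsupp.single P (1 : ℤ)) + Finsupp.single P (1 : ℤ) := by abel
    rw [this, hmain]; abel
  rw [e3A, ← mul_mem_L_iff hK _ _ huw0, mul_one] at h1mem
  have hPF : (0 : Divisor k K) ≤ Finsupp.single P (1 : ℤ) := by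
    rw [← Finsupp.single_zero P]; exact single_le_single P (by norm_num)
  rw [← L_canonical_add_eq hK hg hC hPF (by rw [deg_single_single hK])] at h1mem
  have hnn := div_add_nonneg_of_mem_L hK huw0 h1mem
  rw [add_comm, ← hmain] at hnn
  have := hnn P
  simp only [Finsupp.zero_apply, Finsupp.sub_apply, Finsupp.single_apply, if_true,
    if_neg (Ne.symm hP)] at this
  omega

end Genus2b

end Groth.Agent.Lib.Helper4.FF
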