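import Mathlib
import Groth.Agent.Lib.Helper4.FF.Genus2b

namespace Groth.Agent.Lib.Helper4.FF

open FunFld WithZero

section Genus2c

variable {k K : Type*} [Field k] [Field K] [Algebra k K] [IsAlgClosed k]

/-- S17251 -/
theorem genus_two_no_common_ramification (hK : IsFunctionField k K) (hg : genus k K = 2)
    (C : Divisor k K) (hC : IsCanonical k K C)
    (B Q : Place k K) (hB : ell (Finsupp.single B (2 : ℤ) : Divisor k K) = 1) (hQ : Q ≠ B) :
    ¬ (ell (C + Finsupp.single B (1 : ℤ) - Finsupp.single Q (2 : ℤ)) = 1 ∧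
       ell (C + Finsupp.single B (3 : ℤ) - Finsupp.single Q (4 : ℤ)) = 1) := by
  classical
  rintro ⟨h1, h2⟩
  have hdC := deg_canonical hK hC
  rw [hg] at hdC
  -- step 1: `ℓ(2Q - B) = 1`
  have hrr1 := riemann_roch hK hC (C + Finsupp.single B (1 : ℤ) - Finsupp.single Q (2 : ℤ))
  rw [h1, hg] at hrr1
  simp only [Divisor.deg_sub, Divisor.deg_add, deg_single_single hK, hdC] at hrr1
  have e1 : C - (C + Finsupp.single B (1 : ℤ) - Finsupp.single Q (2 : ℤ)) =
      Finsupp.single Q (2 : ℤ) - Finsupp.single B (1 : ℤ) := by abel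
  rw [e1] at hrr1
  have h2QB : 1 ≤ ell (Finsupp.single Q (2 : ℤ) - Finsupp.single B (1 : ℤ) : Divisor k K) := by
    push_cast at hrr1; omega
  -- step 2: `ℓ(2Q) ≥ 2`
  have h2Q : 2 ≤ ell (Finsupp.single Q (2 : ℤ) : Divisor k K) := by
    have hle : L (Finsupp.single Q (2 : ℤ) - Finsupp.single B (1 : ℤ) : Divisor k K) ≤
        L (Finsupp.single Q (2 : ℤ) : Divisor k K) := by
      apply L_mono
      have : (0 : Divisor k K) ≤ Finsupp.single B (1 : ℤ) := by
        rw [← Finsupp.single_zero B]; exact single_le_single B (by norm_num)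
      exact sub_le_self _ this
    have hfin := L_finite hK (Finsupp.single Q (2 : ℤ) : Divisor k K)
    have hlt : L (Finsupp.single Q (2 : ℤ) - Finsupp.single B (1 : ℤ) : Divisor k K) <
        L (Finsupp.single Q (2 : ℤ) : Divisor k K) := by
      refine lt_of_le_of_ne hle ?_
      intro heq
      have h1mem : (1 : K) ∈ L (Finsupp.single Q (2 : ℤ) : Divisor k K) := by
        have : (1 : K) ∈ L (0 : Divisor k K) := by
          rw [L_zero hK]; exact Submodule.one_le.mp le_rfl
        refine L_mono ?_ this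
        rw [← Finsupp.single_zero Q]; exact single_le_single Q (by norm_num)
      rw [← heq] at h1mem
      have := h1mem B
      rw [map_one, Finsupp.sub_apply, Finsupp.single_apply, Finsupp.single_apply, if_neg hQ,
        if_pos rfl, ← exp_zero, exp_le_exp] at this
      omega
    have := Submodule.finrank_lt_finrank_of_lt hlt
    unfold FunFld.ell at h2QB ⊢
    omega
  -- step 3: `C ~ 2Q`
  have hrr2 := riemann_roch hK hC (Finsupp.single Q (2 : ℤ) : Divisor k K)
  rw [hg, deg_single_single hK] at hrr2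
  have hC2Q : 1 ≤ ell (C - Finsupp.single Q (2 : ℤ)) := by
    have : (2 : ℤ) ≤ ell (Finsupp.single Q (2 : ℤ) : Divisor k K) := by exact_mod_cast h2Q
    push_cast at hrr2
    omega
  obtain ⟨u, hu0, hu⟩ := exists_div_of_deg_zero hK (D := C - Finsupp.single Q (2 : ℤ)) (by
    rw [Divisor.deg_sub, hdC, deg_single_single hK]; norm_num) hC2Q
  have h2Qeq : (Finsupp.single Q (2 : ℤ) : Divisor k K) = C + div k u := by
    have : (Finsupp.single Q (2 : ℤ) : Divisor k K) =
        C + (div k u - (div k u + (C - Finsupp.single Q (2 : ℤ)))) := by abel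
    rw [this, hu, sub_zero]
  -- step 4: `ℓ(3B - C) = 1`
  have hu20 : u ^ 2 ≠ 0 := pow_ne_zero 2 hu0
  have e2 : C + Finsupp.single B (3 : ℤ) - Finsupp.single Q (4 : ℤ) =
      (Finsupp.single B (3 : ℤ) - C) - div k (u ^ 2) := by
    have h4 : (Finsupp.single Q (4 : ℤ) : Divisor k K) =
        Finsupp.single Q (2 : ℤ) + Finsupp.single Q (2 : ℤ) := by
      rw [← Finsupp.single_add]; norm_num
    rw [h4, h2Qeq, pow_two, div_mul hK hu0 hu0]; abel
  rw [e2, ell_sub_div hK _ hu20] at h2
  obtain ⟨h, hhL, hh0⟩ := exists_ne_zero_of_ell_pos (D := Finsupp.single B (3 : ℤ) - C) (by omega)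
  set F : Divisor k K := div k h + (Finsupp.single B (3 : ℤ) - C) with hF
  have hFnn : 0 ≤ F := div_add_nonneg_of_mem_L hK hh0 hhL
  have hFdeg : F.deg = 1 := by
    rw [hF, Divisor.deg_add, deg_div hK, Divisor.deg_sub, deg_single_single hK, hdC]; norm_num
  -- step 5: `h⁻¹ ∈ L(C + F) = L(C)`
  have h1mem : (1 : K) ∈ L (Finsupp.single B (3 : ℤ) : Divisor k K) := by
    have : (1 : K) ∈ L (0 : Divisor k K) := by
      rw [L_zero hK]; exact Submodule.one_le.mp le_rfl
    refine L_mono ?_ this
    rw [← Finsupp.single_zero B]; exact single_le_single B (by norm_num)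
  have hhi0 : h⁻¹ ≠ 0 := inv_ne_zero hh0
  have e3B : (Finsupp.single B (3 : ℤ) : Divisor k K) = (C + F) + div k h⁻¹ := by
    rw [div_inv hK, hF]; abel
  rw [e3B, ← mul_mem_L_iff hK _ _ hhi0, mul_one,
    ← L_canonical_add_eq hK hg hC hFnn hFdeg] at h1mem
  have hnn := div_add_nonneg_of_mem_L hK hhi0 h1mem
  -- `C - div h = 3B - F ≥ 0`
  have e4 : div k h⁻¹ + C = Finsupp.single B (3 : ℤ) - F := by
    rw [div_inv hK, hF]; abel
  rw [e4] at hnn
  -- hence `F = B`
  have hFB : F = Finsupp.single B (1 : ℤ) := by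
    have hsupp : ∀ R : Place k K, R ≠ B → F R = 0 := by
      intro R hR
      have h1 := hnn R
      have h2 := hFnn R
      rw [Finsupp.zero_apply, Finsupp.sub_apply, Finsupp.single_apply, if_neg (Ne.symm hR)] at h1
      rw [Finsupp.zero_apply] at h2
      omega
    have hform : F = Finsupp.single B (F B) := by
      ext R
      rw [Finsupp.single_apply]
      split_ifs with hRB
      · rw [hRB]
      · exact hsupp R (Ne.symm hRB)
    rw [hform, deg_single_single hK] at hFdeg
    rw [hform, hFdeg]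
  -- so `2B ~ C`
  have e5 : (Finsupp.single B (2 : ℤ) : Divisor k K) = C - div k h := by
    have h3 : (Finsupp.single B (3 : ℤ) : Divisor k K) =
        Finsupp.single B (2 : ℤ) + Finsupp.single B (1 : ℤ) := by
      rw [← Finsupp.single_add]; norm_num
    have : C - div k h = Finsupp.single B (3 : ℤ) - F := by rw [hF]; abel
    rw [this, hFB, h3]; abel
  rw [e5, ell_sub_div hK _ hh0, ell_canonical hK hC, hg] at hB
  omega

end Genus2c

end Groth.Agent.Lib.Helper4.FF
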