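import Mathlib
import Groth.Agent.Lib.Helper4.FF.LLSThree

namespace Groth.Agent.Lib.Helper4.FF

open FunFld WithZero

section S19710

variable {k : Type*} [Field k] [IsAlgClosed k] [CharZero k]

theorem vanishing_orders_subsingleton
    (KY : Type*) [Field KY] [Algebra k KY] (hKY : IsFunctionField k KY) (hg0 : genus k KY = 0)
    (KZ : Type*) [Field KZ] [Algebra k KZ] (hKZ : IsFunctionField k KZ)
    (d r : ℕ) (DY : Divisor k KY) (DZ : Divisor k KZ)
    (VY : Submodule k KY) (hGY : IsGrd VY DY r d)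
    (VZ : Submodule k KZ) (hGZ : IsGrd VZ DZ r d)
    (QY : Place k KY) (hcusp : r ≤ vd VY DY QY 2)
    (P : Place k KY) (hP : P ≠ QY) (Q : Place k KZ)
    (hcomp : ∀ n : ℕ, n ≤ d + 1 → vd VY DY P (n : ℤ) + vd VZ DZ Q ((d : ℤ) + 1 - n) = r + 1)
    (P' : Place k KY) (hP'P : P' ≠ P) (hP'Q : P' ≠ QY) :
    {i : ℕ | i ≤ r ∧ ∃ m : ℕ,
        vd VY DY P' (m : ℤ) = r + 1 - i ∧ vd VY DY P' ((m : ℤ) + 1) = r - i ∧
        vd VZ DZ Q (m : ℤ) = r + 1 - i ∧ vd VZ DZ Q ((m : ℤ) + 1) = r - i}.Subsingleton := by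
  classical
  -- the section attached to an index in the set
  have key : ∀ i : ℕ, i ≤ r → ∀ m : ℕ, vd VY DY P' (m : ℤ) = r + 1 - i →
      vd VZ DZ Q (m : ℤ) = r + 1 - i → vd VZ DZ Q ((m : ℤ) + 1) = r - i →
      m ≤ d ∧ ∃ s ∈ VY, s ≠ 0 ∧
        div k s + DY = Finsupp.single P' (m : ℤ) + Finsupp.single P ((d : ℤ) - m) := by
    intro i hi m h1 h3 h4
    have hmd : m ≤ d := by
      by_contra hgt
      have := hGZ.vd_top hKZ Q (n := (m : ℤ)) (by omega)
      omega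
    refine ⟨hmd, ?_⟩
    have h5 := hcomp (d - m) (by omega)
    have e : (d : ℤ) + 1 - ((d - m : ℕ) : ℤ) = (m : ℤ) + 1 := by
      rw [Nat.cast_sub hmd]; ring
    rw [e, h4] at h5
    have e2 : ((d - m : ℕ) : ℤ) = (d : ℤ) - m := by rw [Nat.cast_sub hmd]
    rw [e2] at h5
    exact hGY.exists_section hKY hP'P hmd (by omega)
  rintro i ⟨hi, m, h1, h2, h3, h4⟩ j ⟨hj, m', h1', h2', h3', h4'⟩
  obtain ⟨hmd, s, hsV, hs0, hs⟩ := key i hi m h1 h3 h4
  obtain ⟨hmd', s', hsV', hs0', hs'⟩ := key j hj m' h1' h3' h4'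
  have hsupp : ∀ (t : KY) (n : ℕ), div k t + DY =
      Finsupp.single P' (n : ℤ) + Finsupp.single P ((d : ℤ) - n) →
      ∀ R : Place k KY, R ≠ P → R ≠ P' → (div k t + DY) R = 0 := by
    intro t n ht R hR1 hR2
    rw [ht, Finsupp.add_apply, Finsupp.single_apply, Finsupp.single_apply,
      if_neg (Ne.symm hR2), if_neg (Ne.symm hR1)]
    rfl
  obtain ⟨c, hc⟩ := cusp_unique hKY hg0 hGY hcusp hP hP'Q hsV hsV' hs0 hs0'
    (hsupp s m hs) (hsupp s' m' hs')
  have hc0 : c ≠ 0 := by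
    rintro rfl
    rw [zero_smul] at hc
    exact hs0' hc
  have hdiv : div k s' = div k s := by
    rw [hc, Algebra.smul_def, div_mul hKY ((map_ne_zero _).mpr hc0) hs0,
      div_eq_zero_of_mem_range hKY ⟨c, rfl⟩, zero_add]
  rw [hdiv, hs] at hs'
  have := DFunLike.congr_fun hs' P'
  simp only [Finsupp.add_apply, Finsupp.single_eq_same, Finsupp.single_apply,
    if_neg (Ne.symm hP'P), add_zero] at this
  have hmm : m = m' := by omega
  subst hmm
  omega

end S19710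

end Groth.Agent.Lib.Helper4.FF
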