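import Mathlib
import Groth.Agent.Lib.Helper4.FF.Gaps3
import Groth.Agent.Lib.Helper4.FF.Approx

namespace Groth.Agent.Lib.Helper4.FF

open FunFld WithZero

section LocalRing

variable {k K : Type*} [Field k] [Field K] [Algebra k K]

/-- the localization of a subalgebra `A ⊆ O_P` at the elements which are units at `P` -/
def locAt (P : Place k K) (A : Subalgebra k K) : Subalgebra k K where
  carrier := {z | ∃ u ∈ A, ∃ w ∈ A, P.1 w = 1 ∧ z * w = u}
  mul_mem' := by
    rintro z₁ z₂ ⟨u₁, hu₁, w₁, hw₁, h1, e1⟩ ⟨u₂, hu₂, w₂, hw₂, h2, e2⟩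
    refine ⟨u₁ * u₂, A.mul_mem hu₁ hu₂, w₁ * w₂, A.mul_mem hw₁ hw₂, by rw [map_mul, h1, h2, one_mul], ?_⟩
    rw [← e1, ← e2]; ring
  add_mem' := by
    rintro z₁ z₂ ⟨u₁, hu₁, w₁, hw₁, h1, e1⟩ ⟨u₂, hu₂, w₂, hw₂, h2, e2⟩
    refine ⟨u₁ * w₂ + u₂ * w₁, A.add_mem (A.mul_mem hu₁ hw₂) (A.mul_mem hu₂ hw₁), w₁ * w₂,
      A.mul_mem hw₁ hw₂, by rw [map_mul, h1, h2, one_mul], ?_⟩
    rw [← e1, ← e2]; ring
  algebraMap_mem' := by
    intro c
    exact ⟨algebraMap k K c, A.algebraMap_mem c, 1, A.one_mem, map_one _, by rw [mul_one]⟩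

lemma mem_locAt {P : Place k K} {A : Subalgebra k K} {z : K} :
    z ∈ locAt P A ↔ ∃ u ∈ A, ∃ w ∈ A, P.1 w = 1 ∧ z * w = u := Iff.rfl

lemma le_locAt (P : Place k K) (A : Subalgebra k K) : A ≤ locAt P A := by
  intro a ha
  exact ⟨a, ha, 1, A.one_mem, map_one _, mul_one a⟩

lemma val_le_one_of_mem_locAt {P : Place k K} {A : Subalgebra k K} (hA : ∀ a ∈ A, P.1 a ≤ 1)
    {z : K} (hz : z ∈ locAt P A) : P.1 z ≤ 1 := by
  obtain ⟨u, hu, w, hw, h1, e⟩ := hz
  have := hA u hu
  rw [← e, map_mul, h1, mul_one] at this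
  exact this

/-- elements of the localization that are units at `P` are units of the localization -/
lemma inv_mem_locAt {P : Place k K} {A : Subalgebra k K} {z : K} (hz : z ∈ locAt P A)
    (h1 : P.1 z = 1) : z⁻¹ ∈ locAt P A := by
  obtain ⟨u, hu, w, hw, hw1, e⟩ := hz
  have hz0 : z ≠ 0 := by
    rintro rfl
    rw [map_zero] at h1
    exact zero_ne_one h1
  refine ⟨w, hw, u, hu, ?_, ?_⟩
  · rw [← e, map_mul, h1, hw1, one_mul]
  · rw [← e]; field_simp

/-- **Nakayama step**: if `O_P` is finitely generated over the localization `R` of `A` at `P`, `A`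
contains a local parameter at `P` and the residue field at `P` is `k`, then `R = O_P`. -/
theorem locAt_eq_of_fg (P : Place k K) (A : Subalgebra k K) (hA : ∀ a ∈ A, P.1 a ≤ 1)
    (hres : ∀ z : K, P.1 z ≤ 1 → ∃ c : k, P.1 (z - algebraMap k K c) < 1)
    {t₀ : K} (ht₀A : t₀ ∈ A) (ht₀ : P.1 t₀ = exp (-1 : ℤ))
    (W : Submodule k K) [Module.Finite k W] (hW : ∀ y ∈ W, P.1 y ≤ 1)
    (hfg : ∀ z : K, P.1 z ≤ 1 → z ∈ Submodule.span (locAt P A) (W : Set K)) :
    ∀ z : K, P.1 z ≤ 1 → z ∈ locAt P A := by
  classical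
  set R := locAt P A with hR
  have hRO : ∀ r ∈ R, P.1 r ≤ 1 := fun r hr => val_le_one_of_mem_locAt hA hr
  -- `O_P` as an `R`-submodule of `K`
  let N' : Submodule R K :=
    { carrier := {z | P.1 z ≤ 1}
      add_mem' := fun {a b} ha hb => (P.1.map_add a b).trans (max_le ha hb)
      zero_mem' := by simp
      smul_mem' := fun r z hz => by
        change P.1 ((r : K) * z) ≤ 1
        rw [map_mul]
        exact mul_le_one' (hRO r r.2) hz }
  let N : Submodule R K := Submodule.span R {1}
  let I : Ideal R := Ideal.span {⟨t₀, le_locAt P A ht₀A⟩}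
  have hN'fg : N'.FG := by
    obtain ⟨s, hs⟩ := (Module.finite_def (R := k) (M := W)).mp inferInstance
    refine ⟨s.image (fun w : W => (w : K)), ?_⟩
    apply le_antisymm
    · rw [Submodule.span_le]
      intro y hy
      rw [Finset.coe_image] at hy
      obtain ⟨w, -, rfl⟩ := hy
      exact hW w w.2
    · intro z hz
      have h1 := hfg z hz
      -- `W ⊆ span_R (image s)`
      have hWsub : (W : Set K) ⊆ Submodule.span R ((s.image (fun w : W => (w : K)) : Finset K) : Set K) := by
        intro y hy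
        have hy' : (⟨y, hy⟩ : W) ∈ Submodule.span k (s : Set W) := by rw [hs]; trivial
        have : y ∈ Submodule.span k ((fun w : W => (w : K)) '' (s : Set W)) := by
          have := Submodule.apply_mem_span_image_of_mem_span W.subtype hy'
          simpa using this
        rw [Finset.coe_image]
        refine Submodule.span_induction (p := fun y _ => y ∈ Submodule.span R ((fun w : W => (w : K)) '' (s : Set W)))
          ?_ ?_ ?_ ?_ this
        · intro x hx
          exact Submodule.subset_span hx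
        · exact Submodule.zero_mem _
        · intro x y _ _ hx hy
          exact Submodule.add_mem _ hx hy
        · intro c x _ hx
          have : c • x = (⟨algebraMap k K c, R.algebraMap_mem c⟩ : R) • x := by
            rw [Algebra.smul_def]; rfl
          rw [this]
          exact Submodule.smul_mem _ _ hx
      exact Submodule.span_le.mpr hWsub h1
  have hIJ : I ≤ Ideal.jacobson ⊥ := by
    rw [Ideal.span_le]
    intro x hx
    rw [Set.mem_singleton_iff] at hx
    subst hx
    rw [SetLike.mem_coe, Ideal.mem_jacobson_bot]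
    intro y
    -- the element `t₀ y + 1` is a unit at `P`
    set v : R := ⟨t₀, le_locAt P A ht₀A⟩ * y + 1 with hv
    have hv1 : P.1 (v : K) = 1 := by
      have hlt : P.1 (t₀ * (y : K)) < 1 := by
        rw [map_mul, ht₀]
        calc exp (-1 : ℤ) * P.1 (y : K) ≤ exp (-1 : ℤ) * 1 := mul_le_mul_right (hRO y y.2) _
          _ < 1 := by rw [mul_one, ← exp_zero, exp_lt_exp]; norm_num
      have : (v : K) = t₀ * (y : K) + 1 := rfl
      rw [this, Valuation.map_add_eq_of_lt_right]
      · exact map_one _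
      · rw [map_one]; exact hlt
    have hinv : (v : K)⁻¹ ∈ R := inv_mem_locAt v.2 hv1
    have hv0 : (v : K) ≠ 0 := by
      intro h0
      rw [h0, map_zero] at hv1
      exact zero_ne_one hv1
    refine IsUnit.of_mul_eq_one ⟨(v : K)⁻¹, hinv⟩ ?_
    apply Subtype.ext
    change (v : K) * (v : K)⁻¹ = 1
    exact mul_inv_cancel₀ hv0
  have hNN : N' ≤ N ⊔ I • N' := by
    intro z hz
    obtain ⟨c, hc⟩ := hres z hz
    have hz' : z = algebraMap k K c + (z - algebraMap k K c) := by ring
    rw [hz']
    apply Submodule.add_mem_sup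
    · have : algebraMap k K c = (⟨algebraMap k K c, R.algebraMap_mem c⟩ : R) • (1 : K) := by
        change _ = algebraMap k K c * 1
        rw [mul_one]
      rw [this]
      exact Submodule.smul_mem _ _ (Submodule.subset_span rfl)
    · -- `z - c = t₀ • ((z - c) / t₀)`
      have ht₀0 : t₀ ≠ 0 := by
        rintro rfl
        rw [map_zero] at ht₀
        exact exp_ne_zero ht₀.symm
      have hq : P.1 ((z - algebraMap k K c) / t₀) ≤ 1 := by
        rw [map_div₀, ht₀]
        rw [lt_one_iff_le_exp_neg_one] at hc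
        rw [div_le_iff₀ (by simp), one_mul]
        exact hc
      have : z - algebraMap k K c =
          (⟨t₀, le_locAt P A ht₀A⟩ : R) • ((z - algebraMap k K c) / t₀) := by
        change _ = t₀ * ((z - algebraMap k K c) / t₀)
        field_simp
      rw [this]
      exact Submodule.smul_mem_smul (Ideal.subset_span rfl) hq
  have hle := Submodule.le_of_le_smul_of_le_jacobson_bot hN'fg hIJ hNN
  intro z hz
  have hzN : z ∈ N := hle hz
  obtain ⟨r, hr⟩ := Submodule.mem_span_singleton.mp hzN
  have : z = (r : K) := by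
    rw [← hr]
    change (r : K) * 1 = r
    rw [mul_one]
  rw [this]
  exact r.2

end LocalRing

end Groth.Agent.Lib.Helper4.FF
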