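import Mathlib
import Groth.Agent.Lib.Helper4.FF.ProjMap1
import Groth.Agent.Lib.Helper4.FF.Misc
import Groth.Agent.Lib.Helper4.FF.Weierstrass
import Groth.Agent.Lib.Helper4.FF.LLS

namespace Groth.Agent.Lib.Helper4.FF

open FunFld WithZero

section ProjMap

variable {k K : Type*} [Field k] [Field K] [Algebra k K]

lemma lt_exp_iff_le_exp_sub_one {x : ℤᵐ⁰} {n : ℤ} : x < exp n ↔ x ≤ exp (n - 1) := by
  by_cases h : x = 0
  · subst h; simp
  · rw [← exp_log h, exp_lt_exp, exp_le_exp]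
    omega

/-- an element of `L(D)` not in `L(D - P)` has exact order `-D(P)` at `P` -/
lemma val_eq_of_mem_of_notMem {D : Divisor k K} {P : Place k K} {x : K} (hx : x ∈ L D)
    (hx' : x ∉ L (D - Finsupp.single P 1)) : P.1 x = exp (D P) := by
  classical
  by_contra hne
  apply hx'
  intro Q
  rw [Finsupp.sub_apply, Finsupp.single_apply]
  split_ifs with h
  · subst h
    rw [← lt_exp_iff_le_exp_sub_one]
    exact lt_of_le_of_ne (hx P) hne
  · rw [sub_zero]; exact hx Q

lemma pow_mem_L_nsmul {D : Divisor k K} {x : K} (hx : x ∈ L D) (n : ℕ) : x ^ n ∈ L (n • D) := by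
  intro P
  rw [map_pow, Finsupp.smul_apply, exp_nsmul]
  exact pow_le_pow_left₀ zero_le (hx P) n

lemma one_mem_L_zero : (1 : K) ∈ L (0 : Divisor k K) := by
  intro P
  rw [map_one, Finsupp.zero_apply, exp_zero]

/-- killing the poles away from `P` by an element of `k[L(E)]` which is a unit at `P` -/
lemma exists_killer {E : Divisor k K} (P : Place k K) (A : Subalgebra k K)
    (hLA : ∀ x ∈ L E, x ∈ A)
    (hsep : ∀ Q : Place k K, Q ≠ P → ∃ f ∈ L (E - Finsupp.single Q 1), P.1 f = 1)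
    (T : Finset (Place k K)) (hPT : P ∉ T) (n : Place k K → ℕ) :
    ∃ w ∈ A, P.1 w = 1 ∧
      ∃ m : ℕ, w ∈ L (m • E - ∑ Q ∈ T, (Finsupp.single Q (n Q : ℤ) : Divisor k K)) := by
  classical
  induction T using Finset.induction_on with
  | empty =>
    refine ⟨1, A.one_mem, map_one _, 0, ?_⟩
    rw [zero_smul, Finset.sum_empty, sub_zero]
    exact one_mem_L_zero
  | insert Q T hQT ih =>
    have hPT' : P ∉ T := fun h => hPT (Finset.mem_insert_of_mem h)
    have hQP : Q ≠ P := fun h => hPT (h ▸ Finset.mem_insert_self _ _)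
    obtain ⟨w, hwA, hw1, m, hwL⟩ := ih hPT'
    obtain ⟨f, hfL, hf1⟩ := hsep Q hQP
    have hfA : f ∈ A := hLA f (L_mono (by
      rw [sub_le_self_iff, ← Finsupp.single_zero Q]
      exact single_le_single Q (by norm_num)) hfL)
    refine ⟨w * f ^ (n Q), A.mul_mem hwA (A.pow_mem hfA _), by rw [map_mul, map_pow, hw1, hf1,
      one_pow, one_mul], m + n Q, ?_⟩
    have h1 := mul_mem_L_add hwL (pow_mem_L_nsmul hfL (n Q))
    have e : (m + n Q) • E - ∑ Q' ∈ insert Q T, (Finsupp.single Q' (n Q' : ℤ) : Divisor k K) =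
        m • E - ∑ Q' ∈ T, (Finsupp.single Q' (n Q' : ℤ) : Divisor k K) +
          n Q • (E - Finsupp.single Q 1) := by
      rw [Finset.sum_insert hQT, add_smul, smul_sub, Finsupp.smul_single, nsmul_eq_mul, mul_one]
      abel
    rw [e]
    exact h1

/-- divisor version of `exists_killer` -/
lemma exists_killer' {E : Divisor k K} (P : Place k K) (A : Subalgebra k K)
    (hLA : ∀ x ∈ L E, x ∈ A)
    (hsep : ∀ Q : Place k K, Q ≠ P → ∃ f ∈ L (E - Finsupp.single Q 1), P.1 f = 1)
    (G : Divisor k K) (hG : 0 ≤ G) (hGP : G P = 0) :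
    ∃ w ∈ A, P.1 w = 1 ∧ ∃ m : ℕ, w ∈ L (m • E - G) := by
  classical
  have hPT : P ∉ G.support := by
    rw [Finsupp.mem_support_iff, not_not]; exact hGP
  obtain ⟨w, hwA, hw1, m, hwL⟩ := exists_killer P A hLA hsep G.support hPT (fun Q => (G Q).toNat)
  refine ⟨w, hwA, hw1, m, ?_⟩
  have e : ∑ Q ∈ G.support, (Finsupp.single Q (((G Q).toNat : ℕ) : ℤ) : Divisor k K) = G := by
    conv_rhs => rw [← Finsupp.sum_single G]
    rw [Finsupp.sum]
    refine Finset.sum_congr rfl fun Q _ => ?_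
    rw [Int.toNat_of_nonneg (hG Q)]
  rwa [e] at hwL

/-- **base-point-free pencil trick**: if `t ∈ L(E)` has exact pole order `E(Q)` at every `Q` in the
support of `E ≥ 0` and `ℓ(F+E) + ℓ(F-E) ≤ 2ℓ(F)` then `L(F+E) = L(F) + t L(F)`. -/
lemma pencil_step (hK : IsFunctionField k K) {E F : Divisor k K} (hE : 0 ≤ E) {t : K} (ht0 : t ≠ 0)
    (ht : t ∈ L E) (htE : ∀ Q : Place k K, 0 < E Q → Q.1 t = exp (E Q))
    (hdim : ell (F + E) + ell (F - E) ≤ 2 * ell F) :
    L (F + E) ≤ L F ⊔ (L F).map (LinearMap.mulLeft k t) := by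
  have := L_finite hK F
  have := L_finite hK (F + E)
  have := L_finite hK (F - E)
  set S := L F with hS
  set T := (L F).map (LinearMap.mulLeft k t) with hT
  have hinj : Function.Injective (LinearMap.mulLeft k t) := by
    intro a b hab
    simpa [ht0] using hab
  have hTfin : Module.finrank k T = ell F :=
    (Submodule.equivMapOfInjective _ hinj (L F)).finrank_eq.symm
  have hle : S ⊔ T ≤ L (F + E) := by
    apply sup_le
    · exact L_mono (le_add_of_nonneg_right hE)
    · rintro _ ⟨b, hb, rfl⟩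
      rw [LinearMap.mulLeft_apply, mul_comm]
      exact mul_mem_L_add hb ht
  have hinf : S ⊓ T ≤ (L (F - E)).map (LinearMap.mulLeft k t) := by
    rintro y ⟨hyS, b, hb, rfl⟩
    refine ⟨b, ?_, rfl⟩
    intro Q
    rw [Finsupp.sub_apply]
    rcases (hE Q).lt_or_eq with hpos | h0
    · have h1 := hyS Q
      rw [LinearMap.mulLeft_apply, map_mul, htE Q hpos] at h1
      rw [sub_eq_add_neg, exp_add]
      calc Q.1 b = exp (-(E Q)) * (exp (E Q) * Q.1 b) := by
            rw [← mul_assoc, ← exp_add, neg_add_cancel, exp_zero, one_mul]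
        _ ≤ exp (-(E Q)) * exp (F Q) := mul_le_mul_right h1 _
        _ = exp (F Q) * exp (-(E Q)) := mul_comm _ _
    · rw [Finsupp.zero_apply] at h0
      rw [← h0, sub_zero]; exact hb Q
  have h1 := Submodule.finrank_sup_add_finrank_inf_eq S T
  have h2 : Module.finrank k ↥(S ⊓ T) ≤ ell (F - E) :=
    (Submodule.finrank_mono hinf).trans (Submodule.finrank_map_le _ _)
  have h3 : Module.finrank k S = ell F := rfl
  have h4 : Module.finrank k (L (F + E)) = ell (F + E) := rfl
  have h5 : S ⊔ T = L (F + E) := Submodule.eq_of_le_of_finrank_le hle (by omega)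
  rw [← h5]

/-- existence of `t ∈ L(E)`, `t ≠ 0`, with exact pole order `E(Q)` at every `Q ∈ supp E` -/
lemma exists_exact_pencil [IsAlgClosed k] (hK : IsFunctionField k K) {E : Divisor k K} (hE : 0 ≤ E)
    (hbpf : ∀ Q : Place k K, ell (E - Finsupp.single Q 1) < ell E) :
    ∃ t ∈ L E, t ≠ 0 ∧ ∀ Q : Place k K, 0 < E Q → Q.1 t = exp (E Q) := by
  classical
  let V := L E
  let Wf : Place k K → Submodule k V := fun Q => (L (E - Finsupp.single Q 1)).comap V.subtype
  have hW : ∀ Q, Wf Q ≠ ⊤ := by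
    intro Q h
    obtain ⟨x, hx, hx'⟩ := exists_mem_not_mem_of_ell_lt hK (hbpf Q)
    have : (⟨x, hx⟩ : V) ∈ Wf Q := h ▸ Submodule.mem_top
    exact hx' this
  have hbot : (⊥ : Submodule k V) ≠ ⊤ := by
    intro h
    have h1 : (1 : K) ∈ L E := L_mono hE one_mem_L_zero
    have : (⟨1, h1⟩ : V) ∈ (⊥ : Submodule k V) := h ▸ Submodule.mem_top
    rw [Submodule.mem_bot] at this
    exact one_ne_zero (congrArg Subtype.val this)
  let s : Finset (Submodule k V) := insert ⊥ (E.support.image Wf)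
  have hs : (⊤ : Submodule k V) ∉ s := by
    intro h
    rcases Finset.mem_insert.mp h with h | h
    · exact hbot h.symm
    · obtain ⟨Q, -, hQW⟩ := Finset.mem_image.mp h
      exact hW Q hQW
  have hne := Subspace.biUnion_ne_univ_of_top_notMem hs
  obtain ⟨f, hf⟩ := (Set.ne_univ_iff_exists_notMem _).mp hne
  simp only [Set.mem_iUnion, not_exists] at hf
  have hf0 : f ≠ 0 := fun h0 => hf ⊥ (Finset.mem_insert_self _ _) (h0 ▸ Submodule.zero_mem _)
  refine ⟨f.1, f.2, fun h => hf0 (Subtype.ext h), ?_⟩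
  intro Q hQ
  have hQs : Q ∈ E.support := by rw [Finsupp.mem_support_iff]; exact hQ.ne'
  have hfQ : f ∉ Wf Q := fun h =>
    hf (Wf Q) (Finset.mem_insert_of_mem (Finset.mem_image_of_mem _ hQs)) h
  exact val_eq_of_mem_of_notMem f.2 hfQ

/-- **Nonsingularity criterion.** Let `E ≥ 0` with `P ∉ supp E` be base point free, separating `P`
from every place (including `P` itself, i.e. `L(E)` contains a local parameter at `P`) and such that
`ℓ((m+1)E) + ℓ((m-1)E) ≤ 2ℓ(mE)` for `m ≥ m₀`. Then every subalgebra `A ⊆ O_P` containing `L(E)`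
has `O_P` as its localization at `P`. -/
theorem locAt_eq_top_of_pencil [IsAlgClosed k] (hK : IsFunctionField k K) {E : Divisor k K}
    (hE : 0 ≤ E) (P : Place k K) (hEP : E P = 0)
    (hbpf : ∀ Q : Place k K, ell (E - Finsupp.single Q 1) < ell E)
    (hsep : ∀ Q : Place k K,
      ell (E - Finsupp.single Q 1 - Finsupp.single P 1) < ell (E - Finsupp.single Q 1))
    (m₀ : ℕ) (hdim : ∀ m : ℕ, m₀ ≤ m → ell (m • E + E) + ell (m • E - E) ≤ 2 * ell (m • E))
    (A : Subalgebra k K) (hLA : ∀ x ∈ L E, x ∈ A) (hAO : ∀ a ∈ A, P.1 a ≤ 1) :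
    ∀ z : K, P.1 z ≤ 1 → z ∈ locAt P A := by
  classical
  have hsingle : ∀ Q : Place k K, E - Finsupp.single Q 1 ≤ E := by
    intro Q
    rw [sub_le_self_iff, ← Finsupp.single_zero Q]
    exact single_le_single Q (by norm_num)
  -- residue field
  have hres : ∀ z : K, P.1 z ≤ 1 → ∃ c : k, P.1 (z - algebraMap k K c) < 1 :=
    fun z hz => Place.exists_const_sub_lt P (Place.deg_eq_one hK P) hz
  -- local parameter
  obtain ⟨t₀, ht₀L, ht₀'⟩ := exists_mem_not_mem_of_ell_lt hK (hsep P)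
  have ht₀ : P.1 t₀ = exp (-1 : ℤ) := by
    rw [val_eq_of_mem_of_notMem ht₀L ht₀', Finsupp.sub_apply, hEP, Finsupp.single_eq_same]
    norm_num
  have ht₀A : t₀ ∈ A := hLA t₀ (L_mono (hsingle P) ht₀L)
  -- separation
  have hsep' : ∀ Q : Place k K, Q ≠ P → ∃ f ∈ L (E - Finsupp.single Q 1), P.1 f = 1 := by
    intro Q hQP
    obtain ⟨f, hfL, hf'⟩ := exists_mem_not_mem_of_ell_lt hK (hsep Q)
    refine ⟨f, hfL, ?_⟩
    rw [val_eq_of_mem_of_notMem hfL hf', Finsupp.sub_apply, hEP, Finsupp.single_apply,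
      if_neg hQP, sub_zero, exp_zero]
  -- the pencil
  obtain ⟨t, htL, ht0, htE⟩ := exists_exact_pencil hK hE hbpf
  set W := L (m₀ • E) with hW
  have := L_finite hK (m₀ • E)
  have hWO : ∀ y ∈ W, P.1 y ≤ 1 := by
    intro y hy
    have := hy P
    rwa [Finsupp.smul_apply, hEP, smul_zero, exp_zero] at this
  have htR : t ∈ locAt P A := le_locAt P A (hLA t htL)
  have hspan : ∀ m : ℕ, m₀ ≤ m → ∀ y ∈ L (m • E),
      y ∈ Submodule.span (locAt P A) (W : Set K) := by
    intro m hm
    induction m, hm using Nat.le_induction with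
    | base => intro y hy; exact Submodule.subset_span hy
    | succ m hm ih =>
      intro y hy
      rw [succ_nsmul] at hy
      obtain ⟨a, ha, b', ⟨b, hb, rfl⟩, rfl⟩ :=
        Submodule.mem_sup.mp (pencil_step hK hE ht0 htL htE (hdim m hm) hy)
      refine Submodule.add_mem _ (ih a ha) ?_
      have : LinearMap.mulLeft k t b = (⟨t, htR⟩ : locAt P A) • b := rfl
      rw [this]
      exact Submodule.smul_mem _ _ (ih b hb)
  apply locAt_eq_of_fg P A hAO hres ht₀A ht₀ W hWO
  intro z hz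
  have hzP : (poleDiv z : Divisor k K) P = 0 := by
    rw [poleDiv_apply hK]
    by_cases hz0 : z = 0
    · subst hz0; simp [Place.ord]
    · have := (Place.ord_nonneg_iff P hz0).mpr hz
      rw [max_eq_right]; omega
  obtain ⟨w, hwA, hw1, m, hwL⟩ := exists_killer' P A hLA hsep' (poleDiv z) (poleDiv_nonneg z) hzP
  have hzw : z * w ∈ L ((max m m₀) • E) := by
    have h1 := mul_mem_L_add (mem_L_poleDiv hK z) hwL
    rw [add_sub_cancel] at h1
    exact L_mono (nsmul_le_nsmul_left hE (le_max_left _ _)) h1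
  have h2 := hspan _ (le_max_right m m₀) _ hzw
  have hwinv : w⁻¹ ∈ locAt P A := inv_mem_locAt (le_locAt P A hwA) hw1
  have hw0 : w ≠ 0 := by
    rintro rfl
    rw [map_zero] at hw1
    exact zero_ne_one hw1
  have : z = (⟨w⁻¹, hwinv⟩ : locAt P A) • (z * w) := by
    change z = w⁻¹ * (z * w)
    field_simp
  rw [this]
  exact Submodule.smul_mem _ _ h2

end ProjMap

end Groth.Agent.Lib.Helper4.FF
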