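import Mathlib
import Groth.Agent.Lib.Helper4.FF.ProjMap2

namespace Groth.Agent.Lib.Helper4.FF

open FunFld WithZero

section NonHyp

variable {k K : Type*} [Field k] [Field K] [Algebra k K]

/-- if `K` has degree `> d` over every `k(x)` then `ℓ(G) = 1` for effective `G` of degree `≤ d` -/
theorem ell_eq_one_of_gonality (hK : IsFunctionField k K) {d : ℕ}
    (h2 : ∀ x : K, Transcendental k x →
      d < Module.finrank (IntermediateField.adjoin k ({x} : Set K)) K)
    {G : Divisor k K} (hG : 0 ≤ G) (hdeg : G.deg ≤ d) : ell G = 1 := by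
  have h1 : 1 ≤ ell G := by
    have := ell_mono hK hG
    rwa [ell_zero hK] at this
  by_contra hne
  have h3 : ell (0 : Divisor k K) < ell G := by rw [ell_zero hK]; omega
  obtain ⟨x, hx, hx'⟩ := exists_mem_not_mem_of_ell_lt hK h3
  have hxk : x ∉ Set.range (algebraMap k K) := by
    rintro ⟨c, rfl⟩
    apply hx'
    intro P
    rw [Finsupp.zero_apply, exp_zero]
    exact Place.val_k_le P c
  have hxt := transcendental_of_notMem hK hxk
  have hx0 : x ≠ 0 := by
    rintro rfl
    exact hx' (Submodule.zero_mem _)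
  have hle : (poleDiv x : Divisor k K) ≤ G := by
    intro P
    rw [poleDiv_apply hK]
    have := hx P
    rw [Place.val_eq_exp_neg_ord P hx0, exp_le_exp] at this
    exact max_le this (hG P)
  have h4 : 0 ≤ (G - poleDiv x).deg := Divisor.deg_nonneg (sub_nonneg.mpr hle)
  rw [Divisor.deg_sub, deg_poleDiv hK hxt] at h4
  have := h2 x hxt
  omega

end NonHyp

end Groth.Agent.Lib.Helper4.FF
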