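import Mathlib
import Groth.Agent.Lib.Helper4.FF.ProjMap3
import Groth.Prelude.Def_W4bk4goldsch45

namespace Groth.Agent.Lib.Helper4.FF

open FunFld WithZero

section LocRing

variable {k K : Type*} [Field k] [Field K] [Algebra k K]

/-- the affine coordinate ring `k[φ_i/φ_j]` of the projective map `φ` -/
def ratioAlg {ι : Type*} (φ : ι → K) (j : ι) : Subalgebra k K :=
  Algebra.adjoin k (Set.range fun i => φ i / φ j)

lemma ratio_mem_ratioAlg {ι : Type*} (φ : ι → K) (j i : ι) :
    φ i / φ j ∈ (ratioAlg φ j : Subalgebra k K) :=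
  Algebra.subset_adjoin ⟨i, rfl⟩

lemma inLocRing_def {ι : Type*} {φ : ι → K} {P : Place k K} {z : K} :
    InLocRing φ P z ↔ ∃ j, φ j ≠ 0 ∧ (∀ i, P.1 (φ i) ≤ P.1 (φ j)) ∧ z ∈ locAt P (ratioAlg φ j) :=
  Iff.rfl

/-- the localization is idempotent -/
lemma locAt_idem {P : Place k K} {A : Subalgebra k K} {z u w : K} (hu : u ∈ locAt P A)
    (hw : w ∈ locAt P A) (hw1 : P.1 w = 1) (e : z * w = u) : z ∈ locAt P A := by
  have hw0 : w ≠ 0 := by
    rintro rfl
    rw [map_zero] at hw1
    exact zero_ne_one hw1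
  have hz : z = u * w⁻¹ := by rw [← e]; field_simp
  rw [hz]
  exact (locAt P A).mul_mem hu (inv_mem_locAt hw hw1)

lemma locAt_mono_of_le_locAt {P : Place k K} {A B : Subalgebra k K} (h : A ≤ locAt P B) :
    locAt P A ≤ locAt P B := by
  rintro z ⟨u, hu, w, hw, hw1, e⟩
  exact locAt_idem (h hu) (h hw) hw1 e

lemma val_ratio_le_one {ι : Type*} {φ : ι → K} {P : Place k K} {j : ι}
    (hleast : ∀ i, P.1 (φ i) ≤ P.1 (φ j)) (i : ι) : P.1 (φ i / φ j) ≤ 1 := by
  rw [map_div₀]
  exact div_le_one_of_le₀ (hleast i) zero_le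

lemma val_le_one_of_mem_ratioAlg {ι : Type*} {φ : ι → K} {P : Place k K} {j : ι}
    (hleast : ∀ i, P.1 (φ i) ≤ P.1 (φ j)) {a : K} (ha : a ∈ (ratioAlg φ j : Subalgebra k K)) :
    P.1 a ≤ 1 := by
  induction ha using Algebra.adjoin_induction with
  | mem x hx =>
    obtain ⟨i, rfl⟩ := hx
    exact val_ratio_le_one hleast i
  | algebraMap c => exact Place.val_k_le P c
  | add x y _ _ hx hy => exact (P.1.map_add x y).trans (max_le hx hy)
  | mul x y _ _ hx hy => rw [map_mul]; exact mul_le_one' hx hy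

lemma ratioAlg_le_locAt {ι : Type*} {φ : ι → K} {P : Place k K} {j j' : ι} (hj : φ j ≠ 0)
    (hleast : ∀ i, P.1 (φ i) ≤ P.1 (φ j)) (hj' : φ j' ≠ 0)
    (hleast' : ∀ i, P.1 (φ i) ≤ P.1 (φ j')) :
    (ratioAlg φ j' : Subalgebra k K) ≤ locAt P (ratioAlg φ j) := by
  unfold ratioAlg
  rw [Algebra.adjoin_le_iff]
  rintro _ ⟨i, rfl⟩
  have h1 : P.1 (φ j' / φ j) = 1 := by
    rw [map_div₀, le_antisymm (hleast j') (hleast' j)]
    exact div_self ((Valuation.ne_zero_iff _).mpr hj)
  have e : φ i / φ j' = (φ i / φ j) * (φ j' / φ j)⁻¹ := by field_simp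
  change φ i / φ j' ∈ locAt P (ratioAlg φ j)
  rw [e]
  exact (locAt P _).mul_mem (le_locAt P _ (ratio_mem_ratioAlg φ j i))
    (inv_mem_locAt (le_locAt P _ (ratio_mem_ratioAlg φ j j')) h1)

/-- the local ring does not depend on the choice of the entry of least order -/
theorem inLocRing_iff {ι : Type*} {φ : ι → K} {P : Place k K} {j : ι} (hj : φ j ≠ 0)
    (hleast : ∀ i, P.1 (φ i) ≤ P.1 (φ j)) {z : K} :
    InLocRing φ P z ↔ z ∈ locAt P (ratioAlg φ j) := by
  constructor
  · rintro ⟨j', hj', hleast', hz⟩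
    exact locAt_mono_of_le_locAt (ratioAlg_le_locAt hj hleast hj' hleast') hz
  · intro hz
    exact ⟨j, hj, hleast, hz⟩

lemma val_le_one_of_inLocRing {ι : Type*} {φ : ι → K} {P : Place k K} {z : K}
    (hz : InLocRing φ P z) : P.1 z ≤ 1 := by
  obtain ⟨j, hj, hleast, hz⟩ := hz
  exact val_le_one_of_mem_locAt (fun a ha => val_le_one_of_mem_ratioAlg hleast ha) hz

/-- existence of an entry of least order -/
lemma exists_least {n : ℕ} (φ : Fin (n + 1) → K) (P : Place k K) :
    ∃ j, ∀ i, P.1 (φ i) ≤ P.1 (φ j) := by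
  obtain ⟨j, -, hj⟩ := Finset.exists_max_image Finset.univ (fun i => P.1 (φ i))
    Finset.univ_nonempty
  exact ⟨j, fun i => hj i (Finset.mem_univ i)⟩

/-- common residues: if the generators of `A` have common residues at `P` and `Q` then so has
every element of `A` -/
lemma exists_common_residue {P Q : Place k K} {S : Set K}
    (hS : ∀ s ∈ S, ∃ c : k, P.1 (s - algebraMap k K c) < 1 ∧ Q.1 (s - algebraMap k K c) < 1)
    {a : K} (ha : a ∈ Algebra.adjoin k S) :
    ∃ c : k, P.1 (a - algebraMap k K c) < 1 ∧ Q.1 (a - algebraMap k K c) < 1 := by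
  induction ha using Algebra.adjoin_induction with
  | mem x hx => exact hS x hx
  | algebraMap c => exact ⟨c, by simp, by simp⟩
  | add x y _ _ hx hy =>
    obtain ⟨c, hc1, hc2⟩ := hx
    obtain ⟨d, hd1, hd2⟩ := hy
    refine ⟨c + d, ?_, ?_⟩
    · have : x + y - algebraMap k K (c + d) = (x - algebraMap k K c) + (y - algebraMap k K d) := by
        rw [map_add]; ring
      rw [this]
      exact (P.1.map_add _ _).trans_lt (max_lt hc1 hd1)
    · have : x + y - algebraMap k K (c + d) = (x - algebraMap k K c) + (y - algebraMap k K d) := by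
        rw [map_add]; ring
      rw [this]
      exact (Q.1.map_add _ _).trans_lt (max_lt hc2 hd2)
  | mul x y _ _ hx hy =>
    obtain ⟨c, hc1, hc2⟩ := hx
    obtain ⟨d, hd1, hd2⟩ := hy
    have key : ∀ R : Place k K, R.1 (x - algebraMap k K c) < 1 → R.1 (y - algebraMap k K d) < 1 →
        R.1 (x * y - algebraMap k K (c * d)) < 1 := by
      intro R h1 h2
      have hy1 : R.1 y ≤ 1 := by
        have : y = (y - algebraMap k K d) + algebraMap k K d := by ring
        rw [this]
        exact (R.1.map_add _ _).trans (max_le h2.le (Place.val_k_le R d))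
      have : x * y - algebraMap k K (c * d) =
          (x - algebraMap k K c) * y + algebraMap k K c * (y - algebraMap k K d) := by
        rw [map_mul]; ring
      rw [this]
      refine (R.1.map_add _ _).trans_lt (max_lt ?_ ?_)
      · rw [map_mul]
        exact mul_lt_one_of_lt_of_le h1 hy1
      · rw [map_mul]
        calc R.1 (algebraMap k K c) * R.1 (y - algebraMap k K d)
            ≤ 1 * R.1 (y - algebraMap k K d) := mul_le_mul_left (Place.val_k_le R c) _
          _ < 1 := by rw [one_mul]; exact h2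
    exact ⟨c * d, key P hc1 hd1, key Q hc2 hd2⟩

end LocRing

end Groth.Agent.Lib.Helper4.FF
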