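import Mathlib
import Groth.Agent.Lib.Helper4.FF.ProjMap4

namespace Groth.Agent.Lib.Helper4.FF

open FunFld WithZero

section FirstOrder

variable {k K : Type*} [Field k] [Field K] [Algebra k K]

lemma span_ratio_eq_map {ι : Type*} (φ : ι → K) (j : ι) :
    Submodule.span k (Set.range fun i => φ i / φ j) =
      (Submodule.span k (Set.range φ)).map (LinearMap.mulLeft k (φ j)⁻¹) := by
  rw [Submodule.map_span, ← Set.range_comp]
  congr 2
  ext i
  simp [div_eq_inv_mul]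

lemma div_mem_span_ratio {ι : Type*} {φ : ι → K} (j : ι) {x : K}
    (hx : x ∈ Submodule.span k (Set.range φ)) :
    x / φ j ∈ Submodule.span k (Set.range fun i => φ i / φ j) := by
  rw [span_ratio_eq_map]
  exact ⟨x, hx, by simp [div_eq_inv_mul]⟩

lemma mul_mem_span_of_mem_span_ratio {ι : Type*} {φ : ι → K} {j : ι} (hj : φ j ≠ 0) {v : K}
    (hv : v ∈ Submodule.span k (Set.range fun i => φ i / φ j)) :
    v * φ j ∈ Submodule.span k (Set.range φ) := by
  rw [span_ratio_eq_map] at hv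
  obtain ⟨x, hx, rfl⟩ := hv
  rw [LinearMap.mulLeft_apply, mul_comm, mul_inv_cancel_left₀ hj]
  exact hx

lemma span_ratio_le_ratioAlg {ι : Type*} (φ : ι → K) (j : ι) :
    Submodule.span k (Set.range fun i => φ i / φ j) ≤
      Subalgebra.toSubmodule (ratioAlg φ j : Subalgebra k K) := by
  rw [Submodule.span_le]
  rintro _ ⟨i, rfl⟩
  exact ratio_mem_ratioAlg φ j i

/-- **first order expansion**: modulo `m_P²`, every polynomial in elements of a space `V ∋ 1` of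
`P`-integral functions is congruent to an element of `V`. -/
theorem exists_first_order (P : Place k K)
    (hres : ∀ z : K, P.1 z ≤ 1 → ∃ c : k, P.1 (z - algebraMap k K c) < 1)
    (V : Submodule k K) (h1 : (1 : K) ∈ V) (hVO : ∀ v ∈ V, P.1 v ≤ 1) {a : K}
    (ha : a ∈ Algebra.adjoin k (V : Set K)) : ∃ v ∈ V, P.1 (a - v) ≤ exp (-2 : ℤ) := by
  have hlt : (exp (-2 : ℤ) : ℤᵐ⁰) ≤ 1 := by rw [← exp_zero, exp_le_exp]; norm_num
  induction ha using Algebra.adjoin_induction with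
  | mem x hx => exact ⟨x, hx, by simp⟩
  | algebraMap c =>
    refine ⟨algebraMap k K c, ?_, by simp⟩
    rw [Algebra.algebraMap_eq_smul_one]
    exact V.smul_mem c h1
  | add x y _ _ hx hy =>
    obtain ⟨v₁, hv₁, h₁⟩ := hx
    obtain ⟨v₂, hv₂, h₂⟩ := hy
    refine ⟨v₁ + v₂, V.add_mem hv₁ hv₂, ?_⟩
    have : x + y - (v₁ + v₂) = (x - v₁) + (y - v₂) := by ring
    rw [this]
    exact (P.1.map_add _ _).trans (max_le h₁ h₂)
  | mul x y _ _ hx hy =>
    obtain ⟨v₁, hv₁, h₁⟩ := hx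
    obtain ⟨v₂, hv₂, h₂⟩ := hy
    obtain ⟨c₁, hc₁⟩ := hres v₁ (hVO v₁ hv₁)
    obtain ⟨c₂, hc₂⟩ := hres v₂ (hVO v₂ hv₂)
    rw [lt_one_iff_le_exp_neg_one] at hc₁ hc₂
    have hy1 : P.1 y ≤ 1 := by
      have : y = (y - v₂) + v₂ := by ring
      rw [this]
      exact (P.1.map_add _ _).trans (max_le (h₂.trans hlt) (hVO v₂ hv₂))
    refine ⟨c₁ • v₂ + c₂ • v₁ - (c₁ * c₂) • (1 : K),
      V.sub_mem (V.add_mem (V.smul_mem _ hv₂) (V.smul_mem _ hv₁)) (V.smul_mem _ h1), ?_⟩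
    have e : x * y - (c₁ • v₂ + c₂ • v₁ - (c₁ * c₂) • (1 : K)) =
        ((x - v₁) * y + v₁ * (y - v₂)) +
          (v₁ - algebraMap k K c₁) * (v₂ - algebraMap k K c₂) := by
      simp only [Algebra.smul_def, map_mul]
      ring
    rw [e]
    refine (P.1.map_add _ _).trans (max_le ((P.1.map_add _ _).trans (max_le ?_ ?_)) ?_)
    · rw [map_mul]
      calc P.1 (x - v₁) * P.1 y ≤ exp (-2 : ℤ) * 1 := mul_le_mul' h₁ hy1
        _ = exp (-2 : ℤ) := mul_one _
    · rw [map_mul]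
      calc P.1 v₁ * P.1 (y - v₂) ≤ 1 * exp (-2 : ℤ) := mul_le_mul' (hVO v₁ hv₁) h₂
        _ = exp (-2 : ℤ) := one_mul _
    · rw [map_mul]
      calc P.1 (v₁ - algebraMap k K c₁) * P.1 (v₂ - algebraMap k K c₂)
          ≤ exp (-1 : ℤ) * exp (-1 : ℤ) := mul_le_mul' hc₁ hc₂
        _ = exp (-2 : ℤ) := by rw [← exp_add]; norm_num

end FirstOrder

end Groth.Agent.Lib.Helper4.FF
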