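import Mathlib
import Groth.Agent.Lib.Helper4.FF.ProjMap5

namespace Groth.Agent.Lib.Helper4.FF

open FunFld WithZero

section General

variable {k K : Type*} [Field k] [Field K] [Algebra k K]

/-- the ring of functions with poles only on the support of `E ≥ 0` -/
def polesIn (E : Divisor k K) (hE : 0 ≤ E) : Subalgebra k K where
  carrier := {y | ∃ m : ℕ, y ∈ L (m • E)}
  mul_mem' := by
    rintro a b ⟨m, ha⟩ ⟨m', hb⟩
    exact ⟨m + m', by rw [add_smul]; exact mul_mem_L_add ha hb⟩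
  add_mem' := by
    rintro a b ⟨m, ha⟩ ⟨m', hb⟩
    exact ⟨max m m', (L _).add_mem (L_mono (nsmul_le_nsmul_left hE (le_max_left _ _)) ha)
      (L_mono (nsmul_le_nsmul_left hE (le_max_right _ _)) hb)⟩
  algebraMap_mem' := fun c => ⟨0, by
    rw [zero_smul]
    intro Q
    rw [Finsupp.zero_apply, exp_zero]
    exact Place.val_k_le Q c⟩

lemma mem_polesIn {E : Divisor k K} {hE : 0 ≤ E} {y : K} :
    y ∈ polesIn E hE ↔ ∃ m : ℕ, y ∈ L (m • E) := Iff.rfl

lemma mem_polesIn_of_poles (hK : IsFunctionField k K) {E : Divisor k K} (hE : 0 ≤ E) {y : K}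
    (h : ∀ Q : Place k K, 1 < Q.1 y → 0 < E Q) : y ∈ polesIn E hE := by
  classical
  by_cases hy0 : y = 0
  · subst hy0; exact (polesIn E hE).zero_mem
  set G : Divisor k K := poleDiv y with hG
  refine ⟨∑ Q ∈ G.support, (G Q).toNat, L_mono ?_ (mem_L_poleDiv hK y)⟩
  intro Q
  rw [Finsupp.smul_apply]
  by_cases hQ : G Q = 0
  · rw [← hG, hQ]
    exact smul_nonneg (Nat.zero_le _) (hE Q)
  · have hQs : Q ∈ G.support := Finsupp.mem_support_iff.mpr hQ
    have hpos : 0 < G Q := lt_of_le_of_ne (poleDiv_nonneg y Q) (Ne.symm hQ)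
    have hpole : 1 < Q.1 y := by
      rw [hG, poleDiv_apply hK] at hpos
      have : Q.ord y < 0 := by
        by_contra hge
        push Not at hge
        rw [max_eq_right (by omega)] at hpos
        exact lt_irrefl _ hpos
      exact (Place.ord_neg_iff Q hy0).mp this
    have hEQ := h Q hpole
    have h1 : (G Q).toNat ≤ ∑ Q ∈ G.support, (G Q).toNat :=
      Finset.single_le_sum (f := fun Q => (G Q).toNat) (fun _ _ => Nat.zero_le _) hQs
    have h2 : G Q = ((G Q).toNat : ℤ) := (Int.toNat_of_nonneg hpos.le).symm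
    rw [← hG, nsmul_eq_mul]
    have h3 : ((G Q).toNat : ℤ) ≤ ((∑ Q ∈ G.support, (G Q).toNat : ℕ) : ℤ) := by exact_mod_cast h1
    nlinarith

/-- killing poles, general version -/
lemma exists_killer_gen {E : Divisor k K} (P : Place k K) (A : Subalgebra k K)
    (T : Finset (Place k K)) (n : Place k K → ℕ)
    (hsep : ∀ Q ∈ T, ∃ f ∈ A, P.1 f = 1 ∧ ∃ m : ℕ, f ∈ L (m • E - Finsupp.single Q 1)) :
    ∃ w ∈ A, P.1 w = 1 ∧
      ∃ m : ℕ, w ∈ L (m • E - ∑ Q ∈ T, (Finsupp.single Q (n Q : ℤ) : Divisor k K)) := by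
  classical
  induction T using Finset.induction_on with
  | empty =>
    refine ⟨1, A.one_mem, map_one _, 0, ?_⟩
    rw [zero_smul, Finset.sum_empty, sub_zero]
    exact one_mem_L_zero
  | insert Q T hQT ih =>
    obtain ⟨w, hwA, hw1, m, hwL⟩ := ih (fun Q' hQ' => hsep Q' (Finset.mem_insert_of_mem hQ'))
    obtain ⟨f, hfA, hf1, mf, hfL⟩ := hsep Q (Finset.mem_insert_self _ _)
    refine ⟨w * f ^ (n Q), A.mul_mem hwA (A.pow_mem hfA _), by rw [map_mul, map_pow, hw1, hf1,
      one_pow, one_mul], m + n Q * mf, ?_⟩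
    have h1 := mul_mem_L_add hwL (pow_mem_L_nsmul hfL (n Q))
    have e : (m + n Q * mf) • E - ∑ Q' ∈ insert Q T, (Finsupp.single Q' (n Q' : ℤ) : Divisor k K) =
        m • E - ∑ Q' ∈ T, (Finsupp.single Q' (n Q' : ℤ) : Divisor k K) +
          n Q • (mf • E - Finsupp.single Q 1) := by
      rw [Finset.sum_insert hQT, add_smul, smul_sub, Finsupp.smul_single, nsmul_eq_mul, mul_one,
        mul_smul]
      abel
    rw [e]
    exact h1

/-- iterating the pencil trick: `L(mE) ⊆ R · L(m₀E)` -/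
lemma mem_span_of_pencil (hK : IsFunctionField k K) {E : Divisor k K} (hE : 0 ≤ E) {t : K}
    (ht0 : t ≠ 0) (htL : t ∈ L E) (htE : ∀ Q : Place k K, 0 < E Q → Q.1 t = exp (E Q))
    (m₀ : ℕ) (hdim : ∀ m : ℕ, m₀ ≤ m → ell (m • E + E) + ell (m • E - E) ≤ 2 * ell (m • E))
    (R : Subalgebra k K) (htR : t ∈ R) (m : ℕ) (hm : m₀ ≤ m) {y : K} (hy : y ∈ L (m • E)) :
    y ∈ Submodule.span R (L (m₀ • E) : Set K) := by
  induction m, hm using Nat.le_induction generalizing y with
  | base => exact Submodule.subset_span hy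
  | succ m hm ih =>
    rw [succ_nsmul] at hy
    obtain ⟨a, ha, b', ⟨b, hb, rfl⟩, rfl⟩ :=
      Submodule.mem_sup.mp (pencil_step hK hE ht0 htL htE (hdim m hm) hy)
    refine Submodule.add_mem _ (ih ha) ?_
    have : LinearMap.mulLeft k t b = (⟨t, htR⟩ : R) • b := rfl
    rw [this]
    exact Submodule.smul_mem _ _ (ih hb)

/-- **General nonsingularity criterion.** Let `A ⊆ O_P` be a subalgebra containing a local parameter
at `P` and a nonconstant `x` whose poles contain the poles of every element of `A`, such that every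
place `Q ≠ P` at which `A` is regular is separated from `P` by an element of `A`. Then the
localization of `A` at `P` is `O_P`. -/
theorem locAt_eq_top_of_sep [IsAlgClosed k] (hK : IsFunctionField k K) (P : Place k K)
    (A : Subalgebra k K) (hAO : ∀ a ∈ A, P.1 a ≤ 1) {x : K} (hxA : x ∈ A)
    (hxt : Transcendental k x)
    (hpoles : ∀ a ∈ A, ∀ Q : Place k K, 1 < Q.1 a → 1 < Q.1 x)
    (hsep : ∀ Q : Place k K, Q ≠ P → (∀ a ∈ A, Q.1 a ≤ 1) → ∃ f ∈ A, P.1 f = 1 ∧ Q.1 f < 1)
    {t₀ : K} (ht₀A : t₀ ∈ A) (ht₀ : P.1 t₀ = exp (-1 : ℤ)) :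
    ∀ z : K, P.1 z ≤ 1 → z ∈ locAt P A := by
  classical
  have hx0 : x ≠ 0 := by
    rintro rfl
    exact hxt isAlgebraic_zero
  set E : Divisor k K := poleDiv x with hEdef
  have hE : 0 ≤ E := poleDiv_nonneg x
  have hEpos : ∀ Q : Place k K, 0 < E Q ↔ 1 < Q.1 x := by
    intro Q
    rw [hEdef, poleDiv_apply hK, ← Place.ord_neg_iff Q hx0]
    constructor
    · intro h
      by_contra hge
      push Not at hge
      rw [max_eq_right (by omega)] at h
      exact lt_irrefl _ h
    · intro h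
      exact lt_max_of_lt_left (by omega)
  have hEP : E P = 0 := by
    by_contra hne
    have h1 : 0 < E P := lt_of_le_of_ne (hE P) (Ne.symm hne)
    rw [hEpos] at h1
    exact absurd (hAO x hxA) (not_le.mpr h1)
  have htL : x ∈ L E := mem_L_poleDiv hK x
  have htE : ∀ Q : Place k K, 0 < E Q → Q.1 x = exp (E Q) := by
    intro Q hQ
    have h1 := (hEpos Q).mp hQ
    rw [← Place.ord_neg_iff Q hx0] at h1
    rw [hEdef, poleDiv_apply hK, max_eq_left (by omega), Place.val_eq_exp_neg_ord Q hx0]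
  have hdeg : 1 ≤ E.deg := by
    rw [hEdef, deg_poleDiv hK hxt]
    have := finiteDimensional_adjoin hK hxt
    have : 0 < Module.finrank (IntermediateField.adjoin k ({x} : Set K)) K := Module.finrank_pos
    exact_mod_cast this
  set m₀ : ℕ := 2 * genus k K + 1 with hm₀
  have hell : ∀ F : Divisor k K, 2 * (genus k K : ℤ) - 1 ≤ F.deg →
      (ell F : ℤ) = F.deg + 1 - genus k K := fun F h => ell_eq_of_deg_ge hK h
  have hdim : ∀ m : ℕ, m₀ ≤ m → ell (m • E + E) + ell (m • E - E) ≤ 2 * ell (m • E) := by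
    intro m hm
    have hm' : 2 * (genus k K : ℤ) + 1 ≤ m := by exact_mod_cast hm
    have hg0 : (0 : ℤ) ≤ genus k K := Int.natCast_nonneg _
    have hmd : 2 * (genus k K : ℤ) ≤ ((m : ℤ) - 1) * E.deg := by nlinarith
    have a := hell (m • E) (by rw [Divisor.deg_nsmul]; nlinarith)
    have b := hell (m • E + E) (by rw [Divisor.deg_add, Divisor.deg_nsmul]; nlinarith)
    have c := hell (m • E - E) (by rw [Divisor.deg_sub, Divisor.deg_nsmul]; nlinarith)
    rw [Divisor.deg_nsmul] at a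
    rw [Divisor.deg_add, Divisor.deg_nsmul] at b
    rw [Divisor.deg_sub, Divisor.deg_nsmul] at c
    have : ((ell (m • E + E) + ell (m • E - E) : ℕ) : ℤ) ≤ ((2 * ell (m • E) : ℕ) : ℤ) := by
      push_cast; linarith
    exact_mod_cast this
  have hApoles : ∀ a ∈ A, a ∈ polesIn E hE := fun a ha =>
    mem_polesIn_of_poles hK hE (fun Q hQ => (hEpos Q).mpr (hpoles a ha Q hQ))
  have hres : ∀ z : K, P.1 z ≤ 1 → ∃ c : k, P.1 (z - algebraMap k K c) < 1 :=
    fun z hz => Place.exists_const_sub_lt P (Place.deg_eq_one hK P) hz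
  set W := L (m₀ • E) with hW
  have := L_finite hK (m₀ • E)
  have hWO : ∀ y ∈ W, P.1 y ≤ 1 := by
    intro y hy
    have := hy P
    rwa [Finsupp.smul_apply, hEP, smul_zero, exp_zero] at this
  have htR : x ∈ locAt P A := le_locAt P A hxA
  apply locAt_eq_of_fg P A hAO hres ht₀A ht₀ W hWO
  intro z hz
  set G : Divisor k K := poleDiv z with hG
  have hG0 : 0 ≤ G := poleDiv_nonneg z
  have hGP : G P = 0 := by
    rw [hG, poleDiv_apply hK]
    by_cases hz0 : z = 0
    · subst hz0; simp [Place.ord]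
    · have := (Place.ord_nonneg_iff P hz0).mpr hz
      rw [max_eq_right]; omega
  set T := G.support.filter (fun Q => E Q = 0) with hT
  have hsepT : ∀ Q ∈ T, ∃ f ∈ A, P.1 f = 1 ∧ ∃ m : ℕ, f ∈ L (m • E - Finsupp.single Q 1) := by
    intro Q hQ
    rw [hT, Finset.mem_filter, Finsupp.mem_support_iff] at hQ
    obtain ⟨hQG, hQE⟩ := hQ
    have hQP : Q ≠ P := by
      rintro rfl
      exact hQG hGP
    have hQx : Q.1 x ≤ 1 := by
      by_contra h
      push Not at h
      have := (hEpos Q).mpr h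
      omega
    have hQA : ∀ a ∈ A, Q.1 a ≤ 1 := by
      intro a ha
      by_contra h
      push Not at h
      exact absurd (hpoles a ha Q h) (not_lt.mpr hQx)
    obtain ⟨f, hfA, hf1, hfQ⟩ := hsep Q hQP hQA
    obtain ⟨m, hm⟩ := hApoles f hfA
    refine ⟨f, hfA, hf1, m, ?_⟩
    intro Q'
    rw [Finsupp.sub_apply, Finsupp.single_apply]
    split_ifs with h
    · subst h
      rw [Finsupp.smul_apply, hQE, smul_zero, zero_sub]
      exact lt_one_iff_le_exp_neg_one.mp hfQ
    · rw [sub_zero]; exact hm Q'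
  obtain ⟨w, hwA, hw1, m, hwL⟩ := exists_killer_gen P A T (fun Q => (G Q).toNat) hsepT
  set m₁ := ∑ Q ∈ G.support, (G Q).toNat with hm₁
  have hzL : z ∈ L (∑ Q ∈ T, (Finsupp.single Q (((G Q).toNat : ℕ) : ℤ) : Divisor k K) +
      m₁ • E) := by
    refine L_mono ?_ (mem_L_poleDiv hK z)
    intro Q
    rw [Finsupp.add_apply, Finsupp.smul_apply, Finsupp.finsetSum_apply]
    simp only [Finsupp.single_apply]
    rw [Finset.sum_ite_eq' T Q, nsmul_eq_mul]
    have hGQ : G Q = ((G Q).toNat : ℤ) := (Int.toNat_of_nonneg (hG0 Q)).symm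
    have hmE : (0 : ℤ) ≤ (m₁ : ℤ) * E Q := mul_nonneg (Int.natCast_nonneg _) (hE Q)
    split_ifs with hQT
    · rw [← hG]; omega
    · rw [zero_add, ← hG]
      by_cases hQ0 : G Q = 0
      · rw [hQ0]; exact hmE
      · have hQs : Q ∈ G.support := Finsupp.mem_support_iff.mpr hQ0
        have hEQ : E Q ≠ 0 := by
          intro h0
          exact hQT (by rw [hT, Finset.mem_filter]; exact ⟨hQs, h0⟩)
        have hEQ1 : 1 ≤ E Q := by
          have := hE Q
          simp only [Finsupp.coe_zero, Pi.zero_apply] at this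
          omega
        have h1 : (G Q).toNat ≤ m₁ :=
          Finset.single_le_sum (f := fun Q => (G Q).toNat) (fun _ _ => Nat.zero_le _) hQs
        have h3 : ((G Q).toNat : ℤ) ≤ (m₁ : ℤ) := by exact_mod_cast h1
        nlinarith
  have hzw : z * w ∈ L ((max (m₁ + m) m₀) • E) := by
    have h1 := mul_mem_L_add hzL hwL
    have e : ∑ Q ∈ T, (Finsupp.single Q (((G Q).toNat : ℕ) : ℤ) : Divisor k K) + m₁ • E +
        (m • E - ∑ Q ∈ T, (Finsupp.single Q (((G Q).toNat : ℕ) : ℤ) : Divisor k K)) =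
        (m₁ + m) • E := by
      rw [add_smul]; abel
    rw [e] at h1
    exact L_mono (nsmul_le_nsmul_left hE (le_max_left _ _)) h1
  have h2 := mem_span_of_pencil hK hE hx0 htL htE m₀ hdim (locAt P A) htR _
    (le_max_right (m₁ + m) m₀) hzw
  have hwinv : w⁻¹ ∈ locAt P A := inv_mem_locAt (le_locAt P A hwA) hw1
  have hw0 : w ≠ 0 := by
    rintro rfl
    rw [map_zero] at hw1
    exact zero_ne_one hw1
  have : z = (⟨w⁻¹, hwinv⟩ : locAt P A) • (z * w) := by
    change z = w⁻¹ * (z * w)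
    field_simp
  rw [this]
  exact Submodule.smul_mem _ _ h2

lemma val_le_one_of_mem_adjoin {Q : Place k K} {S : Set K} (hS : ∀ s ∈ S, Q.1 s ≤ 1) {a : K}
    (ha : a ∈ Algebra.adjoin k S) : Q.1 a ≤ 1 := by
  induction ha using Algebra.adjoin_induction with
  | mem x hx => exact hS x hx
  | algebraMap c => exact Place.val_k_le Q c
  | add x y _ _ hx hy => exact (Q.1.map_add x y).trans (max_le hx hy)
  | mul x y _ _ hx hy => rw [map_mul]; exact mul_le_one' hx hy

/-- a generic element of `V` has a pole at each of finitely many places where some element of `V`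
has a pole -/
lemma exists_generic_pole [Infinite k] (V : Submodule k K) (T : Finset (Place k K))
    (hT : ∀ Q ∈ T, ∃ v ∈ V, 1 < Q.1 v) : ∃ x ∈ V, ∀ Q ∈ T, 1 < Q.1 x := by
  classical
  let Wf : Place k K → Submodule k V := fun Q =>
    { carrier := {v | Q.1 (v : K) ≤ 1}
      add_mem' := fun {a b} ha hb => (Q.1.map_add _ _).trans (max_le ha hb)
      zero_mem' := by simp
      smul_mem' := fun c v hv => by
        change Q.1 (c • (v : K)) ≤ 1
        rw [Algebra.smul_def, map_mul]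
        exact mul_le_one' (Place.val_k_le Q c) hv }
  have hW : ∀ Q ∈ T, Wf Q ≠ ⊤ := by
    intro Q hQ h
    obtain ⟨v, hv, hv1⟩ := hT Q hQ
    have : (⟨v, hv⟩ : V) ∈ Wf Q := h ▸ Submodule.mem_top
    exact absurd this (not_le.mpr hv1)
  let s : Finset (Submodule k V) := T.image Wf
  have hs : (⊤ : Submodule k V) ∉ s := by
    intro h
    obtain ⟨Q, hQ, hQW⟩ := Finset.mem_image.mp h
    exact hW Q hQ hQW
  have hne := Subspace.biUnion_ne_univ_of_top_notMem hs
  obtain ⟨f, hf⟩ := (Set.ne_univ_iff_exists_notMem _).mp hne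
  simp only [Set.mem_iUnion, not_exists] at hf
  refine ⟨f.1, f.2, fun Q hQ => ?_⟩
  have : f ∉ Wf Q := fun h => hf (Wf Q) (Finset.mem_image_of_mem _ hQ) h
  exact not_le.mp this

/-- nonsingularity criterion for projective maps: the affine ring `k[φ_i/φ_j]` separates `P` from
the other places at which it is regular and contains a local parameter at `P` -/
theorem isNonsingularAt_of_sep [IsAlgClosed k] (hK : IsFunctionField k K) {n : ℕ}
    (φ : Fin (n + 1) → K) (hφ0 : ∀ i, φ i ≠ 0) (P : Place k K) {j : Fin (n + 1)}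
    (hleast : ∀ i, P.1 (φ i) ≤ P.1 (φ j))
    (hsep : ∀ Q : Place k K, Q ≠ P → (∀ a ∈ (ratioAlg φ j : Subalgebra k K), Q.1 a ≤ 1) →
      ∃ f ∈ (ratioAlg φ j : Subalgebra k K), P.1 f = 1 ∧ Q.1 f < 1)
    {t₀ : K} (ht₀A : t₀ ∈ (ratioAlg φ j : Subalgebra k K)) (ht₀ : P.1 t₀ = exp (-1 : ℤ)) :
    IsNonsingularAt φ P := by
  classical
  set A : Subalgebra k K := ratioAlg φ j with hA
  have hAO : ∀ a ∈ A, P.1 a ≤ 1 := fun a ha => val_le_one_of_mem_ratioAlg hleast ha
  have hr0 : ∀ i, φ i / φ j ≠ 0 := fun i => div_ne_zero (hφ0 i) (hφ0 j)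
  -- `t₀` has a pole
  obtain ⟨Q₀, hQ₀⟩ : ∃ Q₀ : Place k K, 1 < Q₀.1 t₀ := by
    by_contra hcon
    push Not at hcon
    obtain ⟨c, hc⟩ := mem_range_of_forall_le_one hK hcon
    rw [← hc] at ht₀
    by_cases hc0 : c = 0
    · rw [hc0, map_zero, map_zero] at ht₀
      exact exp_ne_zero ht₀.symm
    · rw [Place.val_k P hc0, ← exp_zero, exp_inj] at ht₀
      norm_num at ht₀
  let T : Finset (Place k K) :=
    Finset.univ.biUnion (fun i => (finite_poles hK (hr0 i)).toFinset)
  have hTmem : ∀ Q : Place k K, Q ∈ T ↔ ∃ i, 1 < Q.1 (φ i / φ j) := by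
    intro Q
    simp only [T, Finset.mem_biUnion, Finset.mem_univ, true_and, Set.Finite.mem_toFinset,
      Set.mem_ofPred_eq]
  set V := Submodule.span k (Set.range fun i => φ i / φ j) with hV
  have hVT : ∀ Q ∈ T, ∃ v ∈ V, 1 < Q.1 v := by
    intro Q hQ
    obtain ⟨i, hi⟩ := (hTmem Q).mp hQ
    exact ⟨_, Submodule.subset_span ⟨i, rfl⟩, hi⟩
  obtain ⟨x, hxV, hxT⟩ := exists_generic_pole V T hVT
  have hxA : x ∈ A := span_ratio_le_ratioAlg φ j hxV
  have hpoles : ∀ a ∈ A, ∀ Q : Place k K, 1 < Q.1 a → 1 < Q.1 x := by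
    intro a ha Q hQ
    apply hxT
    rw [hTmem]
    by_contra hcon
    push Not at hcon
    have : Q.1 a ≤ 1 := val_le_one_of_mem_adjoin (by
      rintro _ ⟨i, rfl⟩
      exact hcon i) ha
    exact absurd this (not_le.mpr hQ)
  have hxt : Transcendental k x := by
    apply transcendental_of_notMem hK
    rintro ⟨c, rfl⟩
    exact absurd (hpoles t₀ ht₀A Q₀ hQ₀) (not_lt.mpr (Place.val_k_le Q₀ c))
  intro z hz
  exact ⟨j, hφ0 j, hleast, locAt_eq_top_of_sep hK P A hAO hxA hxt hpoles hsep ht₀A ht₀ z hz⟩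

end General

end Groth.Agent.Lib.Helper4.FF
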