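import Mathlib
import Groth.Agent.Lib.Helper4.FF.ProjMap6

namespace Groth.Agent.Lib.Helper4.FF

open FunFld WithZero

section Conductor

variable {k K : Type*} [Field k] [Field K] [Algebra k K]

/-- a generic linear combination of the ratios has poles wherever an element of the affine ring has -/
lemma exists_generic_ratio [Infinite k] (hK : IsFunctionField k K) {n : ℕ}
    (φ : Fin (n + 1) → K) (hφ0 : ∀ i, φ i ≠ 0) (j : Fin (n + 1)) :
    ∃ x ∈ (ratioAlg φ j : Subalgebra k K), ∀ a ∈ (ratioAlg φ j : Subalgebra k K),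
      ∀ Q : Place k K, 1 < Q.1 a → 1 < Q.1 x := by
  classical
  have hr0 : ∀ i, φ i / φ j ≠ 0 := fun i => div_ne_zero (hφ0 i) (hφ0 j)
  let T : Finset (Place k K) :=
    Finset.univ.biUnion (fun i => (finite_poles hK (hr0 i)).toFinset)
  have hTmem : ∀ Q : Place k K, Q ∈ T ↔ ∃ i, 1 < Q.1 (φ i / φ j) := by
    intro Q
    simp only [T, Finset.mem_biUnion, Finset.mem_univ, true_and, Set.Finite.mem_toFinset,
      Set.mem_ofPred_eq]
  set V := Submodule.span k (Set.range fun i => φ i / φ j) with hV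
  have hVT : ∀ Q ∈ T, ∃ v ∈ V, 1 < Q.1 v := by
    intro Q hQ
    obtain ⟨i, hi⟩ := (hTmem Q).mp hQ
    exact ⟨_, Submodule.subset_span ⟨i, rfl⟩, hi⟩
  obtain ⟨x, hxV, hxT⟩ := exists_generic_pole V T hVT
  refine ⟨x, span_ratio_le_ratioAlg φ j hxV, ?_⟩
  intro a ha Q hQ
  apply hxT
  rw [hTmem]
  by_contra hcon
  push Not at hcon
  have : Q.1 a ≤ 1 := val_le_one_of_mem_adjoin (by
    rintro _ ⟨i, rfl⟩
    exact hcon i) ha
  exact absurd this (not_le.mpr hQ)

/-- `⋃ L(m (x)_∞)` is generated by `L(m₀ (x)_∞)`, `m₀ = 2g+1`, over any ring containing `x` -/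
lemma mem_span_of_poleDiv (hK : IsFunctionField k K) {x : K} (hxt : Transcendental k x)
    (R : Subalgebra k K) (hxR : x ∈ R) (m : ℕ) {y : K} (hy : y ∈ L (m • (poleDiv x : Divisor k K))) :
    y ∈ Submodule.span R (L ((2 * genus k K + 1) • (poleDiv x : Divisor k K)) : Set K) := by
  have hx0 : x ≠ 0 := by
    rintro rfl
    exact hxt isAlgebraic_zero
  set E : Divisor k K := poleDiv x with hEdef
  have hE : 0 ≤ E := poleDiv_nonneg x
  have htL : x ∈ L E := mem_L_poleDiv hK x
  have htE : ∀ Q : Place k K, 0 < E Q → Q.1 x = exp (E Q) := by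
    intro Q hQ
    rw [hEdef, poleDiv_apply hK] at hQ
    have h1 : Q.ord x < 0 := by
      by_contra hge
      push Not at hge
      rw [max_eq_right (by omega)] at hQ
      exact lt_irrefl _ hQ
    rw [hEdef, poleDiv_apply hK, max_eq_left (by omega), Place.val_eq_exp_neg_ord Q hx0]
  have hdeg : 1 ≤ E.deg := by
    rw [hEdef, deg_poleDiv hK hxt]
    have := finiteDimensional_adjoin hK hxt
    have : 0 < Module.finrank (IntermediateField.adjoin k ({x} : Set K)) K := Module.finrank_pos
    exact_mod_cast this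
  set m₀ : ℕ := 2 * genus k K + 1 with hm₀
  have hell : ∀ F : Divisor k K, 2 * (genus k K : ℤ) - 1 ≤ F.deg →
      (ell F : ℤ) = F.deg + 1 - genus k K := fun F h => ell_eq_of_deg_ge hK h
  have hdim : ∀ m : ℕ, m₀ ≤ m → ell (m • E + E) + ell (m • E - E) ≤ 2 * ell (m • E) := by
    intro m hm
    have hm' : 2 * (genus k K : ℤ) + 1 ≤ m := by exact_mod_cast hm
    have hg0 : (0 : ℤ) ≤ genus k K := Int.natCast_nonneg _
    have hmd : 2 * (genus k K : ℤ) ≤ ((m : ℤ) - 1) * E.deg := by nlinarith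
    have a := hell (m • E) (by rw [Divisor.deg_nsmul]; nlinarith)
    have b := hell (m • E + E) (by rw [Divisor.deg_add, Divisor.deg_nsmul]; nlinarith)
    have c := hell (m • E - E) (by rw [Divisor.deg_sub, Divisor.deg_nsmul]; nlinarith)
    rw [Divisor.deg_nsmul] at a
    rw [Divisor.deg_add, Divisor.deg_nsmul] at b
    rw [Divisor.deg_sub, Divisor.deg_nsmul] at c
    have : ((ell (m • E + E) + ell (m • E - E) : ℕ) : ℤ) ≤ ((2 * ell (m • E) : ℕ) : ℤ) := by
      push_cast; linarith
    exact_mod_cast this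
  have hy' : y ∈ L ((max m m₀) • E) := L_mono (nsmul_le_nsmul_left hE (le_max_left _ _)) hy
  exact mem_span_of_pencil hK hE hx0 htL htE m₀ hdim R hxR _ (le_max_right m m₀) hy'

/-- common denominators for a finite dimensional space -/
lemma exists_common_denominator (A : Subalgebra k K)
    (hfrac : ∀ b : K, ∃ u ∈ A, ∃ w ∈ A, w ≠ 0 ∧ b * w = u)
    (W : Submodule k K) [Module.Finite k W] :
    ∃ w₀ ∈ A, w₀ ≠ 0 ∧ ∀ y ∈ W, w₀ * y ∈ A := by
  classical
  obtain ⟨s, hs⟩ : W.FG := Module.Finite.iff_fg.mp inferInstance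
  have key : ∀ s : Finset K, ∃ w₀ ∈ A, w₀ ≠ 0 ∧ ∀ y ∈ s, w₀ * y ∈ A := by
    intro s
    induction s using Finset.induction_on with
    | empty => exact ⟨1, A.one_mem, one_ne_zero, by simp⟩
    | insert b s _ ih =>
      obtain ⟨w₀, hw₀, hw₀0, h⟩ := ih
      obtain ⟨u, hu, w, hw, hw0, e⟩ := hfrac b
      refine ⟨w₀ * w, A.mul_mem hw₀ hw, mul_ne_zero hw₀0 hw0, ?_⟩
      intro y hy
      rcases Finset.mem_insert.mp hy with rfl | hy
      · have : w₀ * w * y = w₀ * u := by rw [← e]; ring
        rw [this]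
        exact A.mul_mem hw₀ hu
      · have : w₀ * w * y = w * (w₀ * y) := by ring
        rw [this]
        exact A.mul_mem hw (h y hy)
  obtain ⟨w₀, hw₀, hw₀0, h⟩ := key s
  refine ⟨w₀, hw₀, hw₀0, ?_⟩
  intro y hy
  rw [← hs] at hy
  induction hy using Submodule.span_induction with
  | mem y hy => exact h y hy
  | zero => rw [mul_zero]; exact A.zero_mem
  | add a b _ _ ha hb => rw [mul_add]; exact A.add_mem ha hb
  | smul c a _ ha =>
    rw [mul_smul_comm]
    exact A.smul_mem ha c

/-- **generic nonsingularity**: if `A` has fraction field `K` then its localization at `P` is `O_P`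
for all places `P` outside the poles of `x` and the zeros of a conductor element `w₀`. -/
theorem exists_conductor [IsAlgClosed k] (hK : IsFunctionField k K) (A : Subalgebra k K) {x : K}
    (hxA : x ∈ A) (hxt : Transcendental k x)
    (hfrac : ∀ b : K, ∃ u ∈ A, ∃ w ∈ A, w ≠ 0 ∧ b * w = u) :
    ∃ w₀ ∈ A, w₀ ≠ 0 ∧ ∀ P : Place k K, P.1 x ≤ 1 → P.1 w₀ = 1 →
      ∀ z : K, P.1 z ≤ 1 → z ∈ locAt P A := by
  classical
  have hx0 : x ≠ 0 := by
    rintro rfl
    exact hxt isAlgebraic_zero
  set E : Divisor k K := poleDiv x with hEdef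
  have hE : 0 ≤ E := poleDiv_nonneg x
  set m₀ : ℕ := 2 * genus k K + 1 with hm₀
  have := L_finite hK (m₀ • E)
  obtain ⟨w₀, hw₀, hw₀0, hW⟩ := exists_common_denominator A hfrac (L (m₀ • E))
  have hspan : ∀ y : K, y ∈ Submodule.span A (L (m₀ • E) : Set K) → w₀ * y ∈ A := by
    intro y h1
    induction h1 using Submodule.span_induction with
    | mem y hy => exact hW y hy
    | zero => rw [mul_zero]; exact A.zero_mem
    | add a b _ _ ha hb => rw [mul_add]; exact A.add_mem ha hb
    | smul c a _ ha =>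
      have : w₀ * (c • a) = (c : K) * (w₀ * a) := by
        change w₀ * ((c : K) * a) = _
        ring
      rw [this]
      exact A.mul_mem c.2 ha
  have hcond : ∀ (m : ℕ) (y : K), y ∈ L (m • E) → w₀ * y ∈ A := fun m y hy =>
    hspan y (mem_span_of_poleDiv hK hxt A hxA m hy)
  have hdeg : 1 ≤ E.deg := by
    rw [hEdef, deg_poleDiv hK hxt]
    have := finiteDimensional_adjoin hK hxt
    have : 0 < Module.finrank (IntermediateField.adjoin k ({x} : Set K)) K := Module.finrank_pos
    exact_mod_cast this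
  refine ⟨w₀, hw₀, hw₀0, ?_⟩
  intro P hPx hPw z hz
  have hEP : E P = 0 := by
    rw [hEdef, poleDiv_apply hK]
    have := (Place.ord_nonneg_iff P hx0).mpr hPx
    rw [max_eq_right]; omega
  set G : Divisor k K := poleDiv z with hG
  have hG0 : 0 ≤ G := poleDiv_nonneg z
  have hGP : G P = 0 := by
    rw [hG, poleDiv_apply hK]
    by_cases hz0 : z = 0
    · subst hz0; simp [Place.ord]
    · have := (Place.ord_nonneg_iff P hz0).mpr hz
      rw [max_eq_right]; omega
  have hGdeg : 0 ≤ G.deg := Divisor.deg_nonneg hG0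
  set m : ℕ := G.deg.toNat + 2 * genus k K + 1 with hm
  have hmdeg : G.deg + 2 * (genus k K : ℤ) + 1 ≤ (m • E).deg := by
    rw [Divisor.deg_nsmul, hm]
    have : (G.deg.toNat : ℤ) = G.deg := Int.toNat_of_nonneg hGdeg
    push_cast
    nlinarith
  have hP1 := Place.deg_eq_one hK P
  have hlt : ell (m • E - G - Finsupp.single P 1) < ell (m • E - G) := by
    have a := ell_eq_of_deg_ge hK (D := m • E - G) (by rw [Divisor.deg_sub]; omega)
    have b := ell_eq_of_deg_ge hK (D := m • E - G - Finsupp.single P 1) (by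
      rw [Divisor.deg_sub, Divisor.deg_sub, Divisor.deg_single, hP1]; push_cast; omega)
    rw [Divisor.deg_sub, Divisor.deg_sub, Divisor.deg_single, hP1] at b
    rw [Divisor.deg_sub] at a
    push_cast at b
    omega
  obtain ⟨f, hfL, hf'⟩ := exists_mem_not_mem_of_ell_lt hK hlt
  have hf1 : P.1 f = 1 := by
    rw [val_eq_of_mem_of_notMem hfL hf', Finsupp.sub_apply, Finsupp.smul_apply, hEP, hGP,
      smul_zero, sub_zero, exp_zero]
  have hfE : f ∈ L (m • E) := L_mono (sub_le_self _ hG0) hfL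
  have hzf : z * f ∈ L (m • E) := by
    have := mul_mem_L_add (mem_L_poleDiv hK z) hfL
    rwa [← hG, add_sub_cancel] at this
  refine ⟨w₀ * (z * f), hcond m _ hzf, w₀ * f, hcond m _ hfE, by rw [map_mul, hPw, hf1, one_mul],
    by ring⟩

end Conductor

end Groth.Agent.Lib.Helper4.FF
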