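import Mathlib
import Groth.Agent.Lib.Helper4.FF.ProjMap7

namespace Groth.Agent.Lib.Helper4.FF

open FunFld WithZero

section MapDiv

variable {k K : Type*} [Field k] [Field K] [Algebra k K]

lemma mapDiv_apply (hK : IsFunctionField k K) {ι : Type*} [Fintype ι] [Nonempty ι] (φ : ι → K)
    (Q : Place k K) :
    mapDiv k φ Q = -Finset.univ.inf' Finset.univ_nonempty (fun i => Q.ord (φ i)) := by
  have hfin : (Function.support fun P : Place k K =>
      -Finset.univ.inf' Finset.univ_nonempty (fun i => P.ord (φ i))).Finite := by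
    refine (Set.finite_iUnion fun i => finite_support_ord hK (φ i)).subset ?_
    intro P hP
    rw [Set.mem_iUnion]
    by_contra hcon
    push Not at hcon
    apply hP
    have h0 : ∀ i, P.ord (φ i) = 0 := by
      intro i
      have := hcon i
      rwa [Function.mem_support, not_not] at this
    simp only [h0, Finset.inf'_const, neg_zero]
  unfold mapDiv
  rw [dif_pos hfin]
  rfl

/-- `exp [φ](Q)` is the largest value of the entries at `Q` -/
lemma exp_mapDiv (hK : IsFunctionField k K) {ι : Type*} [Fintype ι] [Nonempty ι] (φ : ι → K)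
    (hφ0 : ∀ i, φ i ≠ 0) (Q : Place k K) {j : ι} (hleast : ∀ i, Q.1 (φ i) ≤ Q.1 (φ j)) :
    exp (mapDiv k φ Q) = Q.1 (φ j) := by
  rw [mapDiv_apply hK, Place.val_eq_exp_neg_ord Q (hφ0 j)]
  congr 2
  apply le_antisymm
  · exact Finset.inf'_le _ (Finset.mem_univ j)
  · apply Finset.le_inf'
    intro i _
    have := hleast i
    rw [Place.val_eq_exp_neg_ord Q (hφ0 i), Place.val_eq_exp_neg_ord Q (hφ0 j), exp_le_exp] at this
    omega

lemma mem_L_mapDiv (hK : IsFunctionField k K) {n : ℕ} (φ : Fin (n + 1) → K)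
    (hφ0 : ∀ i, φ i ≠ 0) (i : Fin (n + 1)) : φ i ∈ L (mapDiv k φ) := by
  intro Q
  obtain ⟨j, hj⟩ := exists_least φ Q
  rw [exp_mapDiv hK φ hφ0 Q hj]
  exact hj i

lemma span_le_L_mapDiv (hK : IsFunctionField k K) {n : ℕ} (φ : Fin (n + 1) → K)
    (hφ0 : ∀ i, φ i ≠ 0) : Submodule.span k (Set.range φ) ≤ L (mapDiv k φ) := by
  rw [Submodule.span_le]
  rintro _ ⟨i, rfl⟩
  exact mem_L_mapDiv hK φ hφ0 i

lemma mem_L_sub_single_iff {D : Divisor k K} {Q : Place k K} {v : K} (hv : v ∈ L D) :
    v ∈ L (D - Finsupp.single Q 1) ↔ Q.1 v < exp (D Q) := by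
  classical
  constructor
  · intro h
    have := h Q
    rw [Finsupp.sub_apply, Finsupp.single_eq_same, ← lt_exp_iff_le_exp_sub_one] at this
    exact this
  · intro h
    by_contra hno
    have := val_eq_of_mem_of_notMem hv hno
    rw [this] at h
    exact lt_irrefl _ h

/-- codimension two criterion in terms of a separating element -/
lemma codim_two_iff [IsAlgClosed k] (hK : IsFunctionField k K) (W : Submodule k K)
    (D : Divisor k K) (hWD : W ≤ L D) (P Q : Place k K)
    (hP : ∃ v ∈ W, v ∉ L (D - Finsupp.single P 1)) :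
    Module.finrank k ↥(W ⊓ L (D - Finsupp.single P 1 - Finsupp.single Q 1)) + 2 =
        Module.finrank k ↥W ↔
      ∃ v ∈ W, v ∈ L (D - Finsupp.single P 1) ∧
        v ∉ L (D - Finsupp.single P 1 - Finsupp.single Q 1) := by
  have hfW : Module.Finite k ↥W := by
    have := finite_inf_L hK W D
    rwa [inf_eq_left.mpr hWD] at this
  have hf1 := finite_inf_L hK W (D - Finsupp.single P 1)
  have hf2 := finite_inf_L hK W (D - Finsupp.single P 1 - Finsupp.single Q 1)
  have h1 : Module.finrank k ↥W ≤ Module.finrank k ↥(W ⊓ L (D - Finsupp.single P 1)) + 1 := by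
    have := vd_step hK W D P 0
    rw [vd_of_nonpos hWD P le_rfl, Place.deg_eq_one hK P, zero_add] at this
    exact this
  have h2 : Module.finrank k ↥(W ⊓ L (D - Finsupp.single P 1)) ≤
      Module.finrank k ↥(W ⊓ L (D - Finsupp.single P 1 - Finsupp.single Q 1)) + 1 := by
    have := vd_step hK W (D - Finsupp.single P 1) Q 0
    unfold vd at this
    rw [Place.deg_eq_one hK Q, zero_add, Finsupp.single_zero, sub_zero] at this
    exact this
  have hle1 : W ⊓ L (D - Finsupp.single P 1) ≤ W := inf_le_left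
  have hle2 : W ⊓ L (D - Finsupp.single P 1 - Finsupp.single Q 1) ≤
      W ⊓ L (D - Finsupp.single P 1) :=
    inf_le_inf_left W (L_mono (by
      rw [sub_le_self_iff, ← Finsupp.single_zero Q]
      exact single_le_single Q (by norm_num)))
  have h3 : Module.finrank k ↥(W ⊓ L (D - Finsupp.single P 1)) < Module.finrank k ↥W := by
    apply Submodule.finrank_lt_finrank_of_lt
    refine lt_of_le_of_ne hle1 ?_
    intro h
    obtain ⟨v, hv, hv'⟩ := hP
    have : v ∈ W ⊓ L (D - Finsupp.single P 1) := by rw [h]; exact hv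
    exact hv' this.2
  have h4 := Submodule.finrank_mono hle2
  constructor
  · intro h
    have hne : W ⊓ L (D - Finsupp.single P 1 - Finsupp.single Q 1) ≠
        W ⊓ L (D - Finsupp.single P 1) := by
      intro heq
      rw [heq] at h
      omega
    obtain ⟨v, hv, hv'⟩ := SetLike.exists_of_lt (lt_of_le_of_ne hle2 hne)
    exact ⟨v, hv.1, hv.2, fun h' => hv' ⟨hv.1, h'⟩⟩
  · rintro ⟨v, hvW, hv1, hv2⟩
    have hlt : W ⊓ L (D - Finsupp.single P 1 - Finsupp.single Q 1) <
        W ⊓ L (D - Finsupp.single P 1) := by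
      refine lt_of_le_of_ne hle2 ?_
      intro heq
      have : v ∈ W ⊓ L (D - Finsupp.single P 1 - Finsupp.single Q 1) := by
        rw [heq]; exact ⟨hvW, hv1⟩
      exact hv2 this.2
    have h5 := Submodule.finrank_lt_finrank_of_lt hlt
    omega

/-- the local ring at `P` is contained in `O_Q` for `Q` in the fibre of `P` -/
lemma val_le_one_of_sameImage {ι : Type*} {φ : ι → K} {P Q : Place k K}
    (h : SameImage φ P Q) {z : K} (hz : InLocRing φ P z) : Q.1 z ≤ 1 := by
  obtain ⟨j, hj, hP, hQ, hres⟩ := h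
  rw [inLocRing_iff hj hP] at hz
  obtain ⟨u, hu, w, hw, hw1, e⟩ := hz
  have hS : ∀ s ∈ Set.range (fun i => φ i / φ j), ∃ c : k,
      P.1 (s - algebraMap k K c) < 1 ∧ Q.1 (s - algebraMap k K c) < 1 := by
    rintro _ ⟨i, rfl⟩
    exact hres i
  obtain ⟨cw, hcw1, hcw2⟩ := exists_common_residue hS hw
  have hcw0 : cw ≠ 0 := by
    rintro rfl
    rw [map_zero, sub_zero, hw1] at hcw1
    exact lt_irrefl _ hcw1
  have hQw : Q.1 w = 1 := by
    have : w = algebraMap k K cw + (w - algebraMap k K cw) := by ring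
    rw [this, Valuation.map_add_eq_of_lt_left]
    · exact Place.val_k Q hcw0
    · rw [Place.val_k Q hcw0]; exact hcw2
  have hQu : Q.1 u ≤ 1 := val_le_one_of_mem_ratioAlg hQ hu
  rw [← e, map_mul, hQw, mul_one] at hQu
  exact hQu

/-- a local parameter in the local ring yields one in the span of the ratios -/
lemma exists_span_uniformizer {ι : Type*} {φ : ι → K} {P : Place k K}
    (hres : ∀ z : K, P.1 z ≤ 1 → ∃ c : k, P.1 (z - algebraMap k K c) < 1) {j : ι}
    (hj : φ j ≠ 0) (hleast : ∀ i, P.1 (φ i) ≤ P.1 (φ j)) {t : K}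
    (ht : t ∈ locAt P (ratioAlg φ j)) (htv : P.1 t = exp (-1 : ℤ)) :
    ∃ v ∈ Submodule.span k (Set.range fun i => φ i / φ j), P.1 v = exp (-1 : ℤ) := by
  obtain ⟨u, hu, w, hw, hw1, e⟩ := ht
  have huv : P.1 u = exp (-1 : ℤ) := by rw [← e, map_mul, hw1, mul_one, htv]
  set V := Submodule.span k (Set.range fun i => φ i / φ j) with hV
  have h1V : (1 : K) ∈ V := by
    have := Submodule.subset_span (R := k) (s := Set.range fun i => φ i / φ j) ⟨j, rfl⟩
    simp only [div_self hj] at this
    exact this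
  have hVO : ∀ v ∈ V, P.1 v ≤ 1 := fun v hv =>
    val_le_one_of_mem_ratioAlg hleast (span_ratio_le_ratioAlg φ j hv)
  have hu' : u ∈ Algebra.adjoin k (V : Set K) := Algebra.adjoin_mono Submodule.subset_span hu
  obtain ⟨v, hv, hv2⟩ := exists_first_order P hres V h1V hVO hu'
  refine ⟨v, hv, ?_⟩
  have e2 : v = u - (u - v) := by ring
  rw [e2, Valuation.map_sub_eq_of_lt_left, huv]
  rw [huv]
  refine lt_of_le_of_lt hv2 ?_
  rw [exp_lt_exp]; norm_num

end MapDiv

end Groth.Agent.Lib.Helper4.FF
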