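import Mathlib
import Groth.Agent.Lib.Helper4.FF.ProjMap8

namespace Groth.Agent.Lib.Helper4.FF

open FunFld WithZero Polynomial

section Plane

variable {k K : Type*} [Field k] [Field K] [Algebra k K]

/-- polynomials of degree `≤ l` in `x` lie in `L(l (x)_∞)` -/
lemma aeval_mem_L_nsmul_poleDiv (hK : IsFunctionField k K) (x : K) (l : ℕ) (p : k[X])
    (hp : p.natDegree ≤ l) : aeval x p ∈ L (l • (poleDiv x : Divisor k K)) := by
  intro Q
  rw [Finsupp.smul_apply, nsmul_eq_mul]
  exact val_aeval_le_exp Q (poleDiv_nonneg x Q) (val_le_exp_poleDiv hK x Q) l p hp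

lemma two_mul_sum_fin (dn m : ℕ) (h : dn ≤ m + 1) :
    2 * ((∑ j : Fin dn, (m + 1 - (j : ℕ)) : ℕ) : ℤ) =
      2 * (dn : ℤ) * ((m : ℤ) + 1) - (dn : ℤ) * ((dn : ℤ) - 1) := by
  induction dn with
  | zero => simp
  | succ n ih =>
    rw [Fin.sum_univ_castSucc]
    have := ih (by omega)
    simp only [Fin.val_castSucc, Fin.val_last]
    push_cast at this ⊢
    rw [Nat.cast_sub (by omega)]
    push_cast
    linarith

/-- **Plane curve genus bound**: if `K = k(x, y)` and the poles of `y` are bounded by those of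
`x`, then `2g ≤ (d-1)(d-2)` with `d = deg (x)_∞ = [K : k(x)]`. -/
theorem two_mul_genus_le_of_mem_L_poleDiv (hK : IsFunctionField k K) {x y : K}
    (hxt : Transcendental k x) (hy : y ∈ L (poleDiv x : Divisor k K))
    (hgen : IntermediateField.adjoin k ({x, y} : Set K) = ⊤) :
    2 * (genus k K : ℤ) ≤
      ((poleDiv x : Divisor k K).deg - 1) * ((poleDiv x : Divisor k K).deg - 2) := by
  classical
  set E : Divisor k K := poleDiv x with hE
  set F := IntermediateField.adjoin k ({x} : Set K) with hF
  have hfd : FiniteDimensional F K := finiteDimensional_adjoin hK hxt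
  have hyint : IsIntegral F y := Algebra.IsIntegral.isIntegral y
  -- `F(y) = K`
  have htop : IntermediateField.adjoin F ({y} : Set K) = ⊤ := by
    have h1 := IntermediateField.adjoin_simple_adjoin_simple (F := k) (α := x) y
    rw [hgen] at h1
    rw [eq_top_iff]
    intro z _
    have : z ∈ (IntermediateField.adjoin F ({y} : Set K)).restrictScalars k := by
      rw [h1]; trivial
    exact this
  set dn := (minpoly F y).natDegree with hdn
  have hdn' : dn = Module.finrank F K := by
    rw [hdn, ← IntermediateField.adjoin.finrank hyint, htop, IntermediateField.finrank_top']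
  have hdeg : E.deg = dn := by rw [hE, deg_poleDiv hK hxt, hdn']
  have hli : LinearIndependent F fun i : Fin dn => y ^ (i : ℕ) := linearIndependent_pow y
  have hdpos : 0 < dn := by rw [hdn']; exact Module.finrank_pos
  -- the parameter `m`
  set m : ℕ := dn + 2 * genus k K with hm
  -- the map
  let Ψ : (∀ j : Fin dn, degreeLT k (m + 1 - (j : ℕ))) →ₗ[k] K :=
    { toFun := fun p => ∑ j : Fin dn, aeval x (p j : k[X]) * y ^ (j : ℕ)
      map_add' := by
        intro p q
        simp only [Pi.add_apply, Submodule.coe_add, map_add, add_mul, Finset.sum_add_distrib]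
      map_smul' := by
        intro c p
        simp only [Pi.smul_apply, Submodule.coe_smul, map_smul, smul_mul_assoc, Finset.smul_sum,
          RingHom.id_apply] }
  have hΨ : ∀ p, Ψ p = ∑ j : Fin dn, aeval x (p j : k[X]) * y ^ (j : ℕ) := fun _ => rfl
  have hinj : Function.Injective Ψ := by
    rw [← LinearMap.ker_eq_bot, LinearMap.ker_eq_bot']
    intro p hp
    rw [hΨ] at hp
    have hmem : ∀ j : Fin dn, aeval x (p j : k[X]) ∈ F := by
      intro j
      have : aeval x (p j : k[X]) ∈ Algebra.adjoin k ({x} : Set K) := by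
        rw [Algebra.adjoin_singleton_eq_range_aeval]
        exact ⟨_, rfl⟩
      exact IntermediateField.algebra_adjoin_le_adjoin k _ this
    have h2 : ∑ j : Fin dn, (⟨aeval x (p j : k[X]), hmem j⟩ : F) • y ^ (j : ℕ) = 0 := by
      rw [← hp]
      refine Finset.sum_congr rfl fun j _ => ?_
      rfl
    have h3 := Fintype.linearIndependent_iff.mp hli _ h2
    funext j
    have h4 : aeval x (p j : k[X]) = 0 := congrArg Subtype.val (h3 j)
    have h5 : (p j : k[X]) = 0 := by
      by_contra hne
      exact hxt ⟨_, hne, h4⟩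
    exact Subtype.ext h5
  have hrange : LinearMap.range Ψ ≤ L (m • E) := by
    rintro _ ⟨p, rfl⟩
    rw [hΨ]
    refine Submodule.sum_mem _ fun j _ => ?_
    have hj : (j : ℕ) < dn := j.2
    have h1 : aeval x (p j : k[X]) ∈ L ((m - (j : ℕ)) • E) := by
      apply aeval_mem_L_nsmul_poleDiv hK
      have := (p j).2
      rw [mem_degreeLT] at this
      by_cases h0 : (p j : k[X]) = 0
      · rw [h0, natDegree_zero]; omega
      · rw [degree_eq_natDegree h0] at this
        have : (p j : k[X]).natDegree < m + 1 - (j : ℕ) := by exact_mod_cast this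
        omega
    have h2 : y ^ (j : ℕ) ∈ L ((j : ℕ) • E) := pow_mem_L_nsmul hy _
    have h3 := mul_mem_L_add h1 h2
    rw [← add_smul] at h3
    have : m - (j : ℕ) + (j : ℕ) = m := by omega
    rwa [this] at h3
  have := L_finite hK (m • E)
  have hfin1 : Module.finrank k (∀ j : Fin dn, degreeLT k (m + 1 - (j : ℕ))) =
      ∑ j : Fin dn, (m + 1 - (j : ℕ)) := by
    rw [Module.finrank_pi_fintype]
    refine Finset.sum_congr rfl fun j _ => ?_
    rw [(degreeLTEquiv k _).finrank_eq, Module.finrank_fin_fun]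
  have hle : ∑ j : Fin dn, (m + 1 - (j : ℕ)) ≤ ell (m • E) := by
    rw [← hfin1, ← LinearMap.finrank_range_of_inj hinj]
    exact Submodule.finrank_mono hrange
  have hell := ell_eq_of_deg_ge hK (D := m • E) (by
    rw [Divisor.deg_nsmul, hdeg, hm]
    have : (1 : ℤ) ≤ dn := by exact_mod_cast hdpos
    push_cast
    nlinarith [Int.natCast_nonneg (genus k K)])
  rw [Divisor.deg_nsmul, hdeg] at hell
  have h6 := two_mul_sum_fin dn m (by omega)
  have h7 : ((∑ j : Fin dn, (m + 1 - (j : ℕ)) : ℕ) : ℤ) ≤ (ell (m • E) : ℤ) := by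
    exact_mod_cast hle
  rw [hdeg]
  nlinarith

/-- `exp [φ](Q)` is the largest value of the entries at `Q`, for tuples with the entry `1` -/
lemma exp_mapDiv_of_one (hK : IsFunctionField k K) {ι : Type*} [Fintype ι] [Nonempty ι]
    (φ : ι → K) (h1 : ∃ i, φ i = 1) (Q : Place k K) {j : ι}
    (hleast : ∀ i, Q.1 (φ i) ≤ Q.1 (φ j)) : exp (mapDiv k φ Q) = Q.1 (φ j) := by
  obtain ⟨i₁, hi₁⟩ := h1
  have hj1 : 1 ≤ Q.1 (φ j) := by
    have := hleast i₁
    rwa [hi₁, map_one] at this
  have hj0 : φ j ≠ 0 := by
    intro h0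
    rw [h0, map_zero] at hj1
    exact absurd hj1 (by simp)
  have hordj : Q.ord (φ j) ≤ 0 := by
    rw [Place.val_eq_exp_neg_ord Q hj0, ← exp_zero, exp_le_exp] at hj1
    omega
  rw [mapDiv_apply hK, Place.val_eq_exp_neg_ord Q hj0]
  congr 2
  apply le_antisymm
  · exact Finset.inf'_le _ (Finset.mem_univ j)
  · apply Finset.le_inf'
    intro i _
    by_cases hi0 : φ i = 0
    · rw [hi0]
      simp only [Place.ord, map_zero, log_zero, neg_zero]
      exact hordj
    · have := hleast i
      rw [Place.val_eq_exp_neg_ord Q hi0, Place.val_eq_exp_neg_ord Q hj0, exp_le_exp] at this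
      omega

/-- a generic element of `W ⊆ L(D)` has exact order `-D(Q)` at finitely many places where some
element of `W` has -/
lemma exists_exact_of_le [Infinite k] (W : Submodule k K) (D : Divisor k K) (hWD : W ≤ L D)
    (T : Finset (Place k K))
    (hT : ∀ Q ∈ T, ∃ v ∈ W, v ∉ L (D - Finsupp.single Q 1)) :
    ∃ t ∈ W, ∀ Q ∈ T, Q.1 t = exp (D Q) := by
  classical
  let Wf : Place k K → Submodule k W := fun Q => (L (D - Finsupp.single Q 1)).comap W.subtype
  have hW : ∀ Q ∈ T, Wf Q ≠ ⊤ := by
    intro Q hQ h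
    obtain ⟨x, hx, hx'⟩ := hT Q hQ
    have : (⟨x, hx⟩ : W) ∈ Wf Q := h ▸ Submodule.mem_top
    exact hx' this
  let s : Finset (Submodule k W) := T.image Wf
  have hs : (⊤ : Submodule k W) ∉ s := by
    intro h
    obtain ⟨Q, hQ, hQW⟩ := Finset.mem_image.mp h
    exact hW Q hQ hQW
  have hne := Subspace.biUnion_ne_univ_of_top_notMem hs
  obtain ⟨f, hf⟩ := (Set.ne_univ_iff_exists_notMem _).mp hne
  simp only [Set.mem_iUnion, not_exists] at hf
  refine ⟨f.1, f.2, fun Q hQ => ?_⟩
  have hfQ : f ∉ Wf Q := fun h => hf (Wf Q) (Finset.mem_image_of_mem _ hQ) h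
  exact val_eq_of_mem_of_notMem (hWD f.2) hfQ

/-- generic coordinates for a plane model `(1 : x : y)` -/
theorem exists_generic_coords [IsAlgClosed k] (hK : IsFunctionField k K) (x y : K)
    (hxy : IntermediateField.adjoin k ({x, y} : Set K) = ⊤) :
    ∃ x' y' : K, x' ∈ Submodule.span k (Set.range ![(1 : K), x, y]) ∧
      y' ∈ Submodule.span k (Set.range ![(1 : K), x, y]) ∧ Transcendental k x' ∧
      (poleDiv x' : Divisor k K) = mapDiv k ![(1 : K), x, y] ∧
      y' ∈ L (poleDiv x' : Divisor k K) ∧ IntermediateField.adjoin k ({x', y'} : Set K) = ⊤ ∧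
      Submodule.span k (Set.range ![(1 : K), x', y']) =
        Submodule.span k (Set.range ![(1 : K), x, y]) := by
  classical
  set φ : Fin 3 → K := ![(1 : K), x, y] with hφ
  set W := Submodule.span k (Set.range φ) with hW
  set D := mapDiv k φ with hD
  have h1 : ∃ i, φ i = 1 := ⟨0, rfl⟩
  have hφW : ∀ i, φ i ∈ W := fun i => Submodule.subset_span ⟨i, rfl⟩
  have hexp : ∀ (Q : Place k K) (j : Fin 3), (∀ i, Q.1 (φ i) ≤ Q.1 (φ j)) →
      exp (D Q) = Q.1 (φ j) := fun Q j h => exp_mapDiv_of_one hK φ h1 Q h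
  have hφL : ∀ i, φ i ∈ L D := by
    intro i Q
    obtain ⟨j, hj⟩ := exists_least φ Q
    rw [hexp Q j hj]
    exact hj i
  have hWD : W ≤ L D := by
    rw [hW, Submodule.span_le]
    rintro _ ⟨i, rfl⟩
    exact hφL i
  have hD0 : 0 ≤ D := by
    intro Q
    have := hφL 0 Q
    have h0 : φ 0 = 1 := rfl
    rw [h0, map_one, ← exp_zero, exp_le_exp] at this
    exact this
  have hT : ∀ Q ∈ D.support, ∃ v ∈ W, v ∉ L (D - Finsupp.single Q 1) := by
    intro Q _
    obtain ⟨j, hj⟩ := exists_least φ Q
    refine ⟨φ j, hφW j, ?_⟩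
    rw [mem_L_sub_single_iff (hφL j), hexp Q j hj]
    exact lt_irrefl _
  obtain ⟨x', hx'W, hx'T⟩ := exists_exact_of_le W D hWD D.support hT
  have hx'L : x' ∈ L D := hWD hx'W
  have hDpos : ∀ Q : Place k K, D Q ≠ 0 → 0 < D Q := fun Q h => lt_of_le_of_ne (hD0 Q) (Ne.symm h)
  -- `x'` is not constant
  have hxt : Transcendental k x' := by
    -- one of `x`, `y` has a pole
    have hpole : ∃ (Q₀ : Place k K) (i : Fin 3), 1 < Q₀.1 (φ i) := by
      by_contra hcon
      push Not at hcon
      have hxk : x ∈ Set.range (algebraMap k K) :=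
        mem_range_of_forall_le_one hK (fun Q => hcon Q 1)
      have hyk : y ∈ Set.range (algebraMap k K) :=
        mem_range_of_forall_le_one hK (fun Q => hcon Q 2)
      have hbot : IntermediateField.adjoin k ({x, y} : Set K) ≤ ⊥ := by
        rw [IntermediateField.adjoin_le_iff]
        rintro z (rfl | rfl)
        · exact IntermediateField.mem_bot.mpr hxk
        · exact IntermediateField.mem_bot.mpr hyk
      rw [hxy] at hbot
      obtain ⟨⟨z, hzt, -⟩, -⟩ := hK
      have hz : z ∈ (⊥ : IntermediateField k K) := hbot trivial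
      obtain ⟨c, rfl⟩ := IntermediateField.mem_bot.mp hz
      exact hzt (isAlgebraic_algebraMap c)
    obtain ⟨Q₀, i, hi⟩ := hpole
    have hDQ₀ : 0 < D Q₀ := by
      have := hφL i Q₀
      have h2 := lt_of_lt_of_le hi this
      rwa [← exp_zero, exp_lt_exp] at h2
    have hQ₀ : Q₀ ∈ D.support := Finsupp.mem_support_iff.mpr hDQ₀.ne'
    apply transcendental_of_notMem hK
    rintro ⟨c, hc⟩
    have h3 := hx'T Q₀ hQ₀
    rw [← hc] at h3
    have h4 := Place.val_k_le Q₀ c
    rw [h3, ← exp_zero, exp_le_exp] at h4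
    omega
  have hx'0 : x' ≠ 0 := by
    rintro rfl
    exact hxt isAlgebraic_zero
  have hpd : (poleDiv x' : Divisor k K) = D := by
    ext Q
    rw [poleDiv_apply hK]
    by_cases hQ : D Q = 0
    · have := hx'L Q
      rw [hQ, exp_zero] at this
      have := (Place.ord_nonneg_iff Q hx'0).mpr this
      rw [hQ, max_eq_right]; omega
    · have hQs : Q ∈ D.support := Finsupp.mem_support_iff.mpr hQ
      have := hx'T Q hQs
      rw [Place.val_eq_exp_neg_ord Q hx'0, exp_inj] at this
      rw [this, max_eq_left (hDpos Q hQ).le]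
  -- coordinates of `x'`
  obtain ⟨c, hc⟩ := (Submodule.mem_span_range_iff_exists_fun k).mp hx'W
  rw [Fin.sum_univ_three] at hc
  have hφ0 : φ 0 = 1 := rfl
  have hφ1 : φ 1 = x := rfl
  have hφ2 : φ 2 = y := rfl
  rw [hφ0, hφ1, hφ2] at hc
  by_cases hc2 : c 2 = 0
  · -- `x' = c₀ + c₁ x`
    rw [hc2, zero_smul, add_zero] at hc
    have hc1 : c 1 ≠ 0 := by
      intro h0
      rw [h0, zero_smul, add_zero] at hc
      apply hxt
      rw [← hc, Algebra.smul_def, mul_one]
      exact isAlgebraic_algebraMap _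
    have hx : x = (c 1)⁻¹ • (x' - c 0 • (1 : K)) := by
      rw [← hc, add_sub_cancel_left, smul_smul, inv_mul_cancel₀ hc1, one_smul]
    refine ⟨x', y, hx'W, hφW 2, hxt, hpd, ?_, ?_, ?_⟩
    · rw [hpd]; exact hφL 2
    · rw [eq_top_iff, ← hxy, IntermediateField.adjoin_le_iff]
      rintro z (rfl | rfl)
      · rw [hx]
        have hx'm : x' ∈ IntermediateField.adjoin k ({x', y} : Set K) :=
          IntermediateField.subset_adjoin k _ (by simp)
        exact (IntermediateField.adjoin k ({x', y} : Set K)).smul_mem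
          (sub_mem hx'm ((IntermediateField.adjoin k ({x', y} : Set K)).smul_mem (one_mem _)))
      · exact IntermediateField.subset_adjoin k _ (by simp)
    · apply le_antisymm
      · rw [Submodule.span_le]
        rintro _ ⟨i, rfl⟩
        fin_cases i
        · exact hφW 0
        · exact hx'W
        · exact hφW 2
      · rw [hW, Submodule.span_le]
        rintro _ ⟨i, rfl⟩
        have h1m : (1 : K) ∈ Submodule.span k (Set.range ![(1 : K), x', y]) :=
          Submodule.subset_span ⟨0, rfl⟩
        have hx'm : x' ∈ Submodule.span k (Set.range ![(1 : K), x', y]) :=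
          Submodule.subset_span ⟨1, rfl⟩
        fin_cases i
        · exact h1m
        · change x ∈ _
          rw [hx]
          exact Submodule.smul_mem _ _ (Submodule.sub_mem _ hx'm (Submodule.smul_mem _ _ h1m))
        · exact Submodule.subset_span ⟨2, rfl⟩
  · -- `y` is recovered from `x'` and `x`
    have hy : y = (c 2)⁻¹ • (x' - c 0 • (1 : K) - c 1 • x) := by
      rw [← hc]
      have : c 0 • (1 : K) + c 1 • x + c 2 • y - c 0 • (1 : K) - c 1 • x = c 2 • y := by ring
      rw [this, smul_smul, inv_mul_cancel₀ hc2, one_smul]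
    refine ⟨x', x, hx'W, hφW 1, hxt, hpd, ?_, ?_, ?_⟩
    · rw [hpd]; exact hφL 1
    · rw [eq_top_iff, ← hxy, IntermediateField.adjoin_le_iff]
      have hx'm : x' ∈ IntermediateField.adjoin k ({x', x} : Set K) :=
        IntermediateField.subset_adjoin k _ (by simp)
      have hxm : x ∈ IntermediateField.adjoin k ({x', x} : Set K) :=
        IntermediateField.subset_adjoin k _ (by simp)
      rintro z (rfl | rfl)
      · exact hxm
      · rw [hy]
        exact (IntermediateField.adjoin k ({x', x} : Set K)).smul_mem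
          (sub_mem (sub_mem hx'm ((IntermediateField.adjoin k ({x', x} : Set K)).smul_mem
            (one_mem _))) ((IntermediateField.adjoin k ({x', x} : Set K)).smul_mem hxm))
    · apply le_antisymm
      · rw [Submodule.span_le]
        rintro _ ⟨i, rfl⟩
        fin_cases i
        · exact hφW 0
        · exact hx'W
        · exact hφW 1
      · rw [hW, Submodule.span_le]
        rintro _ ⟨i, rfl⟩
        have h1m : (1 : K) ∈ Submodule.span k (Set.range ![(1 : K), x', x]) :=
          Submodule.subset_span ⟨0, rfl⟩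
        have hx'm : x' ∈ Submodule.span k (Set.range ![(1 : K), x', x]) :=
          Submodule.subset_span ⟨1, rfl⟩
        have hxm : x ∈ Submodule.span k (Set.range ![(1 : K), x', x]) :=
          Submodule.subset_span ⟨2, rfl⟩
        fin_cases i
        · exact h1m
        · exact hxm
        · change y ∈ _
          rw [hy]
          exact Submodule.smul_mem _ _ (Submodule.sub_mem _ (Submodule.sub_mem _ hx'm
            (Submodule.smul_mem _ _ h1m)) (Submodule.smul_mem _ _ hxm))

end Plane

end Groth.Agent.Lib.Helper4.FF
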