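import Mathlib
import Groth.Agent.Lib.Helper4.FF.Plane1

namespace Groth.Agent.Lib.Helper4.FF

open FunFld WithZero Polynomial

section Plane2

variable {k K : Type*} [Field k] [Field K] [Algebra k K]

/-- the map `(p_j)_{j<dn} ↦ Σ p_j(x) y^j` on polynomials with `deg p_j ≤ m - j` -/
noncomputable def planeMap (x y : K) (dn m : ℕ) :
    (∀ j : Fin dn, degreeLT k (m + 1 - (j : ℕ))) →ₗ[k] K where
  toFun := fun p => ∑ j : Fin dn, aeval x (p j : k[X]) * y ^ (j : ℕ)
  map_add' := by
    intro p q
    simp only [Pi.add_apply, Submodule.coe_add, map_add, add_mul, Finset.sum_add_distrib]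
  map_smul' := by
    intro c p
    simp only [Pi.smul_apply, Submodule.coe_smul, map_smul, smul_mul_assoc, Finset.smul_sum,
      RingHom.id_apply]

lemma planeMap_apply (x y : K) (dn m : ℕ) (p : ∀ j : Fin dn, degreeLT k (m + 1 - (j : ℕ))) :
    planeMap x y dn m p = ∑ j : Fin dn, aeval x (p j : k[X]) * y ^ (j : ℕ) := rfl

lemma aeval_mem_adjoin_simple (x : K) (p : k[X]) :
    aeval x p ∈ IntermediateField.adjoin k ({x} : Set K) := by
  have : aeval x p ∈ Algebra.adjoin k ({x} : Set K) := by
    rw [Algebra.adjoin_singleton_eq_range_aeval]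
    exact ⟨_, rfl⟩
  exact IntermediateField.algebra_adjoin_le_adjoin k _ this

/-- uniqueness of the representation `Σ p_j(x) y^j` -/
lemma eq_of_sum_aeval_mul_pow_eq {x y : K} {dn : ℕ}
    (hli : LinearIndependent (IntermediateField.adjoin k ({x} : Set K))
      fun i : Fin dn => y ^ (i : ℕ)) {a b : Fin dn → K}
    (ha : ∀ j, a j ∈ IntermediateField.adjoin k ({x} : Set K))
    (hb : ∀ j, b j ∈ IntermediateField.adjoin k ({x} : Set K))
    (h : ∑ j : Fin dn, a j * y ^ (j : ℕ) = ∑ j : Fin dn, b j * y ^ (j : ℕ)) (j : Fin dn) :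
    a j = b j := by
  set F := IntermediateField.adjoin k ({x} : Set K)
  have h2 : ∑ j : Fin dn, ((⟨a j, ha j⟩ : F) - ⟨b j, hb j⟩) • y ^ (j : ℕ) = 0 := by
    have : ∀ j : Fin dn, ((⟨a j, ha j⟩ : F) - ⟨b j, hb j⟩) • y ^ (j : ℕ) =
        a j * y ^ (j : ℕ) - b j * y ^ (j : ℕ) := by
      intro j
      rw [sub_smul]
      rfl
    simp only [this, Finset.sum_sub_distrib, h, sub_self]
  have h3 := Fintype.linearIndependent_iff.mp hli _ h2 j
  have h4 : a j - b j = 0 := congrArg Subtype.val h3
  exact sub_eq_zero.mp h4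

lemma planeMap_injective {x y : K} (hxt : Transcendental k x) {dn : ℕ}
    (hli : LinearIndependent (IntermediateField.adjoin k ({x} : Set K))
      fun i : Fin dn => y ^ (i : ℕ)) (m : ℕ) : Function.Injective (planeMap (k := k) x y dn m) := by
  rw [← LinearMap.ker_eq_bot, LinearMap.ker_eq_bot']
  intro p hp
  rw [planeMap_apply] at hp
  funext j
  have h4 : aeval x (p j : k[X]) = 0 := by
    have := eq_of_sum_aeval_mul_pow_eq hli (a := fun j => aeval x (p j : k[X])) (b := fun _ => 0)
      (fun j => aeval_mem_adjoin_simple x _) (fun _ => zero_mem _) (by simpa using hp) j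
    exact this
  have h5 : (p j : k[X]) = 0 := by
    by_contra hne
    exact hxt ⟨_, hne, h4⟩
  exact Subtype.ext h5

lemma range_planeMap_le (hK : IsFunctionField k K) {x y : K}
    (hy : y ∈ L (poleDiv x : Divisor k K)) {dn m : ℕ} (hdm : dn ≤ m + 1) :
    LinearMap.range (planeMap (k := k) x y dn m) ≤ L (m • (poleDiv x : Divisor k K)) := by
  rintro _ ⟨p, rfl⟩
  rw [planeMap_apply]
  refine Submodule.sum_mem _ fun j _ => ?_
  have hj : (j : ℕ) < dn := j.2
  have h1 : aeval x (p j : k[X]) ∈ L ((m - (j : ℕ)) • (poleDiv x : Divisor k K)) := by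
    apply aeval_mem_L_nsmul_poleDiv hK
    have := (p j).2
    rw [mem_degreeLT] at this
    by_cases h0 : (p j : k[X]) = 0
    · rw [h0, natDegree_zero]; omega
    · rw [degree_eq_natDegree h0] at this
      have : (p j : k[X]).natDegree < m + 1 - (j : ℕ) := by exact_mod_cast this
      omega
  have h2 : y ^ (j : ℕ) ∈ L ((j : ℕ) • (poleDiv x : Divisor k K)) := pow_mem_L_nsmul hy _
  have h3 := mul_mem_L_add h1 h2
  rw [← add_smul] at h3
  have : m - (j : ℕ) + (j : ℕ) = m := by omega
  rwa [this] at h3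

lemma finrank_planeMap_domain (dn m : ℕ) :
    Module.finrank k (∀ j : Fin dn, degreeLT k (m + 1 - (j : ℕ))) =
      ∑ j : Fin dn, (m + 1 - (j : ℕ)) := by
  rw [Module.finrank_pi_fintype]
  refine Finset.sum_congr rfl fun j _ => ?_
  rw [(degreeLTEquiv k _).finrank_eq, Module.finrank_fin_fun]

/-- the basic setup: `K = k(x)(y)` has the basis `1, y, …, y^{d-1}` over `k(x)`, `d = deg (x)_∞` -/
lemma plane_setup (hK : IsFunctionField k K) {x y : K} (hxt : Transcendental k x)
    (hgen : IntermediateField.adjoin k ({x, y} : Set K) = ⊤) :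
    ∃ dn : ℕ, (poleDiv x : Divisor k K).deg = dn ∧ 0 < dn ∧
      LinearIndependent (IntermediateField.adjoin k ({x} : Set K))
        fun i : Fin dn => y ^ (i : ℕ) := by
  set F := IntermediateField.adjoin k ({x} : Set K) with hF
  have hfd : FiniteDimensional F K := finiteDimensional_adjoin hK hxt
  have hyint : IsIntegral F y := Algebra.IsIntegral.isIntegral y
  have htop : IntermediateField.adjoin F ({y} : Set K) = ⊤ := by
    have h1 := IntermediateField.adjoin_simple_adjoin_simple (F := k) (α := x) y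
    rw [hgen] at h1
    rw [eq_top_iff]
    intro z _
    have : z ∈ (IntermediateField.adjoin F ({y} : Set K)).restrictScalars k := by
      rw [h1]; trivial
    exact this
  have hdn' : (minpoly F y).natDegree = Module.finrank F K := by
    rw [← IntermediateField.adjoin.finrank hyint, htop, IntermediateField.finrank_top']
  refine ⟨(minpoly F y).natDegree, ?_, ?_, linearIndependent_pow y⟩
  · rw [deg_poleDiv hK hxt, hdn']
  · rw [hdn']; exact Module.finrank_pos

/-- the dimension count: `ℓ(m (x)_∞)` against the dimension of the range of `planeMap` -/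
lemma two_mul_finrank_range_planeMap {x y : K} (hxt : Transcendental k x) {dn : ℕ}
    (hli : LinearIndependent (IntermediateField.adjoin k ({x} : Set K))
      fun i : Fin dn => y ^ (i : ℕ)) {m : ℕ} (hdm : dn ≤ m + 1) :
    2 * (Module.finrank k (LinearMap.range (planeMap (k := k) x y dn m)) : ℤ) =
      2 * (dn : ℤ) * ((m : ℤ) + 1) - (dn : ℤ) * ((dn : ℤ) - 1) := by
  rw [LinearMap.finrank_range_of_inj (planeMap_injective hxt hli m), finrank_planeMap_domain]
  exact two_mul_sum_fin dn m hdm

/-- if the genus attains the plane curve bound then `L(m (x)_∞)` consists of polynomials -/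
lemma range_planeMap_eq_of_genus_eq (hK : IsFunctionField k K) {x y : K}
    (hxt : Transcendental k x) (hy : y ∈ L (poleDiv x : Divisor k K)) {dn : ℕ}
    (hdeg : (poleDiv x : Divisor k K).deg = dn)
    (hli : LinearIndependent (IntermediateField.adjoin k ({x} : Set K))
      fun i : Fin dn => y ^ (i : ℕ))
    (hg : 2 * (genus k K : ℤ) = ((dn : ℤ) - 1) * ((dn : ℤ) - 2)) {m : ℕ} (hdm : dn ≤ m + 1)
    (hm : 2 * (genus k K : ℤ) - 1 ≤ (m : ℤ) * dn) :
    LinearMap.range (planeMap (k := k) x y dn m) = L (m • (poleDiv x : Divisor k K)) := by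
  have := L_finite hK (m • (poleDiv x : Divisor k K))
  refine Submodule.eq_of_le_of_finrank_le (range_planeMap_le hK hy hdm) ?_
  have h1 := two_mul_finrank_range_planeMap (k := k) hxt hli hdm
  have h2 := ell_eq_of_deg_ge hK (D := m • (poleDiv x : Divisor k K)) (by
    rw [Divisor.deg_nsmul, hdeg]; exact hm)
  rw [Divisor.deg_nsmul, hdeg] at h2
  have h3 : (Module.finrank k (L (m • (poleDiv x : Divisor k K))) : ℤ) =
      (ell (m • (poleDiv x : Divisor k K)) : ℤ) := rfl
  have : (Module.finrank k (L (m • (poleDiv x : Divisor k K))) : ℤ) ≤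
      (Module.finrank k (LinearMap.range (planeMap (k := k) x y dn m)) : ℤ) := by
    rw [h3]; nlinarith
  exact_mod_cast this

/-- if `L(m (x)_∞)` consists of polynomials (for one suitable `m`) the genus attains the bound -/
lemma two_mul_genus_ge_of_le_range (hK : IsFunctionField k K) {x y : K}
    (hxt : Transcendental k x) {dn : ℕ}
    (hdeg : (poleDiv x : Divisor k K).deg = dn)
    (hli : LinearIndependent (IntermediateField.adjoin k ({x} : Set K))
      fun i : Fin dn => y ^ (i : ℕ)) {m : ℕ} (hdm : dn ≤ m + 1)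
    (hm : 2 * (genus k K : ℤ) - 1 ≤ (m : ℤ) * dn)
    (h : L (m • (poleDiv x : Divisor k K)) ≤ LinearMap.range (planeMap (k := k) x y dn m)) :
    ((dn : ℤ) - 1) * ((dn : ℤ) - 2) ≤ 2 * (genus k K : ℤ) := by
  have hfin : Module.Finite k (LinearMap.range (planeMap (k := k) x y dn m)) :=
    Module.Finite.range _
  have h1 := two_mul_finrank_range_planeMap (k := k) hxt hli hdm
  have h2 := ell_eq_of_deg_ge hK (D := m • (poleDiv x : Divisor k K)) (by
    rw [Divisor.deg_nsmul, hdeg]; exact hm)
  rw [Divisor.deg_nsmul, hdeg] at h2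
  have h3 : (ell (m • (poleDiv x : Divisor k K)) : ℤ) ≤
      (Module.finrank k (LinearMap.range (planeMap (k := k) x y dn m)) : ℤ) := by
    have := Submodule.finrank_mono h
    exact_mod_cast this
  nlinarith

/-- the value of a polynomial at a pole of `x` -/
lemma val_aeval_of_pole (Q : Place k K) {x : K} (hx : 1 < Q.1 x) {b : k[X]} (hb : b ≠ 0) :
    Q.1 (aeval x b) = Q.1 x ^ b.natDegree := by
  have hx0 : (0 : ℤᵐ⁰) < Q.1 x := lt_trans zero_lt_one hx
  rw [aeval_eq_sum_range, Finset.sum_range_succ, add_comm]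
  have hlead : Q.1 (b.coeff b.natDegree • x ^ b.natDegree) = Q.1 x ^ b.natDegree := by
    rw [Algebra.smul_def, map_mul, map_pow, Place.val_k Q (by
      rwa [Ne, Polynomial.coeff_natDegree, Polynomial.leadingCoeff_eq_zero]), one_mul]
  rw [Valuation.map_add_eq_of_lt_left, hlead]
  rw [hlead]
  by_cases hn : b.natDegree = 0
  · rw [hn, Finset.range_zero, Finset.sum_empty, map_zero, pow_zero]
    exact zero_lt_one
  apply Valuation.map_sum_lt _ (pow_ne_zero _ hx0.ne')
  intro i hi
  rw [Algebra.smul_def, map_mul, map_pow]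
  calc Q.1 (algebraMap k K (b.coeff i)) * Q.1 x ^ i ≤ 1 * Q.1 x ^ i :=
        mul_le_mul_left (Place.val_k_le Q _) _
    _ = Q.1 x ^ i := one_mul _
    _ < Q.1 x ^ b.natDegree := pow_lt_pow_right₀ hx (Finset.mem_range.mp hi)

end Plane2

end Groth.Agent.Lib.Helper4.FF
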