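import Mathlib
import Groth.Agent.Lib.Helper4.FF.Plane2

namespace Groth.Agent.Lib.Helper4.FF

open FunFld WithZero Polynomial

section Chart

open scoped IntermediateField.algebraAdjoinAdjoin

variable {k K : Type*} [Field k] [Field K] [Algebra k K]

/-- `k[u]` is integrally closed for transcendental `u` -/
lemma isIntegrallyClosed_adjoin_singleton {u : K} (hut : Transcendental k u) :
    IsIntegrallyClosed (Algebra.adjoin k ({u} : Set K)) := by
  have hinj : Function.Injective (aeval (R := k) u) :=
    transcendental_iff_injective.mp hut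
  let e1 : k[X] ≃ₐ[k] (aeval (R := k) u).range := AlgEquiv.ofInjective _ hinj
  let e2 : (aeval (R := k) u).range ≃ₐ[k] Algebra.adjoin k ({u} : Set K) :=
    Subalgebra.equivOfEq _ _ (Algebra.adjoin_singleton_eq_range_aeval k u).symm
  exact IsIntegrallyClosed.of_equiv (e1.trans e2).toRingEquiv

lemma mem_adjoin_singleton_iff {u a : K} :
    a ∈ Algebra.adjoin k ({u} : Set K) ↔ ∃ p : k[X], aeval u p = a := by
  rw [Algebra.adjoin_singleton_eq_range_aeval]
  rfl

/-- an element whose poles are poles of `u` is integral over `k[u]` -/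
lemma isIntegral_of_poles (hK : IsFunctionField k K) {u v : K} (hut : Transcendental k u)
    (hv : ∀ Q : Place k K, 1 < Q.1 v → 1 < Q.1 u) :
    IsIntegral (Algebra.adjoin k ({u} : Set K)) v := by
  classical
  set R := Algebra.adjoin k ({u} : Set K) with hR
  have hu0 : u ≠ 0 := by
    rintro rfl
    exact hut isAlgebraic_zero
  set E : Divisor k K := poleDiv u with hE
  have hE0 : 0 ≤ E := poleDiv_nonneg u
  set m₀ := 2 * genus k K + 1 with hm₀
  have hfin := L_finite hK (m₀ • E)
  set N : Submodule R K := Submodule.span R (L (m₀ • E) : Set K) with hN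
  have huR : u ∈ R := Algebra.self_mem_adjoin_singleton k u
  have hEpos : ∀ Q : Place k K, 1 < Q.1 u → 0 < E Q := by
    intro Q hQ
    rw [hE, poleDiv_apply hK]
    have := (Place.ord_neg_iff Q hu0).mpr hQ
    exact lt_max_of_lt_left (by omega)
  have hRpoles : ∀ r ∈ R, r ∈ polesIn E hE0 := by
    intro r hr
    obtain ⟨p, rfl⟩ := mem_adjoin_singleton_iff.mp hr
    exact ⟨p.natDegree, aeval_mem_L_nsmul_poleDiv hK u _ p le_rfl⟩
  have hvpoles : v ∈ polesIn E hE0 :=
    mem_polesIn_of_poles hK hE0 (fun Q hQ => hEpos Q (hv Q hQ))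
  have hNpoles : ∀ n ∈ N, n ∈ polesIn E hE0 := by
    intro n hn
    induction hn using Submodule.span_induction with
    | mem x hx => exact ⟨m₀, hx⟩
    | zero => exact (polesIn E hE0).zero_mem
    | add a b _ _ ha hb => exact (polesIn E hE0).add_mem ha hb
    | smul r a _ ha => exact (polesIn E hE0).mul_mem (hRpoles r r.2) ha
  have h1N : (1 : K) ∈ N := by
    apply Submodule.subset_span
    exact L_mono (smul_nonneg (Nat.zero_le _) hE0) one_mem_L_zero
  refine isIntegral_of_smul_mem_submodule N ?_ ?_ v ?_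
  · intro h
    rw [h] at h1N
    exact one_ne_zero ((Submodule.mem_bot R).mp h1N)
  · obtain ⟨s, hs⟩ : (L (m₀ • E)).FG := Module.Finite.iff_fg.mp hfin
    refine ⟨s, ?_⟩
    apply le_antisymm
    · apply Submodule.span_mono
      rw [← hs]
      exact Submodule.subset_span
    · rw [hN, Submodule.span_le]
      intro y hy
      rw [SetLike.mem_coe, ← hs] at hy
      have : Submodule.span k (s : Set K) ≤ (Submodule.span R (s : Set K)).restrictScalars k :=
        Submodule.span_le_restrictScalars k R _
      exact this hy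
  · intro n hn
    obtain ⟨m, hm⟩ := (polesIn E hE0).mul_mem hvpoles (hNpoles n hn)
    exact mem_span_of_poleDiv hK hut R huR m hm

/-- the integral equation of `v` over `k[u]` of the degree of the minimal polynomial over `k(u)` -/
lemma exists_pow_eq_sum (hK : IsFunctionField k K) {u v : K} (hut : Transcendental k u)
    (hv : ∀ Q : Place k K, 1 < Q.1 v → 1 < Q.1 u) :
    ∃ a : Fin (minpoly (IntermediateField.adjoin k ({u} : Set K)) v).natDegree → k[X],
      v ^ (minpoly (IntermediateField.adjoin k ({u} : Set K)) v).natDegree =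
        ∑ j, aeval u (a j) * v ^ (j : ℕ) := by
  set R := Algebra.adjoin k ({u} : Set K) with hR
  set F := IntermediateField.adjoin k ({u} : Set K) with hF
  have hic : IsIntegrallyClosed R := isIntegrallyClosed_adjoin_singleton hut
  have hint : IsIntegral R v := isIntegral_of_poles hK hut hv
  have hp : minpoly F v = (minpoly R v).map (algebraMap R F) :=
    minpoly.isIntegrallyClosed_eq_field_fractions' F hint
  have hmonic : (minpoly R v).Monic := minpoly.monic hint
  have hdeg : (minpoly F v).natDegree = (minpoly R v).natDegree := by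
    rw [hp, hmonic.natDegree_map]
  rw [hdeg]
  set p := minpoly R v with hpdef
  have h0 : aeval v p = 0 := minpoly.aeval R v
  have hcoeff : ∀ i : ℕ, ∃ q : k[X], aeval u q = ((p.coeff i : R) : K) :=
    fun i => mem_adjoin_singleton_iff.mp (p.coeff i).2
  choose q hq using hcoeff
  refine ⟨fun j => -q j, ?_⟩
  rw [hmonic.as_sum, map_add, map_pow, aeval_X, map_sum] at h0
  have h1 : ∑ i ∈ Finset.range p.natDegree, aeval v (C (p.coeff i) * X ^ i) =
      ∑ j : Fin p.natDegree, aeval u (q j) * v ^ (j : ℕ) := by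
    rw [← Fin.sum_univ_eq_sum_range (fun i => aeval v (C (p.coeff i) * X ^ i))]
    refine Finset.sum_congr rfl fun j _ => ?_
    rw [map_mul, aeval_C, map_pow, aeval_X, hq]
    rfl
  rw [h1] at h0
  rw [eq_neg_of_add_eq_zero_left h0, ← Finset.sum_neg_distrib]
  refine Finset.sum_congr rfl fun j _ => ?_
  rw [map_neg, neg_mul]

/-- every element of `k[u, v]` is a `k[u]`-combination of `1, v, …, v^{d-1}` -/
lemma exists_repr_of_mem_adjoin_pair {u v : K} {d : ℕ} (hd : 0 < d)
    (hpow : ∃ a : Fin d → k[X], v ^ d = ∑ j, aeval u (a j) * v ^ (j : ℕ)) {z : K}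
    (hz : z ∈ Algebra.adjoin k ({u, v} : Set K)) :
    ∃ b : Fin d → k[X], z = ∑ j, aeval u (b j) * v ^ (j : ℕ) := by
  classical
  -- the set of representable elements
  let M : Submodule k K :=
    { carrier := {z | ∃ b : Fin d → k[X], z = ∑ j, aeval u (b j) * v ^ (j : ℕ)}
      add_mem' := by
        rintro _ _ ⟨b, rfl⟩ ⟨c, rfl⟩
        exact ⟨fun j => b j + c j, by simp only [map_add, add_mul, Finset.sum_add_distrib]⟩
      zero_mem' := ⟨fun _ => 0, by simp⟩
      smul_mem' := by
        rintro c _ ⟨b, rfl⟩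
        exact ⟨fun j => c • b j, by simp only [map_smul, smul_mul_assoc, Finset.smul_sum]⟩ }
  have hM : ∀ z, z ∈ M ↔ ∃ b : Fin d → k[X], z = ∑ j, aeval u (b j) * v ^ (j : ℕ) :=
    fun _ => Iff.rfl
  -- stability under multiplication by polynomials in `u`
  have hMu : ∀ (q : k[X]) (z : K), z ∈ M → aeval u q * z ∈ M := by
    rintro q _ ⟨b, rfl⟩
    refine ⟨fun j => q * b j, ?_⟩
    rw [Finset.mul_sum]
    refine Finset.sum_congr rfl fun j _ => ?_
    rw [map_mul, mul_assoc]
  have hpowmem : ∀ j : Fin d, v ^ (j : ℕ) ∈ M := by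
    intro j
    refine ⟨fun i => if i = j then 1 else 0, ?_⟩
    rw [Finset.sum_eq_single j]
    · simp
    · intro i _ hij; simp [hij]
    · intro h; exact absurd (Finset.mem_univ j) h
  have hvd : v ^ d ∈ M := hpow
  -- stability under multiplication by `v`
  have hMv : ∀ z : K, z ∈ M → v * z ∈ M := by
    rintro _ ⟨b, rfl⟩
    rw [Finset.mul_sum]
    refine M.sum_mem fun j _ => ?_
    have : v * (aeval u (b j) * v ^ (j : ℕ)) = aeval u (b j) * v ^ ((j : ℕ) + 1) := by ring
    rw [this]
    apply hMu
    by_cases hj : (j : ℕ) + 1 < d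
    · exact hpowmem ⟨(j : ℕ) + 1, hj⟩
    · have : (j : ℕ) + 1 = d := by have := j.2; omega
      rw [this]; exact hvd
  have h1M : (1 : K) ∈ M := by
    have := hpowmem ⟨0, hd⟩
    simpa using this
  have hMvpow : ∀ (i : ℕ) (z : K), z ∈ M → v ^ i * z ∈ M := by
    intro i
    induction i with
    | zero => intro z hz; simpa using hz
    | succ i ih =>
      intro z hz
      rw [pow_succ', mul_assoc]
      exact hMv _ (ih z hz)
  have hMmul : ∀ a b : K, a ∈ M → b ∈ M → a * b ∈ M := by
    rintro _ b ⟨c, rfl⟩ hb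
    rw [Finset.sum_mul]
    refine M.sum_mem fun j _ => ?_
    rw [mul_assoc]
    exact hMu _ _ (hMvpow _ _ hb)
  rw [← hM]
  induction hz using Algebra.adjoin_induction with
  | mem x hx =>
    rcases hx with rfl | rfl
    · have := hMu X 1 h1M
      simpa using this
    · have := hMv 1 h1M
      simpa using this
  | algebraMap c =>
    rw [Algebra.algebraMap_eq_smul_one]
    exact M.smul_mem c h1M
  | add x y _ _ hx hy => exact M.add_mem hx hy
  | mul x y _ _ hx hy => exact hMmul x y hx hy

/-- **local-global principle**: an element lying in the localization of `A` at every place at which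
`A` is regular lies in `A` -/
theorem mem_of_forall_locAt (hK : IsFunctionField k K) (A : Subalgebra k K)
    (hfrac : ∀ b : K, ∃ u ∈ A, ∃ w ∈ A, w ≠ 0 ∧ b * w = u) {z : K}
    (H : ∀ P : Place k K, (∀ a ∈ A, P.1 a ≤ 1) → z ∈ locAt P A) : z ∈ A := by
  by_contra hz
  let I : Ideal A.toSubring :=
    { carrier := {w | (w : K) * z ∈ A}
      add_mem' := by
        intro a b ha hb
        change ((a : K) + (b : K)) * z ∈ A
        rw [add_mul]
        exact A.add_mem ha hb
      zero_mem' := by
        change ((0 : K)) * z ∈ A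
        rw [zero_mul]
        exact A.zero_mem
      smul_mem' := by
        intro c a ha
        change ((c : K) * (a : K)) * z ∈ A
        rw [mul_assoc]
        exact A.mul_mem c.2 ha }
  have hI : I ≠ ⊤ := by
    intro h
    have : (1 : A.toSubring) ∈ I := h ▸ Submodule.mem_top
    apply hz
    have h1 : ((1 : A.toSubring) : K) * z ∈ A := this
    simpa using h1
  obtain ⟨B, hAB, hIB⟩ := Ideal.image_subset_nonunits_valuationSubring I hI
  obtain ⟨u, hu, w, hw, hw0, e⟩ := hfrac z
  have hwI : (⟨w, hw⟩ : A.toSubring) ∈ I := by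
    change w * z ∈ A
    rw [mul_comm, e]
    exact hu
  have hwB : w ∈ B.nonunits := hIB ⟨⟨w, hw⟩, hwI, rfl⟩
  have hB : B ≠ ⊤ := by
    intro h
    rcases (ValuationSubring.mem_nonunits_iff_or B).mp hwB with h0 | h0
    · exact hw0 h0
    · apply h0
      rw [h]
      trivial
  have hk : ∀ c : k, algebraMap k K c ∈ B := fun c => hAB (A.algebraMap_mem c)
  obtain ⟨P, hP⟩ := exists_place_of_valuationSubring hK B hk hB
  have hAP : ∀ a ∈ A, P.1 a ≤ 1 := by
    intro a ha
    rw [← Place.mem_O_iff, hP]
    exact hAB ha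
  obtain ⟨u', hu', w', hw', hw1, e'⟩ := H P hAP
  have hw'I : (⟨w', hw'⟩ : A.toSubring) ∈ I := by
    change w' * z ∈ A
    rw [mul_comm, e']
    exact hu'
  have hw'B : w' ∈ B.nonunits := hIB ⟨⟨w', hw'⟩, hw'I, rfl⟩
  rcases (ValuationSubring.mem_nonunits_iff_or B).mp hw'B with h0 | h0
  · rw [h0, map_zero] at hw1
    exact zero_ne_one hw1
  · apply h0
    rw [← hP, Place.mem_O_iff, map_inv₀, hw1, inv_one]

lemma natDegree_minpoly_eq_deg_poleDiv (hK : IsFunctionField k K) {u v : K}
    (hut : Transcendental k u) (hgen : IntermediateField.adjoin k ({u, v} : Set K) = ⊤) :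
    ((minpoly (IntermediateField.adjoin k ({u} : Set K)) v).natDegree : ℤ) =
      (poleDiv u : Divisor k K).deg := by
  set F := IntermediateField.adjoin k ({u} : Set K) with hF
  have hfd : FiniteDimensional F K := finiteDimensional_adjoin hK hut
  have hyint : IsIntegral F v := Algebra.IsIntegral.isIntegral v
  have htop : IntermediateField.adjoin F ({v} : Set K) = ⊤ := by
    have h1 := IntermediateField.adjoin_simple_adjoin_simple (F := k) (α := u) v
    rw [hgen] at h1
    rw [eq_top_iff]
    intro z _
    have : z ∈ (IntermediateField.adjoin F ({v} : Set K)).restrictScalars k := by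
      rw [h1]; trivial
    exact this
  rw [deg_poleDiv hK hut, ← IntermediateField.adjoin.finrank hyint, htop,
    IntermediateField.finrank_top']

/-- **chart lemma**: if `k[u, v]` is locally the full valuation ring at every place where `u` is
regular, then every function with poles only at the poles of `u` is a `k[u]`-combination of
`1, v, …, v^{d-1}`, `d = deg (u)_∞`. -/
theorem chart_repr (hK : IsFunctionField k K) {u v : K} (hut : Transcendental k u)
    (hv : ∀ Q : Place k K, 1 < Q.1 v → 1 < Q.1 u)
    (hgen : IntermediateField.adjoin k ({u, v} : Set K) = ⊤)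
    (H : ∀ P : Place k K, P.1 u ≤ 1 → ∀ z : K, P.1 z ≤ 1 →
      z ∈ locAt P (Algebra.adjoin k ({u, v} : Set K)))
    {dn : ℕ} (hdeg : (poleDiv u : Divisor k K).deg = dn) {z : K}
    (hz : ∀ Q : Place k K, 1 < Q.1 z → 1 < Q.1 u) :
    ∃ b : Fin dn → k[X], z = ∑ j, aeval u (b j) * v ^ (j : ℕ) := by
  set A := Algebra.adjoin k ({u, v} : Set K) with hA
  have huA : u ∈ A := Algebra.subset_adjoin (by simp)
  have hfrac : ∀ b : K, ∃ r ∈ A, ∃ w ∈ A, w ≠ 0 ∧ b * w = r := by
    intro b
    have hb : b ∈ IntermediateField.adjoin k ({u, v} : Set K) := by rw [hgen]; trivial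
    obtain ⟨r, hr, s, hs, e⟩ := IntermediateField.mem_adjoin_iff_div.mp hb
    by_cases hs0 : s = 0
    · refine ⟨0, A.zero_mem, 1, A.one_mem, one_ne_zero, ?_⟩
      rw [e, hs0, div_zero, zero_mul]
    · exact ⟨r, hr, s, hs, hs0, by rw [e]; field_simp⟩
  have hzA : z ∈ A := by
    apply mem_of_forall_locAt hK A hfrac
    intro P hP
    have hPu : P.1 u ≤ 1 := hP u huA
    have hPz : P.1 z ≤ 1 := by
      by_contra h
      push Not at h
      exact absurd (hz P h) (not_lt.mpr hPu)
    exact H P hPu z hPz
  have h1 := natDegree_minpoly_eq_deg_poleDiv hK hut hgen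
  rw [hdeg] at h1
  have h2 : (minpoly (IntermediateField.adjoin k ({u} : Set K)) v).natDegree = dn := by
    exact_mod_cast h1
  subst h2
  have hd : 0 < (minpoly (IntermediateField.adjoin k ({u} : Set K)) v).natDegree := by
    have hfd : FiniteDimensional (IntermediateField.adjoin k ({u} : Set K)) K :=
      finiteDimensional_adjoin hK hut
    exact minpoly.natDegree_pos (Algebra.IsIntegral.isIntegral v)
  exact exists_repr_of_mem_adjoin_pair hd (exists_pow_eq_sum hK hut hv) hzA

end Chart

end Groth.Agent.Lib.Helper4.FF
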