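import Mathlib
import Groth.Agent.Lib.Helper4.FF.Plane3

namespace Groth.Agent.Lib.Helper4.FF

open FunFld WithZero Polynomial

section Plane4

variable {k K : Type*} [Field k] [Field K] [Algebra k K]

lemma locAt_mono (P : Place k K) {A B : Subalgebra k K} (h : A ≤ B) : locAt P A ≤ locAt P B := by
  rintro z ⟨u, hu, w, hw, hw1, e⟩
  exact ⟨u, h hu, w, h hw, hw1, e⟩

/-- dividing a polynomial of degree `≤ n` in `x'` by the `n`-th power of an entry -/
lemma aeval_div_pow_mem_ratioAlg {ι : Type*} {φ : ι → K} {j : ι} {x' : K}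
    (hx' : x' / φ j ∈ (ratioAlg φ j : Subalgebra k K))
    (h1 : 1 / φ j ∈ (ratioAlg φ j : Subalgebra k K)) (q : k[X]) (n : ℕ) (hq : q.natDegree ≤ n) :
    aeval x' q / φ j ^ n ∈ (ratioAlg φ j : Subalgebra k K) := by
  rw [aeval_eq_sum_range, Finset.sum_div]
  refine Subalgebra.sum_mem _ fun i hi => ?_
  have hin : i ≤ n := by
    have := Finset.mem_range.mp hi
    omega
  have e : q.coeff i • x' ^ i / φ j ^ n = q.coeff i • ((x' / φ j) ^ i * (1 / φ j) ^ (n - i)) := by
    rw [smul_div_assoc]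
    congr 1
    rw [div_pow, div_pow, one_pow, div_mul_div_comm, mul_one, ← pow_add]
    congr 2
    omega
  rw [e]
  exact Subalgebra.smul_mem _ (Subalgebra.mul_mem _ (Subalgebra.pow_mem _ hx' _)
    (Subalgebra.pow_mem _ h1 _)) _

/-- dividing an element of the range of `planeMap` by the `m`-th power of an entry -/
lemma planeMap_div_pow_mem_ratioAlg {ι : Type*} {φ : ι → K} {j : ι} {x' y' : K}
    (hx' : x' / φ j ∈ (ratioAlg φ j : Subalgebra k K))
    (hy' : y' / φ j ∈ (ratioAlg φ j : Subalgebra k K))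
    (h1 : 1 / φ j ∈ (ratioAlg φ j : Subalgebra k K)) {dn m : ℕ} (hdm : dn ≤ m + 1)
    (p : ∀ j : Fin dn, degreeLT k (m + 1 - (j : ℕ))) :
    planeMap x' y' dn m p / φ j ^ m ∈ (ratioAlg φ j : Subalgebra k K) := by
  rw [planeMap_apply, Finset.sum_div]
  refine Subalgebra.sum_mem _ fun i _ => ?_
  have hi : (i : ℕ) < dn := i.2
  have hdeg : (p i : k[X]).natDegree ≤ m - (i : ℕ) := by
    have := (p i).2
    rw [mem_degreeLT] at this
    by_cases h0 : (p i : k[X]) = 0
    · rw [h0, natDegree_zero]; omega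
    · rw [degree_eq_natDegree h0] at this
      have : (p i : k[X]).natDegree < m + 1 - (i : ℕ) := by exact_mod_cast this
      omega
  have e : aeval x' (p i : k[X]) * y' ^ (i : ℕ) / φ j ^ m =
      (aeval x' (p i : k[X]) / φ j ^ (m - (i : ℕ))) * (y' / φ j) ^ (i : ℕ) := by
    have hm : φ j ^ m = φ j ^ (m - (i : ℕ)) * φ j ^ (i : ℕ) := by
      rw [← pow_add]; congr 1; omega
    rw [hm, div_pow, div_mul_div_comm]
  rw [e]
  exact Subalgebra.mul_mem _ (aeval_div_pow_mem_ratioAlg hx' h1 _ _ hdeg)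
    (Subalgebra.pow_mem _ hy' _)

/-- a plane model whose genus attains the bound `(d-1)(d-2)/2` is nonsingular -/
theorem isNonsingularAt_of_genus_eq [IsAlgClosed k] (hK : IsFunctionField k K) (x y : K)
    (hxy : IntermediateField.adjoin k ({x, y} : Set K) = ⊤)
    (hg : 2 * (genus k K : ℤ) = ((mapDiv k ![(1 : K), x, y]).deg - 1) *
      ((mapDiv k ![(1 : K), x, y]).deg - 2)) (P : Place k K) :
    IsNonsingularAt ![(1 : K), x, y] P := by
  classical
  obtain ⟨x', y', hx'W, hy'W, hxt, hpd, hy', hgen, -⟩ := exists_generic_coords hK x y hxy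
  obtain ⟨dn, hdeg, hdpos, hli⟩ := plane_setup hK hxt hgen
  set φ : Fin 3 → K := ![(1 : K), x, y] with hφ
  set D := mapDiv k φ with hD
  set E : Divisor k K := poleDiv x' with hE
  rw [← hpd, hdeg] at hg
  have h1φ : ∃ i, φ i = 1 := ⟨0, rfl⟩
  obtain ⟨j, hleast⟩ := exists_least φ P
  have hexp : exp (D P) = P.1 (φ j) := exp_mapDiv_of_one hK φ h1φ P hleast
  have hj1 : 1 ≤ P.1 (φ j) := by
    have := hleast 0
    have h0 : φ 0 = 1 := rfl
    rwa [h0, map_one] at this
  have hj0 : φ j ≠ 0 := by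
    intro h0
    rw [h0, map_zero] at hj1
    exact absurd hj1 (by simp)
  have hφW : ∀ i, φ i ∈ Submodule.span k (Set.range φ) := fun i => Submodule.subset_span ⟨i, rfl⟩
  have hx'A : x' / φ j ∈ (ratioAlg φ j : Subalgebra k K) :=
    span_ratio_le_ratioAlg φ j (div_mem_span_ratio j hx'W)
  have hy'A : y' / φ j ∈ (ratioAlg φ j : Subalgebra k K) :=
    span_ratio_le_ratioAlg φ j (div_mem_span_ratio j hy'W)
  have h1A : 1 / φ j ∈ (ratioAlg φ j : Subalgebra k K) :=
    span_ratio_le_ratioAlg φ j (div_mem_span_ratio j (hφW 0))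
  intro z hz
  refine ⟨j, hj0, hleast, ?_⟩
  set G : Divisor k K := poleDiv z with hG
  have hG0 : 0 ≤ G := poleDiv_nonneg z
  have hGP : G P = 0 := by
    rw [hG, poleDiv_apply hK]
    by_cases hz0 : z = 0
    · subst hz0; simp [Place.ord]
    · have := (Place.ord_nonneg_iff P hz0).mpr hz
      rw [max_eq_right]; omega
  have hGdeg : 0 ≤ G.deg := Divisor.deg_nonneg hG0
  set m : ℕ := G.deg.toNat + dn + 2 * genus k K + 1 with hm
  have hdn1 : (1 : ℤ) ≤ dn := by exact_mod_cast hdpos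
  have hg0 : (0 : ℤ) ≤ genus k K := Int.natCast_nonneg _
  have hGn : (G.deg.toNat : ℤ) = G.deg := Int.toNat_of_nonneg hGdeg
  have hmdeg : G.deg + 2 * (genus k K : ℤ) + 1 ≤ (m • E).deg := by
    rw [Divisor.deg_nsmul, hdeg, hm]
    push_cast
    nlinarith
  have hP1 := Place.deg_eq_one hK P
  have hlt : ell (m • E - G - Finsupp.single P 1) < ell (m • E - G) := by
    have a := ell_eq_of_deg_ge hK (D := m • E - G) (by rw [Divisor.deg_sub]; omega)
    have b := ell_eq_of_deg_ge hK (D := m • E - G - Finsupp.single P 1) (by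
      rw [Divisor.deg_sub, Divisor.deg_sub, Divisor.deg_single, hP1]; push_cast; omega)
    rw [Divisor.deg_sub, Divisor.deg_sub, Divisor.deg_single, hP1] at b
    rw [Divisor.deg_sub] at a
    push_cast at b
    omega
  obtain ⟨f, hfL, hf'⟩ := exists_mem_not_mem_of_ell_lt hK hlt
  have hEP : E P = D P := by rw [hpd]
  have hf1 : P.1 f = P.1 (φ j) ^ m := by
    rw [val_eq_of_mem_of_notMem hfL hf', Finsupp.sub_apply, Finsupp.smul_apply, hGP, sub_zero,
      hEP, exp_nsmul, hexp]
  have hfE : f ∈ L (m • E) := L_mono (sub_le_self _ hG0) hfL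
  have hzf : z * f ∈ L (m • E) := by
    have := mul_mem_L_add (mem_L_poleDiv hK z) hfL
    rwa [← hG, add_sub_cancel] at this
  have hdm : dn ≤ m + 1 := by omega
  have hmd : 2 * (genus k K : ℤ) - 1 ≤ (m : ℤ) * dn := by
    rw [hm]; push_cast; nlinarith
  have hrange := range_planeMap_eq_of_genus_eq hK hxt hy' hdeg hli hg hdm hmd
  rw [← hrange] at hfE hzf
  obtain ⟨p, hp⟩ := hfE
  obtain ⟨q, hq⟩ := hzf
  refine ⟨z * f / φ j ^ m, ?_, f / φ j ^ m, ?_, ?_, ?_⟩
  · rw [← hq]
    exact planeMap_div_pow_mem_ratioAlg hx'A hy'A h1A hdm q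
  · rw [← hp]
    exact planeMap_div_pow_mem_ratioAlg hx'A hy'A h1A hdm p
  · rw [map_div₀, map_pow, hf1]
    exact div_self (pow_ne_zero _ (by
      intro h
      rw [h] at hj1
      exact absurd hj1 (by simp)))
  · rw [mul_div_assoc]

/-- a nonsingular plane model has genus `(d-1)(d-2)/2` -/
theorem genus_eq_of_nonsingular [IsAlgClosed k] (hK : IsFunctionField k K) (x y : K)
    (hxy : IntermediateField.adjoin k ({x, y} : Set K) = ⊤)
    (hns : ∀ P : Place k K, IsNonsingularAt ![(1 : K), x, y] P) :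
    2 * (genus k K : ℤ) = ((mapDiv k ![(1 : K), x, y]).deg - 1) *
      ((mapDiv k ![(1 : K), x, y]).deg - 2) := by
  classical
  obtain ⟨x', y', hx'W, hy'W, hxt, hpd, hy', hgen, hspan⟩ := exists_generic_coords hK x y hxy
  obtain ⟨dn, hdeg, hdpos, hli⟩ := plane_setup hK hxt hgen
  have hle := two_mul_genus_le_of_mem_L_poleDiv hK hxt hy' hgen
  set φ : Fin 3 → K := ![(1 : K), x, y] with hφ
  set D := mapDiv k φ with hD
  set E : Divisor k K := poleDiv x' with hE
  rw [← hpd]
  apply le_antisymm hle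
  rw [hdeg]
  have hdn1 : (1 : ℤ) ≤ dn := by exact_mod_cast hdpos
  have hg0 : (0 : ℤ) ≤ genus k K := Int.natCast_nonneg _
  set m : ℕ := dn + 2 * genus k K with hm
  have hdm : dn ≤ m + 1 := by omega
  have hjm : ∀ j : Fin dn, (j : ℕ) ≤ m := fun j => by have := j.2; omega
  have hmd : 2 * (genus k K : ℤ) - 1 ≤ (m : ℤ) * dn := by
    rw [hm]; push_cast; nlinarith
  apply two_mul_genus_ge_of_le_range hK hxt hdeg hli hdm hmd
  intro z hz
  -- facts about `x'`
  have hx0 : x' ≠ 0 := by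
    rintro rfl
    exact hxt isAlgebraic_zero
  have hE0 : 0 ≤ E := poleDiv_nonneg x'
  have hEpos : ∀ Q : Place k K, 0 < E Q ↔ 1 < Q.1 x' := by
    intro Q
    rw [hE, poleDiv_apply hK, ← Place.ord_neg_iff Q hx0]
    constructor
    · intro h
      by_contra hge
      push Not at hge
      rw [max_eq_right (by omega)] at h
      exact lt_irrefl _ h
    · intro h
      exact lt_max_of_lt_left (by omega)
  have hEexact : ∀ Q : Place k K, 0 < E Q → Q.1 x' = exp (E Q) := by
    intro Q hQ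
    have h1 := (hEpos Q).mp hQ
    rw [← Place.ord_neg_iff Q hx0] at h1
    rw [hE, poleDiv_apply hK, max_eq_left (by omega), Place.val_eq_exp_neg_ord Q hx0]
  have hEzero : ∀ Q : Place k K, ¬ 0 < E Q → E Q = 0 := by
    intro Q h
    have := hE0 Q
    simp only [Finsupp.coe_zero, Pi.zero_apply] at this
    omega
  have hx'L : x' ∈ L E := mem_L_poleDiv hK x'
  have hpos : ∀ Q : Place k K, 0 < Q.1 x' := fun Q =>
    zero_lt_iff.mpr ((Valuation.ne_zero_iff _).mpr hx0)
  -- facts about `φ`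
  have h1φ : ∃ i, φ i = 1 := ⟨0, rfl⟩
  have hφ0 : φ 0 = 1 := rfl
  have hφW : ∀ i, φ i ∈ Submodule.span k (Set.range φ) := fun i => Submodule.subset_span ⟨i, rfl⟩
  have hφL : ∀ i, φ i ∈ L E := by
    intro i Q
    obtain ⟨j, hj⟩ := exists_least φ Q
    rw [hpd, exp_mapDiv_of_one hK φ h1φ Q hj]
    exact hj i
  -- chart 1
  have hv₁ : ∀ Q : Place k K, 1 < Q.1 y' → 1 < Q.1 x' := by
    intro Q hQ
    rw [← hEpos]
    have h2 := lt_of_lt_of_le hQ (hy' Q)
    rwa [← exp_zero, exp_lt_exp] at h2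
  have hW₁ : ∀ w ∈ Submodule.span k (Set.range φ), w ∈ Algebra.adjoin k ({x', y'} : Set K) := by
    intro w hw
    rw [← hspan] at hw
    refine (Submodule.span_le (p := Subalgebra.toSubmodule
      (Algebra.adjoin k ({x', y'} : Set K)))).mpr ?_ hw
    rintro _ ⟨i, rfl⟩
    fin_cases i
    · exact Subalgebra.one_mem _
    · exact Algebra.subset_adjoin (by simp)
    · exact Algebra.subset_adjoin (by simp)
  have H₁ : ∀ P : Place k K, P.1 x' ≤ 1 → ∀ z : K, P.1 z ≤ 1 →
      z ∈ locAt P (Algebra.adjoin k ({x', y'} : Set K)) := by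
    intro P hPx z hz
    have hEP : E P = 0 := by
      apply hEzero
      intro h
      exact absurd hPx (not_le.mpr ((hEpos P).mp h))
    have hφP : ∀ i, P.1 (φ i) ≤ 1 := by
      intro i
      have := hφL i P
      rwa [hEP, exp_zero] at this
    have hleast0 : ∀ i, P.1 (φ i) ≤ P.1 (φ 0) := by
      intro i
      rw [hφ0, map_one]
      exact hφP i
    have h0 : φ 0 ≠ 0 := by rw [hφ0]; exact one_ne_zero
    have hz' := (inLocRing_iff h0 hleast0).mp (hns P z hz)
    refine locAt_mono P ?_ hz'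
    unfold ratioAlg
    rw [Algebra.adjoin_le_iff]
    rintro _ ⟨i, rfl⟩
    simp only [hφ0, div_one]
    exact hW₁ _ (hφW i)
  have hzQ : ∀ Q : Place k K, Q.1 z ≤ exp (E Q) ^ m := by
    intro Q
    have := hz Q
    rwa [Finsupp.smul_apply, exp_nsmul] at this
  have hz₁ : ∀ Q : Place k K, 1 < Q.1 z → 1 < Q.1 x' := by
    intro Q hQ
    rw [← hEpos]
    by_contra hno
    have h2 := hzQ Q
    rw [hEzero Q hno, exp_zero, one_pow] at h2
    exact absurd h2 (not_le.mpr hQ)
  obtain ⟨b, hb⟩ := chart_repr hK hxt hv₁ hgen H₁ hdeg hz₁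
  -- chart 2
  set u : K := x'⁻¹ with hu
  set v : K := y' / x' with hv
  have hut₂ : Transcendental k u := by
    intro h
    have := h.inv
    rw [hu, inv_inv] at this
    exact hxt this
  have hQu : ∀ Q : Place k K, Q.1 u = (Q.1 x')⁻¹ := fun Q => map_inv₀ _ _
  have hv₂ : ∀ Q : Place k K, 1 < Q.1 v → 1 < Q.1 u := by
    intro Q hQ
    rw [hv, map_div₀, one_lt_div₀ (hpos Q)] at hQ
    rw [hQu, one_lt_inv₀ (hpos Q)]
    by_cases hEQ : 0 < E Q
    · have h2 := hy' Q
      rw [← hEexact Q hEQ] at h2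
      exact absurd h2 (not_le.mpr hQ)
    · have h2 := hy' Q
      rw [hEzero Q hEQ, exp_zero] at h2
      exact lt_of_lt_of_le hQ h2
  have hgen₂ : IntermediateField.adjoin k ({u, v} : Set K) = ⊤ := by
    rw [eq_top_iff, ← hgen, IntermediateField.adjoin_le_iff]
    have hum : u ∈ IntermediateField.adjoin k ({u, v} : Set K) :=
      IntermediateField.subset_adjoin k _ (by simp)
    have hvm : v ∈ IntermediateField.adjoin k ({u, v} : Set K) :=
      IntermediateField.subset_adjoin k _ (by simp)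
    have hx'm : x' ∈ IntermediateField.adjoin k ({u, v} : Set K) := by
      have := inv_mem hum
      rwa [hu, inv_inv] at this
    intro w hw
    rcases hw with h | h
    · rw [h]; exact hx'm
    · rw [Set.mem_singleton_iff] at h
      have : y' = v * x' := by rw [hv, div_mul_cancel₀ _ hx0]
      rw [h, this]
      exact mul_mem hvm hx'm
  have hdeg₂ : (poleDiv u : Divisor k K).deg = dn := by
    rw [hu, deg_zeroDiv hK hxt, ← deg_poleDiv hK hxt]
    exact hdeg
  have hW₂ : ∀ w ∈ Submodule.span k (Set.range φ),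
      w / x' ∈ Algebra.adjoin k ({u, v} : Set K) := by
    intro w hw
    rw [← hspan] at hw
    induction hw using Submodule.span_induction with
    | mem w hw =>
      obtain ⟨i, rfl⟩ := hw
      fin_cases i
      · have : (1 : K) / x' = u := one_div _
        change (1 : K) / x' ∈ _
        rw [this]
        exact Algebra.subset_adjoin (by simp)
      · change x' / x' ∈ _
        rw [div_self hx0]
        exact Subalgebra.one_mem _
      · change v ∈ _
        exact Algebra.subset_adjoin (by simp)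
    | zero => rw [zero_div]; exact Subalgebra.zero_mem _
    | add a b _ _ ha hb => rw [add_div]; exact Subalgebra.add_mem _ ha hb
    | smul c a _ ha => rw [smul_div_assoc]; exact Subalgebra.smul_mem _ ha c
  have H₂ : ∀ P : Place k K, P.1 u ≤ 1 → ∀ z : K, P.1 z ≤ 1 →
      z ∈ locAt P (Algebra.adjoin k ({u, v} : Set K)) := by
    intro P hPu z hz
    rw [hQu, inv_le_one₀ (hpos P)] at hPu
    obtain ⟨j, hleast⟩ := exists_least φ P
    have hexp : exp (E P) = P.1 (φ j) := by
      rw [hpd]; exact exp_mapDiv_of_one hK φ h1φ P hleast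
    have hj1 : 1 ≤ P.1 (φ j) := by
      have := hleast 0
      rwa [hφ0, map_one] at this
    have hj0 : φ j ≠ 0 := by
      intro h0
      rw [h0, map_zero] at hj1
      exact absurd hj1 (by simp)
    have hPx' : P.1 x' = P.1 (φ j) := by
      rw [← hexp]
      by_cases hEP : 0 < E P
      · exact hEexact P hEP
      · have h2 := hx'L P
        rw [hEzero P hEP, exp_zero] at h2 ⊢
        exact le_antisymm h2 hPu
    have hunit : P.1 (φ j / x') = 1 := by
      rw [map_div₀, hPx']
      exact div_self (by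
        intro h
        rw [h] at hj1
        exact absurd hj1 (by simp))
    have hz' := (inLocRing_iff hj0 hleast).mp (hns P z hz)
    refine locAt_mono_of_le_locAt ?_ hz'
    unfold ratioAlg
    rw [Algebra.adjoin_le_iff]
    rintro _ ⟨i, rfl⟩
    have e : φ i / φ j = (φ i / x') * (φ j / x')⁻¹ := by field_simp
    change φ i / φ j ∈ locAt P _
    rw [e]
    exact (locAt P _).mul_mem (le_locAt P _ (hW₂ _ (hφW i)))
      (inv_mem_locAt (le_locAt P _ (hW₂ _ (hφW j))) hunit)
  have hz₂ : ∀ Q : Place k K, 1 < Q.1 (z * u ^ m) → 1 < Q.1 u := by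
    intro Q hQ
    rw [map_mul, map_pow] at hQ
    by_cases hEQ : 0 < E Q
    · exfalso
      have h2 := hzQ Q
      rw [← hEexact Q hEQ] at h2
      have h3 : Q.1 z * Q.1 u ^ m ≤ 1 := by
        calc Q.1 z * Q.1 u ^ m ≤ Q.1 x' ^ m * Q.1 u ^ m := mul_le_mul_left h2 _
          _ = 1 := by rw [← mul_pow, hQu, mul_inv_cancel₀ (hpos Q).ne', one_pow]
      exact absurd h3 (not_le.mpr hQ)
    · have h2 := hzQ Q
      rw [hEzero Q hEQ, exp_zero, one_pow] at h2
      by_contra hno
      push Not at hno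
      have h3 : Q.1 z * Q.1 u ^ m ≤ 1 := by
        calc Q.1 z * Q.1 u ^ m ≤ 1 * 1 := mul_le_mul' h2 (pow_le_one' hno m)
          _ = 1 := one_mul _
      exact absurd h3 (not_le.mpr hQ)
  obtain ⟨c, hc⟩ := chart_repr hK hut₂ hv₂ hgen₂ H₂ hdeg₂ hz₂
  -- uniqueness
  have hzsum : z = ∑ j : Fin dn, (aeval u (c j) * x' ^ (m - (j : ℕ))) * y' ^ (j : ℕ) := by
    have h1 : z = x' ^ m * (z * u ^ m) := by
      rw [hu, inv_pow]
      field_simp
    rw [h1, hc, Finset.mul_sum]
    refine Finset.sum_congr rfl fun j _ => ?_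
    have hjm' := hjm j
    have h2 : x' ^ m = x' ^ (m - (j : ℕ)) * x' ^ (j : ℕ) := by
      rw [← pow_add]; congr 1; omega
    rw [hv, div_pow, h2]
    field_simp
  have huniq : ∀ j : Fin dn, aeval x' (b j) = aeval u (c j) * x' ^ (m - (j : ℕ)) := by
    intro j
    refine eq_of_sum_aeval_mul_pow_eq hli (a := fun j => aeval x' (b j))
      (b := fun j => aeval u (c j) * x' ^ (m - (j : ℕ)))
      (fun j => aeval_mem_adjoin_simple x' _) (fun j => ?_) (hb.symm.trans hzsum) j
    refine mul_mem ?_ (pow_mem (IntermediateField.mem_adjoin_simple_self k x') _)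
    have := aeval_mem_adjoin_simple (k := k) u (c j)
    rwa [hu, adjoin_inv_eq] at this
  -- degrees
  obtain ⟨Q₀, hQ₀⟩ := exists_pole hK hxt
  have hdegb : ∀ j : Fin dn, (b j).natDegree ≤ m - (j : ℕ) := by
    intro j
    by_cases hb0 : b j = 0
    · rw [hb0, natDegree_zero]; exact Nat.zero_le _
    have h1 := val_aeval_of_pole Q₀ hQ₀ hb0
    rw [huniq j, map_mul, map_pow] at h1
    have hu1 : Q₀.1 u ≤ 1 := by
      rw [hQu, inv_le_one₀ (hpos Q₀)]; exact hQ₀.le
    have h2 : Q₀.1 (aeval u (c j)) ≤ 1 := val_aeval_le_one Q₀.1 Q₀.2.1 hu1 (c j)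
    have h3 : Q₀.1 x' ^ (b j).natDegree ≤ Q₀.1 x' ^ (m - (j : ℕ)) := by
      rw [← h1]
      calc Q₀.1 (aeval u (c j)) * Q₀.1 x' ^ (m - (j : ℕ)) ≤ 1 * Q₀.1 x' ^ (m - (j : ℕ)) :=
            mul_le_mul_left h2 _
        _ = _ := one_mul _
    exact (pow_le_pow_iff_right₀ hQ₀).mp h3
  refine ⟨fun j => ⟨b j, ?_⟩, ?_⟩
  · rw [mem_degreeLT]
    refine lt_of_le_of_lt degree_le_natDegree ?_
    have := hdegb j
    have hjm' := hjm j
    exact_mod_cast (by omega : (b j).natDegree < m + 1 - (j : ℕ))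
  · rw [planeMap_apply]
    exact hb.symm

end Plane4

end Groth.Agent.Lib.Helper4.FF
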