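import Mathlib
import Groth.Agent.Lib.Helper4.FF.ProjMap8

namespace Groth.Agent.Lib.Helper4.FF

open FunFld WithZero

section Conductor2

variable {k K : Type*} [Field k] [Field K] [Algebra k K]

/-- a conductor element: `w₀ · ⋃ L(m (x)_∞) ⊆ A` -/
theorem exists_conductor_elt (hK : IsFunctionField k K) (A : Subalgebra k K) {x : K}
    (hxA : x ∈ A) (hxt : Transcendental k x)
    (hfrac : ∀ b : K, ∃ u ∈ A, ∃ w ∈ A, w ≠ 0 ∧ b * w = u) :
    ∃ w₀ ∈ A, w₀ ≠ 0 ∧ ∀ (m : ℕ) (y : K), y ∈ L (m • (poleDiv x : Divisor k K)) →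
      w₀ * y ∈ A := by
  classical
  set E : Divisor k K := poleDiv x with hEdef
  set m₀ : ℕ := 2 * genus k K + 1 with hm₀
  have := L_finite hK (m₀ • E)
  obtain ⟨w₀, hw₀, hw₀0, hW⟩ := exists_common_denominator A hfrac (L (m₀ • E))
  have hspan : ∀ y : K, y ∈ Submodule.span A (L (m₀ • E) : Set K) → w₀ * y ∈ A := by
    intro y h1
    induction h1 using Submodule.span_induction with
    | mem y hy => exact hW y hy
    | zero => rw [mul_zero]; exact A.zero_mem
    | add a b _ _ ha hb => rw [mul_add]; exact A.add_mem ha hb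
    | smul c a _ ha =>
      have : w₀ * (c • a) = (c : K) * (w₀ * a) := by
        change w₀ * ((c : K) * a) = _
        ring
      rw [this]
      exact A.mul_mem c.2 ha
  exact ⟨w₀, hw₀, hw₀0, fun m y hy => hspan y (mem_span_of_poleDiv hK hxt A hxA m hy)⟩

/-- killing the poles of `y` outside the poles of `x` by a unit at `P` of `A` -/
theorem exists_unit_mul_mem_L (hK : IsFunctionField k K) (P : Place k K) (A : Subalgebra k K)
    {x : K} (hx0 : x ≠ 0)
    (hApoles : ∀ a ∈ A, a ∈ polesIn (poleDiv x : Divisor k K) (poleDiv_nonneg x)) (y : K)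
    (hsep : ∀ Q : Place k K, 1 < Q.1 y → Q.1 x ≤ 1 → ∃ f ∈ A, P.1 f = 1 ∧ Q.1 f < 1) :
    ∃ w ∈ A, P.1 w = 1 ∧ ∃ m : ℕ, y * w ∈ L (m • (poleDiv x : Divisor k K)) := by
  classical
  set E : Divisor k K := poleDiv x with hEdef
  have hE : 0 ≤ E := poleDiv_nonneg x
  have hEpos : ∀ Q : Place k K, 0 < E Q ↔ 1 < Q.1 x := by
    intro Q
    rw [hEdef, poleDiv_apply hK, ← Place.ord_neg_iff Q hx0]
    constructor
    · intro h
      by_contra hge
      push Not at hge
      rw [max_eq_right (by omega)] at h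
      exact lt_irrefl _ h
    · intro h
      exact lt_max_of_lt_left (by omega)
  by_cases hy0 : y = 0
  · exact ⟨1, A.one_mem, map_one _, 0, by rw [hy0, zero_mul]; exact Submodule.zero_mem _⟩
  set G : Divisor k K := poleDiv y with hG
  have hG0 : 0 ≤ G := poleDiv_nonneg y
  set T := G.support.filter (fun Q => E Q = 0) with hT
  have hsepT : ∀ Q ∈ T, ∃ f ∈ A, P.1 f = 1 ∧ ∃ m : ℕ, f ∈ L (m • E - Finsupp.single Q 1) := by
    intro Q hQ
    rw [hT, Finset.mem_filter, Finsupp.mem_support_iff] at hQ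
    obtain ⟨hQG, hQE⟩ := hQ
    have hQx : Q.1 x ≤ 1 := by
      by_contra h
      push Not at h
      have := (hEpos Q).mpr h
      omega
    have hQy : 1 < Q.1 y := by
      have hpos : 0 < G Q := lt_of_le_of_ne (hG0 Q) (Ne.symm hQG)
      rw [hG, poleDiv_apply hK] at hpos
      have : Q.ord y < 0 := by
        by_contra hge
        push Not at hge
        rw [max_eq_right (by omega)] at hpos
        exact lt_irrefl _ hpos
      exact (Place.ord_neg_iff Q hy0).mp this
    obtain ⟨f, hfA, hf1, hfQ⟩ := hsep Q hQy hQx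
    obtain ⟨m, hm⟩ := hApoles f hfA
    refine ⟨f, hfA, hf1, m, ?_⟩
    intro Q'
    rw [Finsupp.sub_apply, Finsupp.single_apply]
    split_ifs with h
    · subst h
      rw [Finsupp.smul_apply, hQE, smul_zero, zero_sub]
      exact lt_one_iff_le_exp_neg_one.mp hfQ
    · rw [sub_zero]; exact hm Q'
  obtain ⟨w, hwA, hw1, m, hwL⟩ := exists_killer_gen P A T (fun Q => (G Q).toNat) hsepT
  set m₁ := ∑ Q ∈ G.support, (G Q).toNat with hm₁
  have hyL : y ∈ L (∑ Q ∈ T, (Finsupp.single Q (((G Q).toNat : ℕ) : ℤ) : Divisor k K) +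
      m₁ • E) := by
    refine L_mono ?_ (mem_L_poleDiv hK y)
    intro Q
    rw [Finsupp.add_apply, Finsupp.smul_apply, Finsupp.finsetSum_apply]
    simp only [Finsupp.single_apply]
    rw [Finset.sum_ite_eq' T Q, nsmul_eq_mul]
    have hGQ : G Q = ((G Q).toNat : ℤ) := (Int.toNat_of_nonneg (hG0 Q)).symm
    have hmE : (0 : ℤ) ≤ (m₁ : ℤ) * E Q := mul_nonneg (Int.natCast_nonneg _) (hE Q)
    split_ifs with hQT
    · rw [← hG]; omega
    · rw [zero_add, ← hG]
      by_cases hQ0 : G Q = 0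
      · rw [hQ0]; exact hmE
      · have hQs : Q ∈ G.support := Finsupp.mem_support_iff.mpr hQ0
        have hEQ : E Q ≠ 0 := by
          intro h0
          exact hQT (by rw [hT, Finset.mem_filter]; exact ⟨hQs, h0⟩)
        have hEQ1 : 1 ≤ E Q := by
          have := hE Q
          simp only [Finsupp.coe_zero, Pi.zero_apply] at this
          omega
        have h1 : (G Q).toNat ≤ m₁ :=
          Finset.single_le_sum (f := fun Q => (G Q).toNat) (fun _ _ => Nat.zero_le _) hQs
        have h3 : ((G Q).toNat : ℤ) ≤ (m₁ : ℤ) := by exact_mod_cast h1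
        nlinarith
  refine ⟨w, hwA, hw1, m₁ + m, ?_⟩
  have h1 := mul_mem_L_add hyL hwL
  have e : ∑ Q ∈ T, (Finsupp.single Q (((G Q).toNat : ℕ) : ℤ) : Divisor k K) + m₁ • E +
      (m • E - ∑ Q ∈ T, (Finsupp.single Q (((G Q).toNat : ℕ) : ℤ) : Divisor k K)) =
      (m₁ + m) • E := by
    rw [add_smul]; abel
  rwa [e] at h1

end Conductor2

end Groth.Agent.Lib.Helper4.FF
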