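import Mathlib
import Groth.Agent.Lib.Helper4.FF.LLSThree

namespace Groth.Agent.Lib.Helper4.FF

open FunFld WithZero

section S16266

variable {k K : Type*} [Field k] [Field K] [Algebra k K]

theorem no_common_ramification (hK : IsFunctionField k K) (D : Divisor k K)
    (V : Submodule k K) (r : ℕ)
    (P : Place k K)
    (hns : ∀ R : Place k K,
      Module.finrank k ↥(V ⊓ L (D - Finsupp.single R (r : ℤ))) ≤ 1)
    (hns' : ∀ R : Place k K,
        V ⊓ L (D - Finsupp.single P 1 - Finsupp.single R ((r : ℤ) + 1)) = ⊥)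
    (Q : Place k K) (hQP : Q ≠ P) :
    ¬ (V ⊓ L (D - Finsupp.single Q ((r : ℤ) + 1)) ≠ ⊥ ∧
       V ⊓ L (D - Finsupp.single P 1 - Finsupp.single Q (r : ℤ)) ≠ ⊥) := by
  classical
  rintro ⟨h1, h2⟩
  obtain ⟨s, hs, hs0⟩ := Submodule.exists_mem_ne_zero_of_ne_bot h1
  obtain ⟨s', hs', hs0'⟩ := Submodule.exists_mem_ne_zero_of_ne_bot h2
  obtain ⟨hsV, hsL⟩ := Submodule.mem_inf.mp hs
  obtain ⟨hsV', hsL'⟩ := Submodule.mem_inf.mp hs'
  -- both lie in `V(-rQ)`
  have hfin := finite_inf_L hK V (D - Finsupp.single Q (r : ℤ))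
  have hm1 : s ∈ V ⊓ L (D - Finsupp.single Q (r : ℤ)) := by
    refine ⟨hsV, L_mono ?_ hsL⟩
    exact sub_le_sub_left (single_le_single Q (by omega)) D
  have hm2 : s' ∈ V ⊓ L (D - Finsupp.single Q (r : ℤ)) := by
    refine ⟨hsV', L_mono ?_ hsL'⟩
    intro R
    rw [Finsupp.sub_apply, Finsupp.sub_apply, Finsupp.sub_apply, Finsupp.single_apply]
    split_ifs <;> omega
  have hle := hns Q
  obtain ⟨c, hc⟩ : ∃ c : k, c • s' = s := by
    have h3 := finrank_le_one_iff (K := k) (V := ↥(V ⊓ L (D - Finsupp.single Q (r : ℤ)))) |>.mp hle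
    obtain ⟨v, hv⟩ := h3
    obtain ⟨a, ha⟩ := hv ⟨s, hm1⟩
    obtain ⟨b, hb⟩ := hv ⟨s', hm2⟩
    have ha' : a • (v : K) = s := congrArg Subtype.val ha
    have hb' : b • (v : K) = s' := congrArg Subtype.val hb
    have hb0 : b ≠ 0 := by
      rintro rfl
      rw [zero_smul] at hb'
      exact hs0' hb'.symm
    refine ⟨a * b⁻¹, ?_⟩
    rw [← hb', smul_smul, mul_assoc, inv_mul_cancel₀ hb0, mul_one, ha']
  -- hence `s ∈ V(-P-(r+1)Q)`
  have hsP : s ∈ L (D - Finsupp.single P 1) := by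
    rw [← hc]
    apply Submodule.smul_mem
    refine L_mono ?_ hsL'
    intro R
    simp only [Finsupp.sub_apply, Finsupp.single_apply (a := Q)]
    split_ifs <;> omega
  have hmem : s ∈ V ⊓ L (D - Finsupp.single P 1 - Finsupp.single Q ((r : ℤ) + 1)) := by
    refine ⟨hsV, ?_⟩
    have := mem_L_sub_sub (Ne.symm hQP) hsP hsL
    rwa [← sub_sub] at this
  rw [hns' Q, Submodule.mem_bot] at hmem
  exact hs0 hmem

end S16266

end Groth.Agent.Lib.Helper4.FF
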