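import Mathlib
import Groth.Agent.Lib.Helper4.FF.LLSThree

namespace Groth.Agent.Lib.Helper4.FF

open FunFld WithZero

section S16265

variable {k K : Type*} [Field k] [Field K] [Algebra k K] [IsAlgClosed k]

/-- dimension of the members of `V` vanishing to orders `≥ m` at `P` and `≥ n` at `Q` -/
noncomputable def wd (V : Submodule k K) (D : Divisor k K) (P Q : Place k K) (m n : ℤ) : ℕ :=
  Module.finrank k ↥(V ⊓ L (D - Finsupp.single P m - Finsupp.single Q n))

lemma wd_stepQ (hK : IsFunctionField k K) (V : Submodule k K) (D : Divisor k K) (P Q : Place k K)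
    (m n : ℤ) : wd V D P Q m n ≤ wd V D P Q m (n + 1) + 1 := by
  have := vd_step hK V (D - Finsupp.single P m) Q n
  rw [Place.deg_eq_one hK Q] at this
  exact this

lemma wd_stepP (hK : IsFunctionField k K) (V : Submodule k K) (D : Divisor k K) (P Q : Place k K)
    (m n : ℤ) : wd V D P Q m n ≤ wd V D P Q (m + 1) n + 1 := by
  have := vd_step hK V (D - Finsupp.single Q n) P m
  rw [Place.deg_eq_one hK P] at this
  unfold wd
  unfold vd at this
  rw [sub_right_comm D (Finsupp.single P m), sub_right_comm D (Finsupp.single P (m + 1))]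
  exact this

omit [IsAlgClosed k] in
lemma wd_mono (hK : IsFunctionField k K) (V : Submodule k K) (D : Divisor k K) (P Q : Place k K)
    {m m' n n' : ℤ} (hm : m ≤ m') (hn : n ≤ n') : wd V D P Q m' n' ≤ wd V D P Q m n := by
  unfold wd
  have := finite_inf_L hK V (D - Finsupp.single P m - Finsupp.single Q n)
  apply Submodule.finrank_mono
  apply inf_le_inf_left
  apply L_mono
  exact sub_le_sub (sub_le_sub_left (single_le_single P hm) D) (single_le_single Q hn)

omit [IsAlgClosed k] in
lemma inf_L_inf (V : Submodule k K) (D : Divisor k K) {P Q : Place k K} (hPQ : P ≠ Q) (m n : ℤ) :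
    (V ⊓ L (D - Finsupp.single P (m + 1) - Finsupp.single Q n)) ⊓
      (V ⊓ L (D - Finsupp.single P m - Finsupp.single Q (n + 1))) =
      V ⊓ L (D - Finsupp.single P (m + 1) - Finsupp.single Q (n + 1)) := by
  classical
  apply le_antisymm
  · rintro x ⟨⟨hxV, hx1⟩, ⟨-, hx2⟩⟩
    refine ⟨hxV, ?_⟩
    intro R
    have h1 := hx1 R
    have h2 := hx2 R
    simp only [Finsupp.sub_apply, Finsupp.single_apply] at h1 h2 ⊢
    by_cases hR : P = R
    · have hQR : Q ≠ R := fun h => hPQ (hR.trans h.symm)
      rw [if_pos hR, if_neg hQR] at h1 ⊢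
      exact h1
    · rw [if_neg hR] at h2 ⊢
      exact h2
  · intro x hx
    refine ⟨⟨hx.1, ?_⟩, ⟨hx.1, ?_⟩⟩
    · refine L_mono ?_ hx.2
      exact sub_le_sub_left (single_le_single Q (by omega)) _
    · refine L_mono ?_ hx.2
      exact sub_le_sub_right (sub_le_sub_left (single_le_single P (by omega)) _) _

theorem special_pair_iff (hK : IsFunctionField k K) (D : Divisor k K) (V : Submodule k K)
    (P Q : Place k K) (hPQ : P ≠ Q) (a b : ℤ) :
    ((2 ≤ wd V D P Q a (b - 1) ∨ 1 ≤ wd V D P Q a (b + 1)) ∧
      (2 ≤ wd V D P Q (a - 1) b ∨ 1 ≤ wd V D P Q (a + 1) b)) ↔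
    (1 ≤ wd V D P Q (a + 1) (b + 1) ∨ 3 ≤ wd V D P Q (a - 1) (b - 1) ∨
      (1 ≤ wd V D P Q a (b + 1) ∧ 2 ≤ wd V D P Q (a - 1) b) ∨
      (1 ≤ wd V D P Q (a + 1) b ∧ 2 ≤ wd V D P Q a (b - 1))) := by
  constructor
  · rintro ⟨h1 | h1, h2 | h2⟩
    · -- case (i)
      by_cases h3 : 3 ≤ wd V D P Q (a - 1) (b - 1)
      · exact Or.inr (Or.inl h3)
      · right; right; left
        refine ⟨?_, h2⟩
        -- both spaces equal `U`
        set U := V ⊓ L (D - Finsupp.single P (a - 1) - Finsupp.single Q (b - 1)) with hU
        set X := V ⊓ L (D - Finsupp.single P a - Finsupp.single Q (b - 1)) with hX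
        set Y := V ⊓ L (D - Finsupp.single P (a - 1) - Finsupp.single Q b) with hY
        have hfU := finite_inf_L hK V (D - Finsupp.single P (a - 1) - Finsupp.single Q (b - 1))
        have hXU : X ≤ U := by
          apply inf_le_inf_left
          apply L_mono
          exact sub_le_sub_right (sub_le_sub_left (single_le_single P (by omega)) _) _
        have hYU : Y ≤ U := by
          apply inf_le_inf_left
          apply L_mono
          exact sub_le_sub_left (single_le_single Q (by omega)) _
        have hUle : Module.finrank k U ≤ 2 := by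
          have : wd V D P Q (a - 1) (b - 1) = Module.finrank k U := rfl
          omega
        have hXeq : X = U := Submodule.eq_of_le_of_finrank_le hXU (by
          have : wd V D P Q a (b - 1) = Module.finrank k X := rfl
          omega)
        have hYeq : Y = U := Submodule.eq_of_le_of_finrank_le hYU (by
          have : wd V D P Q (a - 1) b = Module.finrank k Y := rfl
          omega)
        have hinf := inf_L_inf V D hPQ (a - 1) (b - 1)
        rw [sub_add_cancel, sub_add_cancel] at hinf
        rw [← hX, ← hY, hXeq, hYeq, inf_idem] at hinf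
        have hab : 2 ≤ wd V D P Q a b := by
          have : wd V D P Q a b = Module.finrank k U := by
            unfold wd; rw [← hinf]
          have : wd V D P Q a (b - 1) = Module.finrank k X := rfl
          rw [hXeq] at this
          omega
        have := wd_stepQ hK V D P Q a b
        omega
    · exact Or.inr (Or.inr (Or.inr ⟨h2, h1⟩))
    · exact Or.inr (Or.inr (Or.inl ⟨h1, h2⟩))
    · -- case (iv)
      by_cases h3 : 1 ≤ wd V D P Q (a + 1) (b + 1)
      · exact Or.inl h3
      · right; right; left
        refine ⟨h1, ?_⟩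
        set X := V ⊓ L (D - Finsupp.single P (a + 1) - Finsupp.single Q b) with hX
        set Y := V ⊓ L (D - Finsupp.single P a - Finsupp.single Q (b + 1)) with hY
        set Z := V ⊓ L (D - Finsupp.single P a - Finsupp.single Q b) with hZ
        have hfZ := finite_inf_L hK V (D - Finsupp.single P a - Finsupp.single Q b)
        have hXZ : X ≤ Z := by
          apply inf_le_inf_left
          apply L_mono
          exact sub_le_sub_right (sub_le_sub_left (single_le_single P (by omega)) _) _
        have hYZ : Y ≤ Z := by
          apply inf_le_inf_left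
          apply L_mono
          exact sub_le_sub_left (single_le_single Q (by omega)) _
        have hfX : Module.Finite k X := Module.Finite.of_injective (Submodule.inclusion hXZ)
          (Submodule.inclusion_injective _)
        have hfY : Module.Finite k Y := Module.Finite.of_injective (Submodule.inclusion hYZ)
          (Submodule.inclusion_injective _)
        have hinf := inf_L_inf V D hPQ a b
        rw [← hX, ← hY] at hinf
        have h0 : Module.finrank k ↥(X ⊓ Y) = 0 := by
          rw [hinf]
          have : wd V D P Q (a + 1) (b + 1) =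
            Module.finrank k ↥(V ⊓ L (D - Finsupp.single P (a + 1) - Finsupp.single Q (b + 1))) := rfl
          omega
        have hsum := Submodule.finrank_sup_add_finrank_inf_eq X Y
        have hle : Module.finrank k ↥(X ⊔ Y) ≤ Module.finrank k Z :=
          Submodule.finrank_mono (sup_le hXZ hYZ)
        have hx : wd V D P Q (a + 1) b = Module.finrank k X := rfl
        have hy : wd V D P Q a (b + 1) = Module.finrank k Y := rfl
        have hz : wd V D P Q a b = Module.finrank k Z := rfl
        have := wd_mono hK V D P Q (show a - 1 ≤ a by omega) (le_refl b)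
        omega
  · rintro (h | h | ⟨h1, h2⟩ | ⟨h1, h2⟩)
    · refine ⟨Or.inr ?_, Or.inr ?_⟩
      · exact h.trans (wd_mono hK V D P Q (by omega) le_rfl)
      · exact h.trans (wd_mono hK V D P Q le_rfl (by omega))
    · refine ⟨Or.inl ?_, Or.inl ?_⟩
      · have := wd_stepP hK V D P Q (a - 1) (b - 1)
        rw [sub_add_cancel] at this
        omega
      · have := wd_stepQ hK V D P Q (a - 1) (b - 1)
        rw [sub_add_cancel] at this
        omega
    · exact ⟨Or.inr h1, Or.inl h2⟩
    · exact ⟨Or.inl h2, Or.inr h1⟩

end S16265

end Groth.Agent.Lib.Helper4.FF
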